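import Cfsg.Agent.Lib.Blocks.DihedralBlock
import Cfsg.Agent.S0948
import Cfsg.Agent.S4479
import Cfsg.Agent.S4482
import Cfsg.Agent.Lib.Char.Degree
import Cfsg.Agent.Lib.Char.GlaubermanMod

/-!
# The order of a one-class group with dihedral Sylow subgroup, up to a bounded factor
-/

set_option autoImplicit false
set_option linter.unusedSectionVars false
set_option linter.style.haveILetI false

namespace Cfsg.Agent.DGroup

open Cfsg Cfsg.Agent.TwoFus Cfsg.Agent.Char Cfsg.Agent.CharX Cfsg.Agent.Blocks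

universe u

variable {G : Type u} [Group G]

/-- The centraliser factor of the order formula. -/
noncomputable def centFactor {P : Subgroup G} (d : Dih P) : ℚ :=
  if d.m = 2 then
    8 * (Nat.card (Subgroup.centralizer ({d.z} : Set G)) : ℚ) ^ 3 /
      (Nat.card (Subgroup.centralizer ({d.z, d.y} : Set G)) : ℚ) ^ 2
  else
    2 * (Nat.card (Subgroup.centralizer ({d.z} : Set G)) : ℚ) ^ 3 *
      (1 / (Nat.card (Subgroup.centralizer ({d.z, d.y} : Set G)) : ℚ) +
        1 / (Nat.card (Subgroup.centralizer ({d.z, d.x * d.y} : Set G)) : ℚ)) ^ 2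

theorem order_formula [Finite G] (P : Sylow 2 G) (d : Dih (P : Subgroup G))
    (h1 : ∀ a b : G, orderOf a = 2 → orderOf b = 2 → IsConj a b) :
    ∃ f : ℚ, 3 / 8 ≤ f ∧ f ≤ 15 / 8 ∧ (Nat.card G : ℚ) = f * centFactor d := by
  classical
  haveI := Fact.mk Nat.prime_two
  haveI : Fintype G := Fintype.ofFinite G
  obtain ⟨M, hM⟩ := Cfsg.Agent.GlaubermanMod.exists_isPModular 2
  haveI : M.IsPrime := hM.2.1.isPrime
  have hzo : orderOf d.z = 2 := orderOf_eq_prime (by rw [pow_two, d.zz]) d.z_ne
  have hyo : orderOf d.y = 2 := orderOf_eq_prime (by rw [pow_two, d.yy])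
    (fun e => d.ynot (e ▸ one_mem _))
  have hgen : Subgroup.closure ({d.x, d.y} : Set G) = (P : Subgroup G) := by
    refine le_antisymm ((Subgroup.closure_le _).2 ?_) fun a ha => ?_
    · rintro _ (rfl | rfl)
      exacts [d.hx, d.hy]
    · rcases d.cases a ha with ⟨i, rfl⟩ | ⟨i, rfl⟩
      · exact zpow_mem (Subgroup.subset_closure (by simp)) i
      · exact mul_mem (zpow_mem (Subgroup.subset_closure (by simp)) i) (Subgroup.subset_closure (by simp))
  by_cases hm2 : d.m = 2
  · -- a four-group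
    have hzx : d.z = d.x := by rw [Dih.z, hm2]; norm_num
    have hxx : d.x * d.x = 1 := by
      have := pow_orderOf_eq_one d.x
      rwa [d.hm, hm2, pow_two] at this
    have hc4 : Nat.card (P : Subgroup G) = 4 := by rw [d.card, hm2]
    have hsq : ∀ a ∈ (P : Subgroup G), a * a = 1 := by
      intro a ha
      by_cases hax : a ∈ Subgroup.zpowers d.x
      · rcases d.sq_cases (a := a) hax (by
          obtain ⟨i, rfl⟩ := hax
          show d.x ^ i * d.x ^ i = 1
          rw [← (Commute.refl d.x).mul_zpow, hxx, one_zpow]) with e | e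
        · rw [e, one_mul]
        · rw [e, d.zz]
      · exact d.out_sq a ha hax
    have hK : IsKleinFour (P : Subgroup G) := by
      refine ⟨hc4, Nat.dvd_antisymm (Monoid.exponent_dvd_of_forall_pow_eq_one fun a => Subtype.ext (by
        rw [Subgroup.coe_pow, pow_two, hsq a a.2]; rfl)) ?_⟩
      have := Monoid.order_dvd_exponent (⟨d.y, d.hy⟩ : (P : Subgroup G))
      rwa [Subgroup.orderOf_mk, hyo] at this
    obtain ⟨ζ₂, ζ₃, ζ₄, ε, hε, n2, n3, d23, d24, d34, hB, hv, e2, e3, e4, hrel⟩ :=
      S0948.result M hM P hK h1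
    have n4 : (ζ₄ : G → ℂ) ≠ (fun _ => 1) := fun e => by
      have := (hv d.z hzo).2.2
      rw [e] at this
      norm_num at this
    obtain ⟨g₀, hg₀, hG⟩ : ∃ g₀, Odd g₀ ∧ Nat.card G = 4 * g₀ :=
      ⟨(P : Subgroup G).index, Nat.not_even_iff_odd.1 fun e => P.not_dvd_index (even_iff_two_dvd.1 e),
        by rw [← hc4, Subgroup.card_mul_index]⟩
    have hnc : ¬ ∃ N : Subgroup G, N.Normal ∧ Nat.card N = g₀ := by
      rintro ⟨N, hN, hNc⟩
      haveI := hN
      have hq : Nat.card (G ⧸ N) = 2 ^ 2 := by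
        have := Subgroup.card_eq_card_quotient_mul_card_subgroup N
        rw [hG, hNc] at this
        exact (Nat.eq_of_mul_eq_mul_right hg₀.pos this).symm
      obtain ⟨g, hg⟩ := isConj_iff.1 (h1 d.z d.y hzo hyo)
      letI := IsPGroup.commGroupOfCardEqPrimeSq hq
      have he : (d.z : G ⧸ N) = d.y := by
        rw [← hg, QuotientGroup.mk_mul, QuotientGroup.mk_mul, QuotientGroup.mk_inv,
          mul_right_comm, mul_inv_cancel, one_mul]
      have hm : d.z⁻¹ * d.y ∈ N := QuotientGroup.eq.1 he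
      have hsq' : (d.z⁻¹ * d.y) * (d.z⁻¹ * d.y) = 1 :=
        hsq _ (mul_mem (inv_mem (zpow_mem d.hx _)) d.hy)
      have hne : d.z⁻¹ * d.y ≠ 1 := fun e => d.ynot ((inv_mul_eq_one.1 e) ▸ d.z_mem)
      have h2 : orderOf (d.z⁻¹ * d.y) ∣ g₀ := hNc ▸ Subgroup.orderOf_dvd_natCard N hm
      rw [orderOf_eq_prime (by rw [pow_two, hsq']) hne] at h2
      exact Nat.not_even_iff_odd.2 hg₀ (even_iff_two_dvd.2 h2)
    have hform := S4479.result M hM g₀ hg₀ hG hnc P d.z (zpow_mem d.hx _) hzo ζ₂ ζ₃ ζ₄ 1 ε (-1) hB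
      ⟨n2, n3, n4, d23, d24, d34⟩ ⟨Or.inl rfl, hε, Or.inr rfl⟩
      ⟨by rw [(hv d.z hzo).1]; norm_num, (hv d.z hzo).2.1, by rw [(hv d.z hzo).2.2]; norm_num⟩
    have hcP : Subgroup.centralizer ((P : Subgroup G) : Set G) =
        Subgroup.centralizer ({d.z, d.y} : Set G) := by
      have := Subgroup.centralizer_closure ({d.x, d.y} : Set G)
      rw [hgen] at this
      rw [hzx]
      exact this
    rw [hcP] at hform
    set a := charDegree (ζ₂ : G → ℂ) with ha
    set b := charDegree (ζ₃ : G → ℂ) with hb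
    set c := charDegree (ζ₄ : G → ℂ) with hc
    have ha1 : 0 < a := irr_deg_pos ζ₂
    have hb1 : 0 < b := irr_deg_pos ζ₃
    have hc1 : 0 < c := irr_deg_pos ζ₄
    have hc3 : 3 ≤ c := by omega
    have hrel1 : (1 : ℤ) + a + ε * b - c = 0 := by
      have := hrel 1 (by rw [orderOf_one]; exact odd_one)
      rw [deg_spec (irr_isCharacter ζ₂), deg_spec (irr_isCharacter ζ₃),
        deg_spec (irr_isCharacter ζ₄)] at this
      exact_mod_cast this
    have qc : (3 : ℚ) ≤ c := by exact_mod_cast hc3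
    have qa : (1 : ℚ) ≤ a := by exact_mod_cast ha1
    have qb : (1 : ℚ) ≤ b := by exact_mod_cast hb1
    rw [centFactor, if_pos hm2]
    refine ⟨(a : ℚ) * b * c / (((a : ℚ) + 1) * (b + (ε : ℚ)) * (c + (-1 : ℚ))), ?_, ?_, ?_⟩
    · rcases hε with e | e
      · subst e
        have hc' : (c : ℚ) = 1 + a + b := by
          have : (c : ℤ) = 1 + a + b := by linarith
          exact_mod_cast this
        push_cast
        rw [le_div_iff₀ (by apply mul_pos (mul_pos _ _) <;> linarith), hc']
        nlinarith [mul_nonneg (sub_nonneg.2 qa) (sub_nonneg.2 qb)]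
      · subst e
        have ha' : (a : ℚ) = b + c - 1 := by
          have : (a : ℤ) = b + c - 1 := by linarith
          exact_mod_cast this
        have qb3 : (3 : ℚ) ≤ b := by exact_mod_cast (show 3 ≤ b by omega)
        push_cast
        rw [le_div_iff₀ (by apply mul_pos (mul_pos _ _) <;> linarith), ha']
        nlinarith [mul_nonneg (sub_nonneg.2 qb3) (sub_nonneg.2 qc)]
    · rcases hε with e | e
      · subst e
        have hc' : (c : ℚ) = 1 + a + b := by
          have : (c : ℤ) = 1 + a + b := by linarith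
          exact_mod_cast this
        push_cast
        rw [div_le_iff₀ (by apply mul_pos (mul_pos _ _) <;> linarith), hc']
        nlinarith [mul_nonneg (sub_nonneg.2 qa) (sub_nonneg.2 qb)]
      · subst e
        have ha' : (a : ℚ) = b + c - 1 := by
          have : (a : ℤ) = b + c - 1 := by linarith
          exact_mod_cast this
        have qb3 : (3 : ℚ) ≤ b := by exact_mod_cast (show 3 ≤ b by omega)
        push_cast
        rw [div_le_iff₀ (by apply mul_pos (mul_pos _ _) <;> linarith), ha']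
        nlinarith [mul_nonneg (sub_nonneg.2 qb3) (sub_nonneg.2 qc)]
    · rw [hform]
      push_cast
      ring
  · -- order at least eight
    obtain ⟨k, hk⟩ := IsPGroup.iff_card.1 P.isPGroup'
    have hmk : 2 * d.m = 2 ^ k := d.card ▸ hk
    have hm4 : 4 ≤ d.m := by
      have := d.two_le
      obtain ⟨e, he⟩ := d.even
      rcases k with _ | _ | _ | k
      · omega
      · omega
      · omega
      · rw [pow_succ, pow_succ, pow_succ] at hmk
        have := Nat.two_pow_pos k
        omega
    obtain ⟨n, rfl⟩ : ∃ n, k = n + 3 := by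
      refine ⟨k - 3, ?_⟩
      have : 8 ≤ 2 ^ k := by omega
      by_contra hlt
      have hk2 : k ≤ 2 := by omega
      have := Nat.pow_le_pow_right (show 2 > 0 by norm_num) hk2
      omega
    have hm : d.m = 2 ^ (n + 2) := by rw [pow_succ] at hmk; omega
    have hz : d.x ^ (2 ^ (n + 1)) = d.z := by
      rw [Dih.z, hm, show ((2 ^ (n + 2) : ℕ) : ℤ) / 2 = ((2 ^ (n + 1) : ℕ) : ℤ) by
        push_cast; rw [pow_succ _ (n + 1), Int.mul_ediv_cancel _ two_ne_zero], zpow_natCast]
    have hzeta : IsPrimitiveRoot (Complex.exp (2 * Real.pi * Complex.I / d.m)) d.m :=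
      Complex.isPrimitiveRoot_exp _ (by omega)
    obtain ⟨χ₁, χ₂, χ₃, q, e, ea, eb, he, -, -, hχ₁, -, -, -, -, -, -, -, hB, hval, -⟩ :=
      DihBlock.block_structure d hzeta hM (h := 2 ^ (n + 1)) (by rw [hm, pow_succ _ (n + 1)]; ring)
        (by rw [pow_succ]; have := Nat.two_pow_pos n; omega) (dvd_pow_self 2 n.succ_ne_zero)
    have hxy : orderOf (d.x * d.y) = 2 := by
      refine orderOf_eq_prime ?_ fun e1 => ?_
      · have := d.form_sq 1; rw [zpow_one] at this; rw [pow_two, this]
      · have := d.form_not_mem 1; rw [zpow_one, e1] at this; exact this (one_mem _)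
    have hform := S4482.result M hM (n + 3) (by omega) P d.x d.y d.hx d.hy
      (by rw [d.hm, hm]; rfl) hyo d.inv hgen
      (by rw [show n + 3 - 2 = n + 1 from rfl, hz]; exact ⟨h1 _ _ hzo hyo, h1 _ _ hzo hxy⟩)
      χ₁ ((hB χ₁).2 (Or.inr (Or.inl rfl)))
      (fun e1 => hχ₁ (Subtype.ext e1)) e he (fun l hl hl' => (hval l fun hd => by
        have := Nat.le_of_dvd hl hd
        rw [hm] at this
        simp only [show n + 3 - 1 = n + 2 from rfl] at hl'
        omega).1)
    rw [show n + 3 - 2 = n + 1 from rfl, hz] at hform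
    obtain ⟨hne, hord⟩ := hform
    set x := charDegree (χ₁ : G → ℂ) with hxdef
    have hx1 : 0 < x := irr_deg_pos χ₁
    have hcong : (4 : ℤ) ∣ (x : ℤ) - e := by
      obtain ⟨N, hN⟩ := DihBlock.exists_coeff d hzeta χ₁ 0
      obtain ⟨r, hr⟩ : ∃ r, d.m = r + 1 := ⟨d.m - 1, by omega⟩
      rw [hr, Finset.sum_range_succ'] at hN
      rw [Finset.sum_congr rfl (g := fun _ => (e : ℂ)) (fun l hl => by
        rw [zero_mul, pow_zero, mul_one]
        refine (hval (l + 1) fun hd => ?_).1
        have := Nat.le_of_dvd l.succ_pos hd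
        rw [Finset.mem_range] at hl
        omega)] at hN
      simp only [Finset.sum_const, Finset.card_range, nsmul_eq_mul, zero_mul, pow_zero, mul_one] at hN
      rw [deg_spec (irr_isCharacter χ₁)] at hN
      have h' : (r : ℤ) * e + x = (r + 1 : ℤ) * N := by exact_mod_cast hN
      have h4 : (4 : ℤ) ∣ (r : ℤ) + 1 := by
        refine ⟨2 ^ n, ?_⟩
        rw [hm, pow_add] at hr
        have : ((r : ℤ) + 1) = ((r + 1 : ℕ) : ℤ) := by push_cast; ring
        rw [this, ← hr]; push_cast; ring
      have : (x : ℤ) - e = ((r : ℤ) + 1) * (N - e) := by linear_combination h'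
      rw [this]
      exact h4.mul_right _
    rw [centFactor, if_neg hm2]
    have hx0 : (0 : ℚ) < x := Nat.cast_pos.2 hx1
    rcases he with rfl | rfl
    · have h5 : (5 : ℚ) ≤ x := by exact_mod_cast (show 5 ≤ x by omega)
      refine ⟨(x : ℚ) * (x + 1) / ((x : ℚ) - 1) ^ 2, ?_, ?_, ?_⟩
      · rw [le_div_iff₀ (by nlinarith)]; nlinarith
      · rw [div_le_iff₀ (by nlinarith)]; nlinarith
      · rw [div_mul_eq_mul_div, eq_div_iff (by nlinarith)]
        push_cast at hord
        linear_combination hord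
    · have h3 : (3 : ℚ) ≤ x := by exact_mod_cast (show 3 ≤ x by omega)
      refine ⟨(x : ℚ) * (x - 1) / ((x : ℚ) + 1) ^ 2, ?_, ?_, ?_⟩
      · rw [le_div_iff₀ (by nlinarith)]; nlinarith
      · rw [div_le_iff₀ (by nlinarith)]; nlinarith
      · rw [div_mul_eq_mul_div, eq_div_iff (by nlinarith)]
        push_cast at hord
        linear_combination hord

/-- A one-class subgroup containing a Sylow 2-subgroup and the centraliser of its central involution
has index at most five. -/
theorem index_le_five [Finite G] (P : Sylow 2 G) (d : Dih (P : Subgroup G))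
    (h1 : ∀ a b : G, orderOf a = 2 → orderOf b = 2 → IsConj a b) {D : Subgroup G}
    (hPD : (P : Subgroup G) ≤ D) (hC : Subgroup.centralizer ({d.z} : Set G) ≤ D)
    (h2 : ∀ a ∈ D, ∀ b ∈ D, orderOf a = 2 → orderOf b = 2 → ∃ k ∈ D, k * a * k⁻¹ = b) :
    D.index ≤ 5 := by
  classical
  haveI := Fact.mk Nat.prime_two
  set P' : Sylow 2 D := P.subtype hPD with hP'
  have hP'c : (P' : Subgroup D) = (P : Subgroup G).subgroupOf D := Sylow.coe_subtype _ _
  have hmem : ∀ a : D, a ∈ (P' : Subgroup D) ↔ (a : G) ∈ (P : Subgroup G) := fun a => by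
    rw [hP'c, Subgroup.mem_subgroupOf]
  let d' : Dih (P' : Subgroup D) :=
    { m := d.m
      x := ⟨d.x, hPD d.hx⟩
      y := ⟨d.y, hPD d.hy⟩
      even := d.even
      two_le := d.two_le
      hm := by rw [Subgroup.orderOf_mk]; exact d.hm
      hx := (hmem _).2 d.hx
      hy := (hmem _).2 d.hy
      yy := Subtype.ext d.yy
      inv := Subtype.ext d.inv
      ynot := fun ⟨i, hi⟩ => d.ynot ⟨i, by simpa using congrArg Subtype.val hi⟩
      card := by
        rw [hP'c, Nat.card_congr (Subgroup.subgroupOfEquivOfLe hPD).toEquiv]; exact d.card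
      cases := fun a ha => by
        rcases d.cases _ ((hmem a).1 ha) with ⟨i, hi⟩ | ⟨i, hi⟩
        · exact Or.inl ⟨i, Subtype.ext (by simpa using hi)⟩
        · exact Or.inr ⟨i, Subtype.ext (by simpa using hi)⟩ }
  have hz : (d'.z : G) = d.z := by simp [Dih.z, d']
  have hcent : ∀ (s : Set D) (s' : Set G), Subtype.val '' s = s' → d.z ∈ s' →
      Nat.card (Subgroup.centralizer s) = Nat.card (Subgroup.centralizer s') := by
    intro s s' hs hzs
    refine Nat.card_congr
      { toFun := fun a => ⟨((a : D) : G), Subgroup.mem_centralizer_iff.2 ?_⟩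
        invFun := fun a => ⟨⟨(a : G), hC (Subgroup.mem_centralizer_singleton_iff.2
            ((Subgroup.mem_centralizer_iff.1 a.2 _ hzs).symm))⟩, Subgroup.mem_centralizer_iff.2 ?_⟩
        left_inv := fun a => rfl
        right_inv := fun a => rfl }
    · rw [← hs]
      rintro _ ⟨w, hw, rfl⟩
      exact congrArg Subtype.val (Subgroup.mem_centralizer_iff.1 a.2 w hw)
    · exact fun w hw => Subtype.ext (Subgroup.mem_centralizer_iff.1 a.2 w (hs ▸ ⟨w, hw, rfl⟩))
  have hfac : centFactor d' = centFactor d := by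
    rw [centFactor, centFactor, hcent _ {d.z} (by simp [hz]) rfl,
      hcent _ {d.z, d.y} (by simp [Set.image_pair, hz, d']) (Or.inl rfl),
      hcent _ {d.z, d.x * d.y} (by simp [Set.image_pair, hz, d']) (Or.inl rfl)]
  obtain ⟨f, -, hf, hG⟩ := order_formula P d h1
  obtain ⟨f', hf', -, hD⟩ := order_formula P' d' fun a b ha hb => by
    rw [← Subgroup.orderOf_coe] at ha hb
    obtain ⟨k, hk, e⟩ := h2 a a.2 b b.2 ha hb
    exact isConj_iff.2 ⟨⟨k, hk⟩, Subtype.ext e⟩
  rw [hfac] at hD
  have hDpos : (0 : ℚ) < Nat.card D := Nat.cast_pos.2 Nat.card_pos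
  have hKpos : (0 : ℚ) < centFactor d := pos_of_mul_pos_right (hD ▸ hDpos) (by linarith)
  have : (Nat.card G : ℚ) ≤ 5 * (Nat.card D : ℚ) := by
    rw [hG, hD]
    nlinarith
  rw [← Subgroup.card_mul_index D] at this
  push_cast at this
  have h5 : (D.index : ℚ) ≤ 5 := le_of_mul_le_mul_left (by linarith) hDpos
  exact_mod_cast h5

end Cfsg.Agent.DGroup
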