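import Cfsg.Agent.Lib.DGroup.Axes
import Cfsg.Agent.Lib.CharP.AxB
import Cfsg.Agent.Lib.TwoGroups.FusionData
import Cfsg.Agent.S0111

/-!
# Subgroups, quotients and the one-class subgroup of index at most two
-/

set_option autoImplicit false
set_option linter.unusedSectionVars false
set_option linter.style.haveILetI false

namespace Cfsg.Agent.DGroup

variable {G : Type*} [Group G]

/-- The largest normal subgroup of odd order of `M`, inside `G`. -/
def core2 (M : Subgroup G) : Subgroup G := (Cfsg.pPrimeCore 2 M).map M.subtype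

theorem core2_le (M : Subgroup G) : core2 M ≤ M := Subgroup.map_subtype_le _

theorem odd_pPrimeCore [Finite G] : Odd (Nat.card (Cfsg.pPrimeCore 2 G)) :=
  haveI := Fact.mk Nat.prime_two
  Nat.not_even_iff_odd.1 fun e => (Nat.prime_two.coprime_iff_not_dvd).1
    (FittingCores.pPrimeCore_coprime (G := G) 2).symm (even_iff_two_dvd.1 e)

theorem core2_odd [Finite G] (M : Subgroup G) : Odd (Nat.card (core2 M)) := by
  rw [core2, Subgroup.card_map_of_injective M.subtype_injective]; exact odd_pPrimeCore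

theorem core2_conj [Finite G] {M : Subgroup G} {g x : G} (hg : g ∈ M) (hx : x ∈ core2 M) :
    g * x * g⁻¹ ∈ core2 M := by
  haveI := Fact.mk Nat.prime_two
  haveI := FittingCores.pPrimeCore_normal (G := M) 2
  obtain ⟨x, hx, rfl⟩ := hx
  exact ⟨⟨g, hg⟩ * x * ⟨g, hg⟩⁻¹,
    (inferInstance : (Cfsg.pPrimeCore 2 M).Normal).conj_mem x hx _, rfl⟩

theorem core2_normalised [Finite G] (M : Subgroup G) :
    M ≤ Subgroup.normalizer (core2 M : Set G) := fun _ hg =>
  mem_normalizer_of_forall fun _ hx => core2_conj hg hx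

theorem le_core2 [Finite G] {N M : Subgroup G} (hNM : N ≤ M)
    (hn : M ≤ Subgroup.normalizer (N : Set G)) (ho : Odd (Nat.card N)) : N ≤ core2 M := by
  intro x hx
  refine ⟨⟨x, hNM hx⟩, ?_, rfl⟩
  haveI : (N.subgroupOf M).Normal := Subgroup.normal_subgroupOf_of_le_normalizer hn
  refine AxB.le_pPrimeCore (N := N.subgroupOf M) inferInstance ?_ (Subgroup.mem_subgroupOf.2 hx)
  rw [Nat.card_congr (Subgroup.subgroupOfEquivOfLe hNM).toEquiv]
  exact (Nat.coprime_two_right).2 ho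

theorem noOdd_of_core [Finite G] (h : Cfsg.pPrimeCore 2 G = ⊥) : NoOdd G := fun N hN ho =>
  le_bot_iff.1 (h ▸ AxB.le_pPrimeCore hN ((Nat.coprime_two_right).2 ho))

theorem noOdd_quotient [Finite G] :
    letI := FittingCores.pPrimeCore_normal (G := G) 2
    NoOdd (G ⧸ Cfsg.pPrimeCore 2 G) := by
  haveI := Fact.mk Nat.prime_two
  exact noOdd_of_core (FittingCores.pPrimeCore_quotient_eq_bot 2 _ rfl)

theorem noOdd_normal [Finite G] (hO : NoOdd G) {K : Subgroup G} (hK : K.Normal) : NoOdd K := by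
  haveI := Fact.mk Nat.prime_two
  haveI := hK
  have h1 := FittingCores.pPrimeCore_map_subtype_le 2 hK
  rw [hO _ (FittingCores.pPrimeCore_normal 2) odd_pPrimeCore, le_bot_iff,
    Subgroup.map_eq_bot_iff_of_injective _ K.subtype_injective] at h1
  exact noOdd_of_core h1

namespace R1

variable [Finite G] {A : Subgroup G} {s j : G} (h : R1 A s j)

include h

/-- A 2-element of `H` is conjugate in `H` into the Sylow subgroup. -/
theorem conj_into {S : Sylow 2 G} (hS : (S : Subgroup G) ≤ h.hyp.H) {x : G} (hx : x ∈ h.hyp.H)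
    (h2 : ∃ k, orderOf x = 2 ^ k) : ∃ g ∈ h.hyp.H, g * x * g⁻¹ ∈ (S : Subgroup G) := by
  haveI := Fact.mk Nat.prime_two
  obtain ⟨k, hk⟩ := h2
  set T : Sylow 2 h.hyp.H := S.subtype hS with hT
  obtain ⟨P, hP⟩ := (IsPGroup.of_card (p := 2) (n := k) (G := Subgroup.zpowers (⟨x, hx⟩ : h.hyp.H))
    (by rw [Nat.card_zpowers, Subgroup.orderOf_mk, hk])).exists_le_sylow
  obtain ⟨g, hg⟩ := MulAction.exists_smul_eq h.hyp.H P T
  refine ⟨g, g.2, ?_⟩
  have hm : MulAut.conj g • (⟨x, hx⟩ : h.hyp.H) ∈ (T : Subgroup h.hyp.H) := by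
    rw [← hg, Sylow.coe_subgroup_smul]
    exact Subgroup.smul_mem_pointwise_smul _ (MulAut.conj g) _ (hP (Subgroup.mem_zpowers _))
  exact hm

theorem two_mem {S : Sylow 2 G} (hS : (S : Subgroup G) ≤ h.hyp.H) {p : G} (hp : p ∈ A)
    (h2 : ∃ k, orderOf p = 2 ^ k) : p ∈ (S : Subgroup G) := by
  obtain ⟨g, hg, hgp⟩ := h.conj_into hS (Or.inl hp) h2
  rcases hg with hA | hA
  · rwa [h.hyp.comm g hA p hp, mul_inv_cancel_right] at hgp
  · rw [h.hyp.out_conj hA hp] at hgp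
    exact inv_mem_iff.1 hgp

theorem exists_out {S : Sylow 2 G} (hS : (S : Subgroup G) ≤ h.hyp.H) :
    ∃ v ∈ (S : Subgroup G), v * s ∈ A := by
  obtain ⟨g, hg, hgs⟩ := h.conj_into hS h.hyp.s_mem
    ⟨1, by rw [pow_one, orderOf_two h.hyp.ss h.hyp.s_ne]⟩
  refine ⟨_, hgs, (h.hyp.out_iff (hS hgs)).1 fun hA => h.hyp.sA ?_⟩
  haveI hn : (A.subgroupOf h.hyp.H).Normal := Subgroup.normal_of_index_eq_two h.hyp.A_relIndex
  have := hn.conj_mem ⟨g * s * g⁻¹, mul_mem (mul_mem hg h.hyp.s_mem) (inv_mem hg)⟩ hA ⟨g, hg⟩⁻¹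
  simpa [Subgroup.mem_subgroupOf, mul_assoc] using this

theorem jmem_sylow {S : Sylow 2 G} (hS : (S : Subgroup G) ≤ h.hyp.H) : j ∈ (S : Subgroup G) :=
  h.two_mem hS h.jmem ⟨1, by rw [pow_one, h.j_order]⟩

theorem exists_gen {S : Sylow 2 G} (hS : (S : Subgroup G) ≤ h.hyp.H) :
    ∃ c, c ∈ (S : Subgroup G) ∧ c ∈ A ∧
      ∀ x ∈ (S : Subgroup G), x ∈ A → x ∈ Subgroup.zpowers c := by
  obtain ⟨c, hc, e⟩ := cyclic_of_unique (P := (S : Subgroup G) ⊓ A) (S.isPGroup'.to_le inf_le_left)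
    (u := j) (fun x hx y hy => h.hyp.comm x hx.2 y hy.2) (fun x hx hxx => h.sq_cases hx.2 hxx)
  exact ⟨c, hc.1, hc.2, fun x hx hxA => e ▸ (⟨hx, hxA⟩ : x ∈ (S : Subgroup G) ⊓ A)⟩

/-- Restriction to a subgroup containing `H`. -/
theorem restrict {M : Subgroup G} (hM : h.hyp.H ≤ M) :
    R1 (A.subgroupOf M) (⟨s, hM h.hyp.s_mem⟩ : M) ⟨j, hM (Or.inl h.jmem)⟩ := by
  have hA : A ≤ M := fun a ha => hM (Or.inl ha)
  refine ⟨⟨fun a ha b hb => Subtype.ext (h.hyp.comm a ha b hb), ?_, Subtype.ext h.hyp.ss, h.hyp.sA,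
    fun a ha => Subtype.ext (h.hyp.inv a ha), fun e he h2 h1 g hg => ?_⟩, ⟨h.jmem, Subtype.ext h.jj,
    fun e => h.j_ne (congrArg Subtype.val e)⟩, fun e he => ?_, ?_⟩
  · rw [Nat.card_congr (Subgroup.subgroupOfEquivOfLe hA).toEquiv]; exact h.hyp.two
  · exact h.hyp.cent e he (congrArg Subtype.val h2) (fun e' => h1 (Subtype.ext e')) g
      (congrArg Subtype.val hg)
  · exact Subtype.ext (h.uniq e ⟨he.1, congrArg Subtype.val he.2.1, fun e' => he.2.2 (Subtype.ext e')⟩)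
  · obtain ⟨S, hS⟩ := h.sylow
    refine ⟨S.subtype (hS.trans hM), fun x hx => ?_⟩
    rw [Sylow.coe_subtype] at hx
    exact hS hx

/-- Quotient by a normal subgroup of odd order. -/
theorem quot (N : Subgroup G) [N.Normal] (hN : Odd (Nat.card N)) :
    R1 (A.map (QuotientGroup.mk' N)) (QuotientGroup.mk' N s) (QuotientGroup.mk' N j) := by
  haveI := Fact.mk Nat.prime_two
  refine ⟨h.hyp.map N hN, ⟨⟨j, h.jmem, rfl⟩, by rw [← map_mul, h.jj, map_one], fun e => h.j_ne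
    (eq_one_of_sq hN ((QuotientGroup.eq_one_iff j).1 e) h.jj)⟩, ?_, ?_⟩
  · rintro _ ⟨⟨a, ha, rfl⟩, h2, h1⟩
    obtain ⟨k, hk⟩ := hN
    have hfe : QuotientGroup.mk' N (a ^ Nat.card N) = QuotientGroup.mk' N a := by
      rw [map_pow, hk, pow_succ, pow_mul, pow_two, h2, one_pow, one_mul]
    have hsq : a ^ Nat.card N * a ^ Nat.card N = 1 := by
      rw [← (Commute.refl a).mul_pow]
      have : a * a ∈ N := by
        rw [← QuotientGroup.ker_mk' N, MonoidHom.mem_ker, map_mul]; exact h2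
      exact congrArg Subtype.val (pow_card_eq_one' (x := (⟨a * a, this⟩ : N)))
    rw [← hfe] at h1 ⊢
    rcases h.sq_cases (pow_mem ha _) hsq with e | e <;> rw [e] at h1 ⊢
    exact absurd (map_one _) h1
  · obtain ⟨S, hS⟩ := h.sylow
    refine ⟨S.mapSurjective (QuotientGroup.mk'_surjective N), ?_⟩
    rw [Sylow.coe_mapSurjective]
    rintro _ ⟨x, hx, rfl⟩
    rcases hS hx with hA | hA
    · exact Or.inl ⟨x, hA, rfl⟩
    · exact Or.inr ⟨x * s, hA, map_mul _ _ _⟩

/-- A normal subgroup with no outer element in the Sylow subgroup is a 2-group. -/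
theorem isPGroup_of_inner (hO : NoOdd G) {S : Sylow 2 G} (hS : (S : Subgroup G) ≤ h.hyp.H)
    {K : Subgroup G} (hK : K.Normal) (hKS : ∀ x ∈ (S : Subgroup G), x ∈ K → x ∈ A) :
    IsPGroup 2 K := by
  haveI := Fact.mk Nat.prime_two
  obtain ⟨c, -, -, hgen⟩ := h.exists_gen hS
  by_cases he : Even (Nat.card K)
  swap
  · rw [hO K hK (Nat.not_even_iff_odd.1 he)]
    exact IsPGroup.of_bot
  obtain ⟨T⟩ : Nonempty (Sylow 2 K) := inferInstance
  obtain ⟨P, hP⟩ := (T.isPGroup'.map K.subtype).exists_le_sylow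
  obtain ⟨g, hg⟩ := MulAction.exists_smul_eq G P S
  have hin : ∀ x ∈ (T : Subgroup K).map K.subtype, g * x * g⁻¹ ∈ Subgroup.zpowers c := by
    intro x hx
    have h1 : g * x * g⁻¹ ∈ (S : Subgroup G) := by
      rw [← hg, Sylow.coe_subgroup_smul]
      exact Subgroup.smul_mem_pointwise_smul _ (MulAut.conj g) _ (hP hx)
    have hxK : x ∈ K := Subgroup.map_subtype_le _ hx
    exact hgen _ h1 (hKS _ h1 (hK.conj_mem x hxK g))
  haveI hcyc : IsCyclic (T : Subgroup K) := by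
    let f : (T : Subgroup K) →* Subgroup.zpowers c :=
      { toFun := fun x => ⟨g * ((x : K) : G) * g⁻¹, hin _ ⟨x, x.2, rfl⟩⟩
        map_one' := Subtype.ext (by simp)
        map_mul' := fun x y => Subtype.ext (by simp [mul_assoc]) }
    exact isCyclic_of_injective f fun x y e =>
      Subtype.ext (Subtype.ext (mul_left_cancel (mul_right_cancel (Subtype.ext_iff.1 e))))
  have hmin : (Nat.card K).minFac = 2 := (Nat.minFac_eq_two_iff _).2 (even_iff_two_dvd.1 he)
  have hN := IsCyclic.normalizer_le_centralizer hmin (P := T) hcyc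
  have hKo : Odd (Nat.card (MonoidHom.transferSylow T hN).ker) := Nat.not_even_iff_odd.1 fun e =>
    MonoidHom.not_dvd_card_ker_transferSylow T hN (even_iff_two_dvd.1 e)
  have hbot := noOdd_normal hO hK _ inferInstance hKo
  have hc := MonoidHom.ker_transferSylow_isComplement' T hN
  rw [hbot, Subgroup.isComplement'_bot_left] at hc
  have hT := T.isPGroup'
  rw [hc] at hT
  exact hT.of_equiv Subgroup.topEquiv

/-- If no outer involution fuses to `j`, the group is solvable. -/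
theorem solvable_of_none (hO : NoOdd G) (hnone : ∀ v, v * s ∈ A → ¬ IsConj j v) :
    Group.IsSolvable G := by
  haveI := Fact.mk Nat.prime_two
  obtain ⟨S, hS⟩ := h.sylow
  obtain ⟨v, hvS, hv⟩ := h.exists_out hS
  set K₀ := ⨅ M : {M : Subgroup G // M.Normal ∧ M.index = 2}, (M : Subgroup G) with hK₀
  haveI hK₀n : K₀.Normal := ⟨fun x hx g => Subgroup.mem_iInf.2 fun M =>
    M.2.1.conj_mem x (Subgroup.mem_iInf.1 hx M) g⟩
  have hrel : ((S : Subgroup G) ⊓ A).relIndex (S : Subgroup G) = 2 := by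
    rw [Subgroup.relIndex, Subgroup.index_eq_two_iff]
    refine ⟨⟨v, hvS⟩, fun b => ?_⟩
    rcases hS b.2 with hb | hb
    · refine Or.inr ⟨⟨b.2, hb⟩, fun hbv => h.hyp.not_mem_of_mul_s hv ?_⟩
      have := mul_mem (inv_mem hb) hbv.2
      simpa using this
    · exact Or.inl ⟨⟨mul_mem b.2 hvS, h.hyp.mul_out hb hv⟩, fun hb' => h.hyp.not_mem_of_mul_s hb hb'.2⟩
  have hin : ∀ x ∈ (S : Subgroup G), x ∈ K₀ → x ∈ A := by
    intro x hx hxK
    by_contra hxA
    have hxs := (h.hyp.out_iff (hS hx)).1 hxA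
    have hox : orderOf x = 2 := orderOf_two (h.hyp.out_sq hxs) fun e => hxA (e ▸ one_mem A)
    rcases S0111.result S _ inf_le_left hrel x hox hx (fun hh => hxA hh.2) with
      ⟨M, hMn, hMi, hxM⟩ | ⟨g, hg⟩
    · exact hxM (Subgroup.mem_iInf.1 hxK ⟨M, hMn, hMi⟩)
    · refine hnone x hxs (isConj_iff.2 ⟨g⁻¹, ?_⟩)
      have h2 : g * x * g⁻¹ * (g * x * g⁻¹) = 1 := by
        rw [show g * x * g⁻¹ * (g * x * g⁻¹) = g * (x * x) * g⁻¹ by group, h.hyp.out_sq hxs]; group
      rcases h.sq_cases hg.2 h2 with e | e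
      · exact absurd (conj_eq_one_iff.1 e ▸ one_mem A) hxA
      · rw [← e]; group
  have hK2 := h.isPGroup_of_inner hO hS hK₀n hin
  have hq : IsPGroup 2 (G ⧸ K₀) := fun q => by
    obtain ⟨g, rfl⟩ := QuotientGroup.mk_surjective q
    exact ⟨1, by
      rw [pow_one, pow_two, ← QuotientGroup.mk_mul, QuotientGroup.eq_one_iff]
      refine Subgroup.mem_iInf.2 fun M => ?_
      haveI := M.2.1
      exact Subgroup.mul_self_mem_of_index_two M.2.2 g⟩
  haveI := hK2.isNilpotent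
  haveI := hq.isNilpotent
  exact Group.isSolvable_of_ker_le_range K₀.subtype (QuotientGroup.mk' K₀)
    (by rw [QuotientGroup.ker_mk', Subgroup.range_subtype])

/-- With some fusion, a normal subgroup of index at most two has one class of involutions. -/
theorem exists_index_two (hO : NoOdd G) (hf : ∃ v, v * s ∈ A ∧ IsConj j v) :
    ∃ (K : Subgroup G) (a₀ : G) (v : G) (hjK : j ∈ K) (hvK : v ∈ K), K.Normal ∧ a₀ ∈ A ∧
      (∀ g, g ∈ K ∨ g * a₀ ∈ K) ∧ v * s ∈ A ∧ Main (A.subgroupOf K) (⟨v, hvK⟩ : K) ⟨j, hjK⟩ ∧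
      (K = ⊤ ∨ (K.index = 2 ∧ a₀ ∉ K ∧ a₀ * a₀ ≠ 1)) := by
  classical
  haveI := Fact.mk Nat.prime_two
  obtain ⟨S, hS⟩ := h.sylow
  have hjS := h.jmem_sylow hS
  -- involutions are conjugate into `S`
  have hinto : ∀ x : G, x * x = 1 → x ≠ 1 →
      ∃ g, g * x * g⁻¹ = j ∨ (g * x * g⁻¹ ∈ (S : Subgroup G) ∧ g * x * g⁻¹ * s ∈ A) := by
    intro x hxx hx1
    obtain ⟨g, hg⟩ := TwoFus.exists_conj_mem S (a := x) (k := 1) (by rw [pow_one, orderOf_two hxx hx1])
    refine ⟨g, ?_⟩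
    have h2 : g * x * g⁻¹ * (g * x * g⁻¹) = 1 := by
      rw [show g * x * g⁻¹ * (g * x * g⁻¹) = g * (x * x) * g⁻¹ by group, hxx]; group
    rcases hS hg with hA | hA
    · rcases h.sq_cases hA h2 with e | e
      · exact absurd (conj_eq_one_iff.1 e) hx1
      · exact Or.inl e
    · exact Or.inr ⟨hg, hA⟩
  obtain ⟨v₀, hv₀, hv₀c⟩ := hf
  obtain ⟨g, hg, hgv⟩ := h.conj_into hS (Or.inr hv₀)
    ⟨1, by rw [pow_one, orderOf_two (h.hyp.out_sq hv₀) (h.out_ne hv₀).1]⟩
  set v := g * v₀ * g⁻¹ with hvdef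
  have hv : v * s ∈ A := (h.hyp.out_iff (hS hgv)).1 fun hA => h.hyp.not_mem_of_mul_s hv₀ (by
    haveI hn : (A.subgroupOf h.hyp.H).Normal := Subgroup.normal_of_index_eq_two h.hyp.A_relIndex
    have := hn.conj_mem ⟨v, mul_mem (mul_mem hg (Or.inr hv₀)) (inv_mem hg)⟩ hA ⟨g, hg⟩⁻¹
    simpa [Subgroup.mem_subgroupOf, hvdef, mul_assoc] using this)
  have hvc : IsConj j v := hv₀c.trans (isConj_iff.2 ⟨g, rfl⟩)
  clear_value v
  by_cases hall : ∀ x ∈ (S : Subgroup G), x * s ∈ A → IsConj j x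
  · -- one class
    have hone : ∀ x : G, x * x = 1 → x ≠ 1 → IsConj j x := by
      intro x hxx hx1
      obtain ⟨g, e | ⟨hgS, hgA⟩⟩ := hinto x hxx hx1
      · exact (isConj_iff.2 ⟨g, e⟩ : IsConj x j).symm
      · exact (hall _ hgS hgA).trans (isConj_iff.2 ⟨g, rfl⟩ : IsConj x _).symm
    have hr := h.change hv
    have hle : hr.hyp.H ≤ (⊤ : Subgroup G) := le_top
    refine ⟨⊤, 1, v, trivial, trivial, inferInstance, one_mem A, fun g => Or.inl trivial, hv,
      ⟨hr.restrict hle, noOdd_normal hO inferInstance, fun x y hx hy => ?_⟩, Or.inl rfl⟩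
    rw [← Subgroup.orderOf_coe] at hx hy
    obtain ⟨k, hk⟩ := isConj_iff.1 ((hone _ (mul_self_of_orderOf hx)
        (fun e => by rw [e, orderOf_one] at hx; omega)).symm.trans
      (hone _ (mul_self_of_orderOf hy) (fun e => by rw [e, orderOf_one] at hy; omega)))
    exact isConj_iff.2 ⟨⟨k, trivial⟩, Subtype.ext hk⟩
  push Not at hall
  obtain ⟨w, hwS, hw, hwc⟩ := hall
  have hrel : ((S : Subgroup G) ⊓ A).relIndex (S : Subgroup G) = 2 := by
    rw [Subgroup.relIndex, Subgroup.index_eq_two_iff]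
    refine ⟨⟨w, hwS⟩, fun b => ?_⟩
    rcases hS b.2 with hb | hb
    · refine Or.inr ⟨⟨b.2, hb⟩, fun hbw => h.hyp.not_mem_of_mul_s hw ?_⟩
      have := mul_mem (inv_mem hb) hbw.2
      simpa using this
    · exact Or.inl ⟨⟨mul_mem b.2 hwS, h.hyp.mul_out hb hw⟩, fun hb' => h.hyp.not_mem_of_mul_s hb hb'.2⟩
  rcases S0111.result S _ inf_le_left hrel w (orderOf_two (h.hyp.out_sq hw) (h.out_ne hw).1) hwS
    (fun hh => h.hyp.not_mem_of_mul_s hw hh.2) with ⟨K, hKn, hKi, hwK⟩ | ⟨g, hg⟩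
  swap
  · exfalso
    refine hwc (isConj_iff.2 ⟨g⁻¹, ?_⟩)
    have h2 : g * w * g⁻¹ * (g * w * g⁻¹) = 1 := by
      rw [show g * w * g⁻¹ * (g * w * g⁻¹) = g * (w * w) * g⁻¹ by group, h.hyp.out_sq hw]; group
    rcases h.sq_cases hg.2 h2 with e | e
    · exact absurd (conj_eq_one_iff.1 e) (h.out_ne hw).1
    · rw [← e]; group
  haveI := hKn
  have hmul : ∀ a b : G, a ∉ K → b ∉ K → a * b ∈ K := fun a b ha hb =>
    (Subgroup.mul_mem_iff_of_index_two hKi).2 (iff_of_false ha hb)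
  obtain ⟨c, hcS, hcA, hgen⟩ := h.exists_gen hS
  have hwvA : w * v ∈ (S : Subgroup G) ∧ w * v ∈ A := ⟨mul_mem hwS hgv, h.hyp.mul_out hw hv⟩
  have hjv : j ∈ K ↔ v ∈ K := by
    obtain ⟨k, hk⟩ := isConj_iff.1 hvc
    refine ⟨fun hj => hk ▸ hKn.conj_mem j hj k, fun hvK => ?_⟩
    have := hKn.conj_mem v hvK k⁻¹
    rwa [← hk, show k⁻¹ * (k * j * k⁻¹) * k⁻¹⁻¹ = j by group] at this
  obtain ⟨hcK, hjK⟩ : c ∉ K ∧ j ∈ K := by
    by_cases hcK : c ∈ K
    · exfalso
      have h1 : ∀ x ∈ Subgroup.zpowers c, x ∈ K := Subgroup.zpowers_le.2 hcK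
      have hjK := h1 j (hgen j hjS h.jmem)
      have h2 := h1 _ (hgen _ hwvA.1 hwvA.2)
      have := mul_mem h2 (inv_mem (hjv.1 hjK))
      rw [mul_inv_cancel_right] at this
      exact hwK this
    · refine ⟨hcK, ?_⟩
      -- `j` is a square
      obtain ⟨i, hi⟩ := hgen j hjS h.jmem
      have hi' : c ^ i = j := hi
      rcases Int.even_or_odd' i with ⟨l, hl | hl⟩
      · rw [← hi', hl, zpow_mul, zpow_two]
        exact zpow_mem (Subgroup.mul_self_mem_of_index_two hKi c) l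
      · exfalso
        have hjK' : j ∉ K := fun hj => by
          rw [← hi', hl, zpow_add, zpow_one, zpow_mul, zpow_two] at hj
          exact hcK ((K.mul_mem_cancel_left (zpow_mem (Subgroup.mul_self_mem_of_index_two hKi c) l)).1 hj)
        have hp : w * v ∈ K := hmul w v hwK fun hvK => hjK' (hjv.2 hvK)
        obtain ⟨e, he⟩ := hgen _ hwvA.1 hwvA.2
        have he' : c ^ e = w * v := he
        obtain ⟨k, hk⟩ := isPGroup_orderOf S.isPGroup' hcS
        -- `c` has order two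
        have hc2 : (c ^ i) ^ 2 = 1 := by rw [hi', pow_two]; exact h.jj
        rw [← zpow_natCast, ← zpow_mul, ← orderOf_dvd_iff_zpow_eq_one, hk] at hc2
        push_cast at hc2
        have hco : IsCoprime ((2 : ℤ) ^ k) i := (IsCoprime.pow_left ⟨-l, 1, by rw [hl]; ring⟩)
        have hd : ((2 : ℤ) ^ k) ∣ 2 := hco.dvd_of_dvd_mul_left hc2
        have hk1 : k ≤ 1 := by
          by_contra hh
          have h4 : ((2 : ℤ) ^ 2) ∣ 2 := (pow_dvd_pow 2 (show 2 ≤ k by omega)).trans hd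
          norm_num at h4
        have hcc : c * c = 1 := by
          rw [← pow_two]
          refine orderOf_dvd_iff_pow_eq_one.1 ?_
          rw [hk]
          exact (pow_dvd_pow 2 hk1).trans (by norm_num)
        rcases Int.even_or_odd' e with ⟨r, hr | hr⟩
        · rw [hr, zpow_mul, zpow_two, hcc, one_zpow] at he'
          have : w = v := by
            rw [eq_inv_of_mul_eq_one_left he'.symm, inv_eq_of_mul_self (h.hyp.out_sq hv)]
          exact hwc (this ▸ hvc)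
        · rw [hr, zpow_add, zpow_mul, zpow_two, hcc, one_zpow, one_mul, zpow_one] at he'
          exact hcK (he' ▸ hp)
  have hvK := hjv.1 hjK
  have hcov : ∀ g, g ∈ K ∨ g * c ∈ K := fun g => (Classical.em (g ∈ K)).imp id fun hg => hmul g c hg hcK
  -- one class in `K`
  have hKclass : ∀ x ∈ K, x * x = 1 → x ≠ 1 → ∃ k ∈ K, k * j * k⁻¹ = x := by
    intro x hxK hxx hx1
    have hG : IsConj j x := by
      obtain ⟨g, e | ⟨hgS, hgA⟩⟩ := hinto x hxx hx1
      · exact (isConj_iff.2 ⟨g, e⟩ : IsConj x j).symm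
      · set y := g * x * g⁻¹ with hy
        refine IsConj.trans ?_ (isConj_iff.2 ⟨g, rfl⟩ : IsConj x y).symm
        have hyK : y ∈ K := hKn.conj_mem x hxK g
        obtain ⟨i, hi⟩ := hgen _ (mul_mem hgS hgv) (h.hyp.mul_out hgA hv)
        have hi' : c ^ i = y * v := hi
        rcases Int.even_or_odd' i with ⟨l, hl | hl⟩
        · have hy' : y = c ^ l * v * (c ^ l)⁻¹ := by
            have e1 : v * (c ^ l)⁻¹ = c ^ l * v := by
              rw [← h.hyp.out_conj' hv (zpow_mem hcA l), ← mul_assoc, ← mul_assoc, h.hyp.out_sq hv,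
                one_mul]
            rw [mul_assoc, e1, ← mul_assoc, ← zpow_add, ← two_mul, ← hl, hi', mul_assoc,
              h.hyp.out_sq hv, mul_one]
          exact hvc.trans (isConj_iff.2 ⟨c ^ l, hy'.symm⟩)
        · exfalso
          have h1 : y * v ∈ K := mul_mem hyK hvK
          rw [← hi', hl, zpow_add, zpow_one, zpow_mul, zpow_two] at h1
          exact hcK ((K.mul_mem_cancel_left (zpow_mem (Subgroup.mul_self_mem_of_index_two hKi c) l)).1 h1)
    obtain ⟨g, hg⟩ := isConj_iff.1 hG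
    rcases hcov g with hgK | hgK
    · exact ⟨g, hgK, hg⟩
    · refine ⟨g * c, hgK, ?_⟩
      rw [show g * c * j * (g * c)⁻¹ = g * (c * j * c⁻¹) * g⁻¹ by group,
        h.hyp.comm c hcA j h.jmem, mul_inv_cancel_right, hg]
  have hcc : c * c ≠ 1 := by
    intro hcc
    obtain ⟨i, hi⟩ := hgen j hjS h.jmem
    have hi' : c ^ i = j := hi
    rcases Int.even_or_odd' i with ⟨l, hl | hl⟩
    · rw [hl, zpow_mul, zpow_two, hcc, one_zpow] at hi'
      exact h.j_ne hi'.symm
    · rw [hl, zpow_add, zpow_mul, zpow_two, hcc, one_zpow, one_mul, zpow_one] at hi'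
      exact hcK (hi' ▸ hjK)
  refine ⟨K, c, v, hjK, hvK, hKn, hcA, hcov, hv, ⟨⟨⟨fun a ha b hb => Subtype.ext (h.hyp.comm a ha b hb),
    ?_, Subtype.ext (h.hyp.out_sq hv), h.hyp.not_mem_of_mul_s hv,
    fun a ha => Subtype.ext (h.hyp.out_conj' hv ha), fun e he h2 h1 g hg => ?_⟩,
    ⟨h.jmem, Subtype.ext h.jj, fun e => h.j_ne (congrArg Subtype.val e)⟩, fun e he =>
    Subtype.ext (h.uniq e ⟨he.1, congrArg Subtype.val he.2.1, fun e' => he.2.2 (Subtype.ext e')⟩), ?_⟩,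
    noOdd_normal hO hKn, fun x y hx hy => ?_⟩, Or.inr ⟨hKi, hcK, hcc⟩⟩
  · have hjm : (⟨j, hjK⟩ : K) ∈ A.subgroupOf K := h.jmem
    have := Subgroup.orderOf_dvd_natCard _ hjm
    rwa [Subgroup.orderOf_mk, h.j_order] at this
  · exact (h.hyp.cent e he (congrArg Subtype.val h2) (fun e' => h1 (Subtype.ext e')) g
      (congrArg Subtype.val hg)).imp id fun hA => h.hyp.mul_out hA hv
  · -- the Sylow subgroup
    obtain ⟨T, hT⟩ := (S.isPGroup'.comap_subtype (K := K)).exists_le_sylow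
    refine ⟨T, ?_⟩
    obtain ⟨P, hP⟩ := (T.isPGroup'.map K.subtype).exists_le_sylow
    have hcard : Nat.card (T : Subgroup K) ≤ Nat.card ((S : Subgroup G).comap K.subtype) := by
      obtain ⟨g, hg⟩ := MulAction.exists_smul_eq G P S
      refine Nat.card_le_card_of_injective
        (fun x => ⟨⟨g * ((x : K) : G) * g⁻¹, hKn.conj_mem _ (x : K).2 g⟩, ?_⟩) fun x y e =>
        Subtype.ext (Subtype.ext (mul_left_cancel (mul_right_cancel
          (Subtype.ext_iff.1 (Subtype.ext_iff.1 e)))))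
      show g * ((x : K) : G) * g⁻¹ ∈ (S : Subgroup G)
      rw [← hg, Sylow.coe_subgroup_smul]
      exact Subgroup.smul_mem_pointwise_smul _ (MulAut.conj g) _ (hP ⟨x, x.2, rfl⟩)
    intro x hx
    have hxS : (x : G) ∈ (S : Subgroup G) := by
      rw [← Subgroup.eq_of_le_of_card_ge hT hcard] at hx
      exact hx
    exact (hS hxS).imp id fun hA => h.hyp.mul_out hA hv
  · rw [← Subgroup.orderOf_coe] at hx hy
    obtain ⟨k, hk, e⟩ := hKclass x x.2 (mul_self_of_orderOf hx) fun e => by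
      rw [e, orderOf_one] at hx; omega
    obtain ⟨k', hk', e'⟩ := hKclass y y.2 (mul_self_of_orderOf hy) fun e => by
      rw [e, orderOf_one] at hy; omega
    refine isConj_iff.2 ⟨⟨k' * k⁻¹, mul_mem hk' (inv_mem hk)⟩, Subtype.ext ?_⟩
    show k' * k⁻¹ * (x : G) * (k' * k⁻¹)⁻¹ = y
    rw [← e, ← e']; group

end R1

end Cfsg.Agent.DGroup
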