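import Cfsg.Agent.Lib.DGroup.AxesClosed
import Cfsg.Agent.Lib.DGroup.RankOneFusion

/-!
# The largest invariant `t`-group does not depend on the four-group
-/

set_option autoImplicit false
set_option linter.unusedSectionVars false
set_option linter.style.haveILetI false

namespace Cfsg.Agent.DGroup

open Cfsg.Agent.OddOrder
open scoped Pointwise

universe u

/-- Odd elements of `A` have their centralisers inside that of `j`. -/
def Cent {G : Type*} [Group G] (A : Subgroup G) (j : G) : Prop :=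
  ∀ a ∈ A, Odd (orderOf a) → a ≠ 1 → ∀ g : G, g * a = a * g → g * j = j * g

/-- The inductive hypothesis: `Cent` below the given order. -/
def Below (G : Type u) [Group G] : Prop :=
  ∀ (L : Type u) [Group L] [Finite L], Nat.card L < Nat.card G →
    ∀ (A : Subgroup L) (s j : L), Main A s j → Cent A j

variable {G : Type u} [Group G]

theorem mem_of_sq_mem {X : Subgroup G} {y : G} (ho : Odd (orderOf y)) (h : y * y ∈ X) : y ∈ X := by
  obtain ⟨m, hm⟩ := ho
  have := pow_mem h (m + 1)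
  rwa [← pow_two, ← pow_mul, show 2 * (m + 1) = orderOf y + 1 by omega, pow_succ, pow_orderOf_eq_one,
    one_mul] at this

/-- Involutions congruent modulo a subgroup of odd order are conjugate under it. -/
theorem conj_in_odd [Finite G] {X : Subgroup G} (hX : Odd (Nat.card X)) {j w : G} (hj : orderOf j = 2)
    (hw : orderOf w = 2) (hm : w * j⁻¹ ∈ X) : ∃ x ∈ X, x * j * x⁻¹ = w := by
  have hjw : j * w ∈ X := by
    have := inv_mem hm
    rwa [mul_inv_rev, inv_inv, Invol.inv_self hw] at this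
  obtain ⟨m, hm'⟩ := hX.of_dvd_nat (Subgroup.orderOf_dvd_natCard X hjw)
  refine ⟨(j * w) ^ (m : ℤ), zpow_mem hjw _, ?_⟩
  rw [Invol.zpow_mul_conj (Invol.conj_mul hj hw)]
  conv_rhs => rw [Invol.y_eq hj hw]
  congr 1
  have h1 : (j * w) ^ (2 * (m : ℤ) + 1) = 1 := by
    rw [show 2 * (m : ℤ) + 1 = ((2 * m + 1 : ℕ) : ℤ) by push_cast; ring, zpow_natCast, ← hm',
      pow_orderOf_eq_one]
  rw [zpow_add, zpow_one] at h1
  rw [zpow_neg_one]
  exact mul_eq_one_iff_eq_inv.mp h1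

theorem odd_sup [Finite G] {X Y : Subgroup G} (hX : Odd (Nat.card X)) (hY : Odd (Nat.card Y))
    (hn : Y ≤ Subgroup.normalizer (X : Set G)) : Odd (Nat.card (Y ⊔ X : Subgroup G)) := by
  set L := Y ⊔ X with hL
  have hXL : X ≤ L := le_sup_right
  haveI : (X.subgroupOf L).Normal := Subgroup.normal_subgroupOf_of_le_normalizer
    (sup_le hn Subgroup.le_normalizer)
  have hsup : Y.subgroupOf L ⊔ X.subgroupOf L = ⊤ := by
    rw [← Subgroup.subgroupOf_sup le_sup_left hXL]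
    exact Subgroup.subgroupOf_self _
  have := AxB.card_sup_dvd (Y.subgroupOf L) (X.subgroupOf L)
  rw [hsup, Subgroup.card_top, Nat.card_congr (Subgroup.subgroupOfEquivOfLe hXL).toEquiv,
    Nat.card_congr (Subgroup.subgroupOfEquivOfLe (le_sup_left : Y ≤ L)).toEquiv] at this
  exact (hY.mul hX).of_dvd_nat this

namespace R1

variable [Finite G] {A : Subgroup G} {s j : G} (h : R1 A s j)

include h

theorem cent_of_fused (hO : NoOdd G) (hf : ∃ v, v * s ∈ A ∧ IsConj j v)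
    (IH : ∀ (L : Subgroup G) (A' : Subgroup L) (s' j' : L), Main A' s' j' → Cent A' j') :
    Cent A j := by
  obtain ⟨K, a₀, v, hjK, hvK, hKn, ha₀, hcov, -, hK, hKt⟩ := h.exists_index_two hO hf
  intro a ha hao ha1 g hg
  have haK : a ∈ K := by
    rcases hKt with e | ⟨hi, -, -⟩
    · rw [e]; trivial
    · haveI := hKn
      exact mem_of_sq_mem hao (Subgroup.mul_self_mem_of_index_two hi a)
  have key : ∀ k ∈ K, k * a = a * k → k * j = j * k := fun k hk hka =>
    congrArg Subtype.val (IH K _ _ _ hK ⟨a, haK⟩ ha (by rw [Subgroup.orderOf_mk]; exact hao)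
      (fun e => ha1 (congrArg Subtype.val e)) ⟨k, hk⟩ (Subtype.ext hka))
  rcases hcov g with hgK | hgK
  · exact key g hgK hg
  · have e := key _ hgK (by rw [mul_assoc, h.hyp.comm a₀ ha₀ a ha, ← mul_assoc, hg, mul_assoc])
    rw [mul_assoc, h.hyp.comm a₀ ha₀ j h.jmem, ← mul_assoc, ← mul_assoc j g a₀] at e
    exact mul_right_cancel e

/-- If `j` is isolated in `M ⊇ H` then `j` is central modulo the core. -/
theorem isolated_core {M : Subgroup G} (hM : h.hyp.H ≤ M)
    (hiso : ∀ d ∈ M, d * j * d⁻¹ * j = j * (d * j * d⁻¹) → d * j * d⁻¹ = j) :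
    ∀ g ∈ M, g * j * g⁻¹ * j⁻¹ ∈ core2 M := by
  intro g hg
  have hjM : j ∈ M := hM (Or.inl h.jmem)
  exact ⟨_, BrauerSuzuki.zStar M ⟨j, hjM⟩ (by rw [Subgroup.orderOf_mk, h.j_order])
    (fun d hd => Subtype.ext (hiso d d.2 (congrArg Subtype.val hd.eq).symm)) ⟨g, hg⟩, rfl⟩

/-- In that case the odd part of `A` lies in the core. -/
theorem isolated_odd {M : Subgroup G} (hM : h.hyp.H ≤ M)
    (hiso : ∀ g ∈ M, g * j * g⁻¹ * j⁻¹ ∈ core2 M) {a : G} (ha : a ∈ A) (hao : Odd (orderOf a)) :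
    a ∈ core2 M := by
  have haM : a ∈ M := hM (Or.inl ha)
  set X := core2 M with hX
  set L := Subgroup.zpowers a ⊔ X with hL
  have han : Subgroup.zpowers a ≤ Subgroup.normalizer (X : Set G) :=
    Subgroup.zpowers_le.2 (core2_normalised M haM)
  have hLo : Odd (Nat.card L) := odd_sup (core2_odd M) (by rwa [Nat.card_zpowers]) han
  have hLM : L ≤ M := sup_le (Subgroup.zpowers_le.2 haM) (core2_le M)
  have hconj : ∀ g ∈ M, g * a * g⁻¹ ∈ L := by
    intro g hg
    obtain ⟨x, hx, e⟩ := conj_in_odd (core2_odd M) h.j_order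
      (by rw [Invol.order_conj, h.j_order]) (hiso g hg)
    have hcm : (x⁻¹ * g) * j = j * (x⁻¹ * g) := by
      calc x⁻¹ * g * j = x⁻¹ * (g * j * g⁻¹) * g := by group
        _ = x⁻¹ * (x * j * x⁻¹) * g := by rw [e]
        _ = j * (x⁻¹ * g) := by group
    have hk : (x⁻¹ * g) * a * (x⁻¹ * g)⁻¹ ∈ L := by
      rcases h.mem_of_comm hcm with hA | hA
      · rw [h.hyp.comm _ hA a ha, mul_inv_cancel_right]
        exact Subgroup.mem_sup_left (Subgroup.mem_zpowers a)
      · rw [h.hyp.out_conj hA ha]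
        exact Subgroup.mem_sup_left (inv_mem (Subgroup.mem_zpowers a))
    have hxL : x ∈ L := Subgroup.mem_sup_right hx
    have := mul_mem (mul_mem hxL hk) (inv_mem hxL)
    rwa [show x * (x⁻¹ * g * a * (x⁻¹ * g)⁻¹) * x⁻¹ = g * a * g⁻¹ by group] at this
  have hLn : M ≤ Subgroup.normalizer (L : Set G) := by
    intro g hg
    rw [Subgroup.mem_normalizer_iff_map_conj_eq]
    refine Subgroup.eq_of_le_of_card_ge ?_ (Subgroup.card_map_of_injective (MulAut.conj g).injective).ge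
    rw [hL, Subgroup.map_sup, MonoidHom.map_zpowers]
    refine sup_le (Subgroup.zpowers_le.2 (hconj g hg)) ?_
    rintro _ ⟨x, hx, rfl⟩
    exact Subgroup.mem_sup_right (core2_conj hg hx)
  exact le_core2 hLM hLn hLo (Subgroup.mem_sup_left (Subgroup.mem_zpowers a))

/-- If `j` is not isolated in `M ⊇ H`, a four-group is permuted transitively in `M`. -/
theorem fused_trans {M : Subgroup G} (hM : h.hyp.H ≤ M) {d : G} (hdM : d ∈ M)
    (hc : d * j * d⁻¹ * j = j * (d * j * d⁻¹)) (hne : d * j * d⁻¹ ≠ j) :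
    ∃ v n, v * s ∈ A ∧ v ∈ M ∧ n ∈ M ∧ n * j * n⁻¹ = v ∧ n * v * n⁻¹ = j * v :=
  h.exists_trans (by
    by_cases hA : ∃ a ∈ A, a * a = j
    · obtain ⟨a, ha, e⟩ := hA
      exact Or.inl ⟨a, hM (Or.inl ha), ha, e⟩
    · exact Or.inr hA) (hM (Or.inl h.jmem)) hdM hc hne

end R1

namespace Main

variable [Finite G] {A : Subgroup G} {s j : G} (h : Main A s j) (IH : Below G)

include h

theorem H_le {M : Subgroup G} (hH : ∀ g, g * j = j * g → g ∈ M) : h.hyp.H ≤ M := fun g hg =>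
  hH g (h.hyp.inner_comm h.jA hg)

include IH

/-- `Cent` holds modulo the core of a proper subgroup over `H` in which `j` is not isolated. -/
theorem cent_core {M : Subgroup G} (hM : h.hyp.H ≤ M) (hMne : M ≠ ⊤) {w n : G} (hw : w * s ∈ A)
    (hn : n ∈ M) (hnw : n * j * n⁻¹ = w) {a : G} (ha : a ∈ A) (hao : Odd (orderOf a))
    (haX : a ∉ core2 M) {g : G} (hg : g ∈ M) (hga : g * a * g⁻¹ * a⁻¹ ∈ core2 M) :
    g * j * g⁻¹ * j⁻¹ ∈ core2 M := by
  haveI := Fact.mk Nat.prime_two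
  have hjM : j ∈ M := hM (Or.inl h.jmem)
  have hwM : w ∈ M := hM (Or.inr hw)
  haveI hNn := FittingCores.pPrimeCore_normal (G := M) 2
  set N := Cfsg.pPrimeCore 2 M with hN
  set f := QuotientGroup.mk' N with hf
  have hr := (h.toR1.restrict hM).quot N odd_pPrimeCore
  have hmem : ∀ x : M, f x = 1 ↔ (x : G) ∈ core2 M := fun x =>
    ⟨fun hx => ⟨x, (QuotientGroup.eq_one_iff x).1 hx, rfl⟩,
      fun ⟨y, hy, e⟩ => (QuotientGroup.eq_one_iff x).2 (Subtype.ext (a1 := y) (a2 := x) e ▸ hy)⟩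
  have hfused : ∃ v, v * f ⟨s, hM h.hyp.s_mem⟩ ∈ (A.subgroupOf M).map f ∧ IsConj (f ⟨j, hjM⟩) v :=
    ⟨f ⟨w, hwM⟩, by rw [← map_mul]; exact ⟨_, hw, rfl⟩,
      f.map_isConj (isConj_iff.2 ⟨⟨n, hn⟩, Subtype.ext hnw⟩)⟩
  have hC := hr.cent_of_fused noOdd_quotient hfused fun L A' s' j' hL => IH L (by
    refine lt_of_le_of_lt ((Subgroup.card_le_card_group L).trans
      (Nat.card_le_card_of_surjective f (QuotientGroup.mk'_surjective N))) ?_
    refine lt_of_le_of_ne (Subgroup.card_le_card_group M) fun e => hMne ?_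
    exact Subgroup.eq_top_of_card_eq M e) A' s' j' hL
  have haM : a ∈ M := hM (Or.inl ha)
  have e := hC (f ⟨a, haM⟩) ⟨_, ha, rfl⟩
    ((show Odd (orderOf (⟨a, haM⟩ : M)) by rwa [Subgroup.orderOf_mk]).of_dvd_nat (orderOf_map_dvd f _))
    (fun e => haX ((hmem _).1 e)) (f ⟨g, hg⟩) (by
      have e1 : f (⟨g, hg⟩ * ⟨a, haM⟩ * ⟨g, hg⟩⁻¹ * ⟨a, haM⟩⁻¹) = 1 := (hmem _).2 hga
      rwa [map_mul, map_mul, map_mul, map_inv, map_inv, mul_inv_eq_one, mul_inv_eq_iff_eq_mul] at e1)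
  refine (hmem (⟨g, hg⟩ * ⟨j, hjM⟩ * ⟨g, hg⟩⁻¹ * ⟨j, hjM⟩⁻¹)).1 ?_
  rw [map_mul, map_mul, map_mul, map_inv, map_inv, mul_inv_eq_one, mul_inv_eq_iff_eq_mul]
  exact e

omit IH in
/-- An element inverted by `j`, with `[y, j]` in the core, lies in the core. -/
theorem inverted_mem {M : Subgroup G} {y : G} (ho : Odd (orderOf y)) (hy : j * y * j = y⁻¹)
    (hc : y * j * y⁻¹ * j⁻¹ ∈ core2 M) : y ∈ core2 M := by
  refine mem_of_sq_mem ho ?_
  rwa [inv_eq_of_mul_self h.jj, mul_assoc (y * j), mul_assoc y j, ← mul_assoc j y⁻¹ j,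
    invol_conj_inv h.jj, hy, inv_inv] at hc

variable {t : ℕ} [Fact t.Prime]

/-- The largest invariant `t`-group lies in the core of any proper subgroup over `H` containing it. -/
theorem closed_le_core (ht : t ≠ 2) {v : G} (hv : v * s ∈ A) {P : Subgroup G} (hP : Closed t j v P)
    {M : Subgroup G} (hM : h.hyp.H ≤ M) (hMne : M ≠ ⊤) (hPM : P ≤ M) : P ≤ core2 M := by
  classical
  set X := core2 M with hX
  have hF := h.toR1.four hv
  have hPF := h.fpf_four hv (odd_pgroup ht hP.1) hP.2.1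
  obtain ⟨hR, hRv, hRw⟩ := hP.tPart_le h ht hv
  have hodd : ∀ y ∈ P, Odd (orderOf y) := fun y hy =>
    (odd_pgroup ht hP.1).of_dvd_nat (Subgroup.orderOf_dvd_natCard P hy)
  by_cases hiso : ∀ d ∈ M, d * j * d⁻¹ * j = j * (d * j * d⁻¹) → d * j * d⁻¹ = j
  · have hc := h.toR1.isolated_core hM hiso
    refine hPF.le_of_axes (fun y hy => ?_) (fun y hy => ?_) (fun y hy => ?_)
    · exact h.toR1.isolated_odd hM hc (h.tPart_le ht (ax_le_tPart hP.1 hy)) (hodd y (ax_le _ _ hy))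
    · exact h.inverted_mem (hodd y (ax_le _ _ hy)) (hPF.swap.inverts hy) (hc y (hPM (ax_le _ _ hy)))
    · exact h.inverted_mem (hodd y (ax_le _ _ hy)) (hPF.rot.rot.inverts hy) (hc y (hPM (ax_le _ _ hy)))
  push Not at hiso
  obtain ⟨d, hdM, hdc, hdne⟩ := hiso
  obtain ⟨w, n, hw, hwM, hnM, hn1, hn2⟩ := h.toR1.fused_trans hM hdM hdc hdne
  have hjM : j ∈ M := hM (Or.inl h.jmem)
  have hvM : v ∈ M := hM (Or.inr hv)
  have hXo := core2_odd M
  have hXinv : ∀ u ∈ M, u * u = 1 → ∀ x ∈ X, u * x * u ∈ X := fun u hu huu x hx => by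
    have := core2_conj hu hx
    rwa [inv_eq_of_mul_self huu] at this
  -- off the first axis
  by_cases hRX : tPart t j ≤ X
  · -- every axis of the other four-group lies in the core
    have hXi : Inv j w X := ⟨hXinv j hjM h.jj, hXinv w hwM (h.hyp.out_sq hw)⟩
    have hmap : ∀ u, tPart t u ≤ X → tPart t (n * u * n⁻¹) ≤ X := fun u hu => by
      rw [← tPart_conj]
      rintro _ ⟨x, hx, rfl⟩
      exact core2_conj hnM (hu hx)
    have hw1 : tPart t w ≤ X := hn1 ▸ hmap j hRX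
    have hw2 : tPart t (j * w) ≤ X := hn2 ▸ hmap w hw1
    have hXF := h.fpf_four hw hXo hXi
    obtain ⟨T', hT'X, hT', hT'i, hT'c⟩ := hXF.exists_sylow t
    have hax : ∀ u A', tPart t u ≤ X → IsPGroup t (tPart t u) → Inv j w (tPart t u) →
        A' = ax T' u → A' = tPart t u := fun u A' hu hp hi e => e ▸
      le_antisymm (ax_le_tPart hT') (fun x hx => mem_ax.2
        ⟨hXF.le_sylow hu hp hi hT'X hT'i hT'c hx, (tPart_comm hx).symm⟩)
    obtain ⟨Aw, hAw, -⟩ := h.centre_at hw (Or.inl rfl)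
    obtain ⟨Ajw, hAjw, -⟩ := h.centre_at hw (Or.inr rfl)
    have hcT := (hXF.mono' hT'X hT'i).card_eq
    rw [hax j _ hRX (h.tPart_pgroup ht) (h.tPart_inv ht hw) rfl,
      hax w _ hw1 (hAw.tPart_pgroup ht) (h.tPart_inv' ht hw (Or.inl rfl)) rfl,
      hax _ _ hw2 (hAjw.tPart_pgroup ht) (h.tPart_inv' ht hw (Or.inr rfl)) rfl,
      (h.tPart_card hw).1, (h.tPart_card hw).2] at hcT
    have hXi' : Inv j v X := ⟨hXinv j hjM h.jj, hXinv v hvM hF.vv⟩
    obtain ⟨T, hTX, hTp, hTi, hTc⟩ := (h.fpf_four hv hXo hXi').exists_sylow t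
    have e : T = P := Subgroup.eq_of_le_of_card_ge (hP.2.2 T hTp hTi) (by
      rw [hP.card_eq h ht hv, hTc, ← hT'c, hcT]; apply le_of_eq; ring)
    exact e ▸ hTX
  · -- the other two axes lie in the core, and counting gives a contradiction
    exfalso
    obtain ⟨r₀, hr₀, hr₀X⟩ := SetLike.not_le_iff_exists.1 hRX
    have hr₀A := h.tPart_le ht hr₀
    have hr₀o : Odd (orderOf r₀) := hodd r₀ (hR hr₀)
    set R₁ := tPart t j ⊔ (P ⊓ X) with hR₁
    have hR₁P : R₁ ≤ P := sup_le hR inf_le_left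
    haveI : ((P ⊓ X).subgroupOf P).Normal := Subgroup.normal_subgroupOf_of_le_normalizer
      (FitOf.le_normalizer_inf Subgroup.le_normalizer (hPM.trans (core2_normalised M)))
    have hdec : ∀ y ∈ R₁, ∃ r ∈ tPart t j, ∃ x ∈ X, y = r * x := by
      intro y hy
      have hn : tPart t j ≤ Subgroup.normalizer ((P ⊓ X : Subgroup G) : Set G) :=
        FitOf.le_normalizer_inf (hR.trans Subgroup.le_normalizer)
          ((hR.trans hPM).trans (core2_normalised M))
      have hy' : y ∈ ((tPart t j : Set G) * ((P ⊓ X : Subgroup G) : Set G)) := by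
        rw [← Subgroup.coe_mul_of_left_le_normalizer_right _ _ hn]
        exact hy
      obtain ⟨r, hr, x, hx, rfl⟩ := hy'
      exact ⟨r, hr, x, hx.2, rfl⟩
    have hfix : ∀ r ∈ tPart t j, j * r * j = r := fun r hr =>
      (invol_conj_eq_iff h.jj).2 (tPart_comm hr).symm
    -- an inverted element normalising `R₁` lies in `X`
    have key : ∀ y ∈ P, j * y * j = y⁻¹ → y ∈ Subgroup.normalizer (R₁ : Set G) → y ∈ X := by
      intro y hy hyj hyn
      obtain ⟨r, hr, x, hx, e⟩ := hdec _ ((Subgroup.mem_normalizer_iff.1 hyn r₀).1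
        (Subgroup.mem_sup_left hr₀))
      have e2 : y⁻¹ * r₀ * y = r * (j * x * j) := by
        have := congrArg (fun g => j * g * j) e
        simp only [invol_conj_mul h.jj, invol_conj_inv h.jj, hyj, inv_inv, hfix r₀ hr₀,
          hfix r hr] at this
        exact this
      have h3 : (y * r₀ * y⁻¹)⁻¹ * (y⁻¹ * r₀ * y) ∈ X := by
        rw [e, e2, show (r * x)⁻¹ * (r * (j * x * j)) = x⁻¹ * (j * x * j) by group]
        exact mul_mem (inv_mem hx) (hXinv j hjM h.jj x hx)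
      have hy2 : y * y ∈ M := mul_mem (hPM hy) (hPM hy)
      have h4 : (y * y) * r₀ * (y * y)⁻¹ * r₀⁻¹ ∈ X := by
        have h5 := core2_conj (inv_mem (hPM hy)) h3
        rw [show y⁻¹ * ((y * r₀ * y⁻¹)⁻¹ * (y⁻¹ * r₀ * y)) * y⁻¹⁻¹
          = r₀⁻¹ * ((y * y)⁻¹ * r₀ * (y * y)) by group] at h5
        have h6 := core2_conj hy2 (core2_conj (hM (Or.inl hr₀A)) h5)
        rw [show y * y * (r₀ * (r₀⁻¹ * ((y * y)⁻¹ * r₀ * (y * y))) * r₀⁻¹) * (y * y)⁻¹
          = r₀ * (y * y) * r₀⁻¹ * (y * y)⁻¹ by group] at h6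
        have h7 := inv_mem h6
        rwa [show (r₀ * (y * y) * r₀⁻¹ * (y * y)⁻¹)⁻¹ = y * y * r₀ * (y * y)⁻¹ * r₀⁻¹ by
          simp only [mul_inv_rev, inv_inv, mul_assoc]] at h7
      have h8 := h.cent_core IH hM hMne hw hnM hn1 hr₀A hr₀o hr₀X hy2 h4
      refine mem_of_sq_mem (hodd y hy) (h.inverted_mem (hodd _ (mul_mem hy hy)) ?_ h8)
      rw [invol_conj_mul h.jj, hyj, mul_inv_rev]
    have hoff : ∀ y ∈ P, j * y * j = y⁻¹ → y ∈ X := by
      by_cases hR₁eq : R₁ = P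
      · intro y hy hyj
        obtain ⟨r, hr, x, hx, rfl⟩ := hdec y (hR₁eq.symm ▸ hy)
        refine mem_of_sq_mem (hodd _ hy) ?_
        have e : r * (j * x * j) = (r * x)⁻¹ := by rw [← hyj, invol_conj_mul h.jj, hfix r hr]
        have : (r * x)⁻¹ * (r * x)⁻¹ ∈ X := by
          nth_rewrite 2 [← e]
          rw [show (r * x)⁻¹ * (r * (j * x * j)) = x⁻¹ * (j * x * j) by group]
          exact mul_mem (inv_mem hx) (hXinv j hjM h.jj x hx)
        rwa [← mul_inv_rev, inv_mem_iff] at this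
      · exfalso
        set N := P ⊓ Subgroup.normalizer (R₁ : Set G) with hN
        have hlt : R₁ < N := Fusion.lt_inf_normalizer hP.1.isNilpotent (lt_of_le_of_ne hR₁P hR₁eq)
        have hR₁i : Inv j v R₁ := hF.inv_sup (h.tPart_inv ht hv)
          (hF.inv_inf hP.2.1 ⟨hXinv j hjM h.jj, hXinv v hvM hF.vv⟩)
        have hNi : Inv j v N := hF.inv_inf hP.2.1 (hF.inv_normalizer hR₁i)
        have hNp : IsPGroup t N := hP.1.to_le inf_le_left
        have hNF := h.fpf_four hv (odd_pgroup ht hNp) hNi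
        refine hlt.not_ge (hNF.le_of_axes ((ax_le_tPart hNp).trans le_sup_left) ?_ ?_)
        · exact fun y hy => Subgroup.mem_sup_right ⟨(ax_le _ _ hy).1,
            key y (ax_le _ _ hy).1 (hNF.swap.inverts hy) (ax_le _ _ hy).2⟩
        · exact fun y hy => Subgroup.mem_sup_right ⟨(ax_le _ _ hy).1,
            key y (ax_le _ _ hy).1 (hNF.rot.rot.inverts hy) (ax_le _ _ hy).2⟩
    have hXi : Inv j v X := ⟨hXinv j hjM h.jj, hXinv v hvM hF.vv⟩
    have hXF := h.fpf_four hv hXo hXi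
    obtain ⟨T, hTX, hTp, hTi, hTc⟩ := hXF.exists_sylow t
    have hPX : (P ⊓ X) ≤ T := hXF.le_sylow inf_le_right (hP.1.to_le inf_le_left)
      (hF.inv_inf hP.2.1 hXi) hTX hTi hTc
    have hTP : T ≤ P := hP.2.2 T hTp hTi
    have hav : ax T v = tPart t v := le_antisymm (ax_le_tPart hTp) fun x hx => mem_ax.2
      ⟨hPX ⟨hRv hx, hoff x (hRv hx) (hPF.swap.inverts (mem_ax.2 ⟨hRv hx, (tPart_comm hx).symm⟩))⟩,
        (tPart_comm hx).symm⟩
    have haw : ax T (j * v) = tPart t (j * v) := le_antisymm (ax_le_tPart hTp) fun x hx => mem_ax.2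
      ⟨hPX ⟨hRw hx, hoff x (hRw hx) (hPF.rot.rot.inverts (mem_ax.2 ⟨hRw hx, (tPart_comm hx).symm⟩))⟩,
        (tPart_comm hx).symm⟩
    have hcT := (hXF.mono' hTX hTi).card_eq
    rw [hav, haw, (h.tPart_card hv).1, (h.tPart_card hv).2] at hcT
    -- the transitive four-group
    have hXi' : Inv j w X := ⟨hXinv j hjM h.jj, hXinv w hwM (h.hyp.out_sq hw)⟩
    have hXF' := h.fpf_four hw hXo hXi'
    obtain ⟨T', hT'X, hT', hT'i, hT'c⟩ := hXF'.exists_sylow t
    have hF' := h.toR1.four hw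
    have hn3 : n * (j * w) * n⁻¹ = j := by
      rw [show n * (j * w) * n⁻¹ = n * j * n⁻¹ * (n * w * n⁻¹) by group, hn1, hn2, ← mul_assoc,
        ← hF'.comm, mul_assoc, hF'.vv, mul_one]
    have hnT : T'.map (MulAut.conj n).toMonoidHom ≤ T' := by
      refine hXF'.le_sylow ?_ (hT'.map _) (inv_conj hF' hT'i ?_ ?_) hT'X hT'i hT'c
      · rintro _ ⟨x, hx, rfl⟩
        exact core2_conj hnM (hT'X hx)
      · rw [show n⁻¹ * j * n = j * w by nth_rewrite 1 [← hn3]; group]; exact hF'.w_mem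
      · rw [show n⁻¹ * w * n = j by nth_rewrite 1 [← hn1]; group]; exact hF'.u_mem
    have hmove : ∀ u, Nat.card (ax T' u) ≤ Nat.card (ax T' (n * u * n⁻¹)) := fun u =>
      Nat.card_le_card_of_injective (fun x => ⟨n * (x : G) * n⁻¹, mem_ax.2
        ⟨hnT ⟨x, ax_le _ _ x.2, rfl⟩, conj_comm (mem_ax.1 x.2).2⟩⟩) fun x y e =>
        Subtype.ext (mul_left_cancel (mul_right_cancel (Subtype.ext_iff.1 e)))
    have m1 : Nat.card (ax T' j) ≤ Nat.card (ax T' w) := hn1 ▸ hmove j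
    have m2 : Nat.card (ax T' w) ≤ Nat.card (ax T' (j * w)) := hn2 ▸ hmove w
    have m3 : Nat.card (ax T' (j * w)) ≤ Nat.card (ax T' j) := by
      have := hmove (j * w)
      rwa [hn3] at this
    have hj0 : Nat.card (ax T' j) = Nat.card (tPart t j ⊓ X : Subgroup G) := by
      congr 2
      refine le_antisymm (le_inf (ax_le_tPart hT') ((ax_le _ _).trans hT'X)) fun x hx => mem_ax.2
        ⟨hXF'.le_sylow inf_le_right ((h.tPart_pgroup ht).to_le inf_le_left)
          (hF'.inv_inf (h.tPart_inv ht hw) hXi') hT'X hT'i hT'c hx, (tPart_comm hx.1).symm⟩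
    have hj0' : Nat.card (ax T j) = Nat.card (tPart t j ⊓ X : Subgroup G) := by
      congr 2
      refine le_antisymm (le_inf (ax_le_tPart hTp) ((ax_le _ _).trans hTX)) fun x hx => mem_ax.2
        ⟨hPX ⟨hR hx.1, hx.2⟩, (tPart_comm hx.1).symm⟩
    have hcT' := (hXF'.mono' hT'X hT'i).card_eq
    rw [show Nat.card (ax T' w) = Nat.card (ax T' j) by omega,
      show Nat.card (ax T' (j * w)) = Nat.card (ax T' j) by omega, hj0] at hcT'
    rw [hj0'] at hcT
    set r0 := Nat.card (tPart t j ⊓ X : Subgroup G) with hr0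
    have hr0pos : 0 < r0 := Nat.card_pos
    have heq : r0 * r0 * r0 = r0 * Nat.card (tPart t j) * Nat.card (tPart t j) := by
      rw [← hcT', ← hcT, hTc, hT'c]
    have h2 : r0 * r0 = Nat.card (tPart t j) * Nat.card (tPart t j) :=
      Nat.eq_of_mul_eq_mul_left hr0pos (by rw [← mul_assoc, ← mul_assoc, heq])
    have h3 : r0 = Nat.card (tPart t j) := Nat.mul_self_inj.1 h2
    exact hr₀X ((Subgroup.eq_of_le_of_card_ge inf_le_left h3.ge).symm.le hr₀).2

end Main

end Cfsg.Agent.DGroup
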