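import Cfsg.Agent.Lib.DGroup.TIMain
import Cfsg.Agent.Lib.BSW.Main
import Cfsg.Agent.Lib.BSW.Zass
import Cfsg.Agent.Lib.AutPSL.Outer
import Cfsg.Agent.Lib.AutPSL.Classes
import Cfsg.Agent.Lib.AutPSL.Centralizer
import Cfsg.Agent.Lib.Classical.DicksonProper
import Cfsg.Agent.Lib.Char.Burnside

/-!
# The one-class configuration gives `PSL₂`, its extension of index two gives `PGL₂`
-/

set_option autoImplicit false
set_option linter.unusedSectionVars false
set_option linter.style.haveILetI false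

namespace Cfsg.Agent.DGroup

open Cfsg.Agent

universe u

variable {G : Type u} [Group G] [Finite G]

theorem solvable_psl_three {F : Type} [Field F] [Fintype F] (hF : Fintype.card F = 3) :
    Group.IsSolvable (Matrix.ProjectiveSpecialLinearGroup (Fin 2) F) := by
  have hcard : Nat.card (Matrix.ProjectiveSpecialLinearGroup (Fin 2) F) = 2 ^ 2 * 3 ^ 1 := by
    have h := Dickson.gcd_mul_card_psl (K := F)
    rw [Nat.card_eq_fintype_card (α := F), hF] at h
    norm_num at h ⊢
    omega
  exact Char.isSolvable_of_card_pq 2 3 Nat.prime_two Nat.prime_three _ _ hcard ⟨2, 1, rfl⟩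

namespace Main

variable {A : Subgroup G} {s j : G} (h : Main A s j)

include h

/-- Distinct conjugates of `A` meet trivially. -/
theorem ti {g : G} (hg : g ∉ BSW.Cz j) : A ⊓ A.map (MulAut.conj g).toMonoidHom = ⊥ := by
  rw [Subgroup.eq_bot_iff_forall]
  rintro _ ⟨hx, a, ha, rfl⟩
  simp only [MulEquiv.toMonoidHom_eq_coe, MonoidHom.coe_coe, MulAut.conj_apply] at hx ⊢
  by_contra hx1
  have ha1 : a ≠ 1 := fun e => hx1 (by rw [e]; group)
  apply hg
  rw [BSW.mem_Cz]
  rcases Nat.even_or_odd (orderOf a) with ⟨m, hm⟩ | ho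
  · have hm0 : 0 < m := by have := orderOf_pos a; omega
    have hne : a ^ m ≠ 1 := fun e => by
      have := Nat.le_of_dvd hm0 (orderOf_dvd_of_pow_eq_one e)
      omega
    have hsq : a ^ m * a ^ m = 1 := by rw [← pow_add, ← hm, pow_orderOf_eq_one]
    have e1 : a ^ m = j := h.uniq _ ⟨pow_mem ha m, hsq, hne⟩
    have e2 : (g * a * g⁻¹) ^ m = j := h.uniq _ ⟨pow_mem hx m, by
      rw [conj_pow, show g * a ^ m * g⁻¹ * (g * a ^ m * g⁻¹) = g * (a ^ m * a ^ m) * g⁻¹ by group, hsq]
      group, fun e => hne (by rwa [conj_pow, conj_eq_one_iff] at e)⟩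
    rw [conj_pow, e1] at e2
    exact mul_inv_eq_iff_eq_mul.1 e2
  · have hxo : Odd (orderOf (g * a * g⁻¹)) := by
      rw [show g * a * g⁻¹ = MulAut.conj g a from rfl, MulEquiv.orderOf_eq]; exact ho
    have hwx := conj_comm (g := g) (h.hyp.comm j h.jmem a ha)
    have hwj := cent G h _ hx hxo hx1 _ hwx
    have hw2 : g * j * g⁻¹ * (g * j * g⁻¹) = 1 := by
      rw [show g * j * g⁻¹ * (g * j * g⁻¹) = g * (j * j) * g⁻¹ by group, h.jj]; group
    rcases h.toR1.mem_of_comm hwj with hA | hA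
    · rcases h.sq_cases hA hw2 with e | e
      · exact absurd (conj_eq_one_iff.1 e) h.j_ne
      · exact mul_inv_eq_iff_eq_mul.1 e
    · exfalso
      have e := h.hyp.out_conj hA hx
      rw [hwx, mul_inv_cancel_right] at e
      exact hx1 (Invol.eq_one_of_sq_of_odd hxo (by rw [pow_two]; exact mul_eq_one_iff_eq_inv.2 e))

theorem bsw : BSW.Hyp j A s where
  ht := h.j_order
  comm := h.hyp.comm
  le := fun a ha => BSW.mem_Cz.2 (h.hyp.comm a ha j h.jmem)
  tK := h.jmem
  hs := orderOf_two h.hyp.ss h.hyp.s_ne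
  sH := BSW.mem_Cz.2 (h.hyp.inner_comm h.jA h.hyp.s_mem)
  sK := h.hyp.sA
  H_eq := by
    refine le_antisymm (sup_le (fun a ha => BSW.mem_Cz.2 (h.hyp.comm a ha j h.jmem))
      (Subgroup.zpowers_le.2 (BSW.mem_Cz.2 (h.hyp.inner_comm h.jA h.hyp.s_mem)))) fun g hg => ?_
    rcases h.toR1.mem_of_comm (BSW.mem_Cz.1 hg) with hA | hA
    · exact Subgroup.mem_sup_left hA
    · rw [show g = g * s * s by rw [mul_assoc, h.hyp.ss, mul_one]]
      exact mul_mem (Subgroup.mem_sup_left hA) (Subgroup.mem_sup_right (Subgroup.mem_zpowers s))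
  CK := by
    refine le_antisymm (fun x hx => ?_) (Subgroup.zpowers_le.2 ⟨h.jmem,
      BSW.mem_Cz.2 (h.hyp.inner_comm h.jA h.hyp.s_mem).symm⟩)
    have e : x * s = s * x := BSW.mem_Cz.1 hx.2
    have e2 := h.hyp.inv x hx.1
    rw [← e, mul_assoc, h.hyp.ss, mul_one] at e2
    rcases h.sq_cases hx.1 (mul_eq_one_iff_eq_inv.2 e2) with e' | e' <;> rw [e']
    · exact one_mem _
    · exact Subgroup.mem_zpowers j
  inv := fun x hx => h.hyp.out_conj (by rw [h.hyp.ss]; exact one_mem A) hx
  TI := fun _ hg => h.ti hg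
  oneclass := h.oneClass

/-- A non-trivial normal subgroup is everything. -/
theorem normal_eq_top (hns : ¬ Group.IsSolvable G) {N : Subgroup G} (hN : N.Normal) (hne : N ≠ ⊥) :
    N = ⊤ := by
  haveI := hN
  haveI := Fact.mk Nat.prime_two
  have heven : Even (Nat.card N) := Nat.not_odd_iff_even.1 fun ho => hne (h.noOdd N hN ho)
  obtain ⟨x, hx⟩ := exists_prime_orderOf_dvd_card' (G := N) 2 (even_iff_two_dvd.1 heven)
  rw [← Subgroup.orderOf_coe] at hx
  have hinv : ∀ y : G, orderOf y = 2 → y ∈ N := fun y hy => by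
    obtain ⟨r, hr⟩ := isConj_iff.1 (h.oneClass x y hx hy)
    exact hr ▸ hN.conj_mem _ x.2 r
  have hout : ∀ y, y * s ∈ A → y ∈ N := fun y hy =>
    hinv y (orderOf_two (h.hyp.out_sq hy) (h.toR1.out_ne hy).1)
  have hHN : h.hyp.H ≤ N := by
    rintro a (ha | ha)
    · have h1 := hout (a * s) (by rwa [mul_assoc, h.hyp.ss, mul_one])
      have := mul_mem h1 (hout s (by rw [h.hyp.ss]; exact one_mem A))
      rwa [mul_assoc, h.hyp.ss, mul_one] at this
    · exact hout a ha
  obtain ⟨S, hS⟩ := h.sylow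
  obtain ⟨v, hvS, hv⟩ := h.toR1.exists_out hS
  -- every coset meets the normalizer of the Sylow subgroup
  have hfr : ∀ g : G, ∃ n, g⁻¹ * n ∈ N ∧ ∀ y ∈ (S : Subgroup G), n * y * n⁻¹ ∈ (S : Subgroup G) := by
    intro g
    have hsup := Sylow.normalizer_sup_eq_top (S.subtype (hS.trans hHN))
    rw [Sylow.coe_subtype, Subgroup.map_subgroupOf_eq_of_le (hS.trans hHN)] at hsup
    have hg : g ∈ Subgroup.normalizer ((S : Subgroup G) : Set G) ⊔ N := by rw [hsup]; trivial
    rw [← SetLike.mem_coe, Subgroup.coe_mul_of_left_le_normalizer_right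
      (Subgroup.normalizer ((S : Subgroup G) : Set G)) N
      (by rw [Subgroup.normalizer_eq_top N]; exact le_top)] at hg
    obtain ⟨n, hn, k, hk, rfl⟩ := hg
    refine ⟨n, ?_, fun y hy => (Subgroup.mem_normalizer_iff.1 hn y).1 hy⟩
    simpa [mul_assoc] using hk
  by_cases hA : ∃ a ∈ A, a * a = j
  · obtain ⟨a, ha, haa⟩ := hA
    have ha4 : a ^ (2 ^ 2) = 1 := by
      rw [show (2 : ℕ) ^ 2 = 2 * 2 from rfl, pow_mul, pow_two a, haa, pow_two, h.jj]
    obtain ⟨k, -, hk⟩ := (Nat.dvd_prime_pow Nat.prime_two).1 (orderOf_dvd_of_pow_eq_one ha4)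
    have haS := h.toR1.two_mem hS ha ⟨k, hk⟩
    refine eq_top_iff.2 fun g _ => ?_
    obtain ⟨n, hgn, hn⟩ := hfr g
    have hjS := h.toR1.jmem_sylow hS
    have hnH : n ∈ h.hyp.H := by
      set w := n * j * n⁻¹ with hw
      have hw2 : w * w = 1 := by
        rw [hw, show n * j * n⁻¹ * (n * j * n⁻¹) = n * (j * j) * n⁻¹ by group, h.jj]; group
      have hfix : ∀ y ∈ (S : Subgroup G), w * y = y * w := by
        intro y hy
        have hy' : n⁻¹ * y * n ∈ (S : Subgroup G) := by
          have hninv : n ∈ Subgroup.normalizer ((S : Subgroup G) : Set G) := mem_normalizer_of_forall hn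
          exact (Subgroup.mem_normalizer_iff''.1 hninv y).1 hy
        have := conj_comm (g := n) (h.hyp.inner_comm h.jA (hS hy'))
        rw [show n * (n⁻¹ * y * n) * n⁻¹ = y by group] at this
        exact this.symm
      rcases hS (hn j hjS) with hwA | hwA
      · rcases h.sq_cases hwA hw2 with e | e
        · exact absurd (conj_eq_one_iff.1 e) h.j_ne
        · exact h.hyp.mem_H_of_comm h.jA (mul_inv_eq_iff_eq_mul.1 e)
      · exfalso
        have e := h.hyp.out_conj hwA ha
        rw [hfix a haS, mul_inv_cancel_right] at e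
        exact h.j_ne (by rw [← haa]; exact mul_eq_one_iff_eq_inv.2 e)
    have := mul_mem (hHN hnH) (inv_mem hgn)
    simpa using this
  · -- a four-group
    have hS4 : Nat.card (S : Subgroup G) ≤ 4 := h.toR1.card_two_le hA S.isPGroup'
    have hjN : j ∈ N := hHN (Or.inl h.jmem)
    by_cases hf : ∃ w d, w * s ∈ A ∧ d ∈ N ∧ d * j * d⁻¹ = w
    · obtain ⟨w, d, hw, hd, hdw⟩ := hf
      obtain ⟨v₁, n, hv₁, -, hnN, hn1, hn2⟩ := h.toR1.exists_trans (D := N) (Or.inr hA) hjN hd
        (by rw [hdw]; exact h.toR1.comm_out hw) (by rw [hdw]; exact (h.toR1.out_ne hw).2)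
      have hall : ∀ y, orderOf y = 2 → y ∈ h.hyp.H → ∃ k ∈ N, k * j * k⁻¹ = y := by
        intro y hy hyH
        rcases hyH with hyA | hyA
        · refine ⟨1, one_mem N, ?_⟩
          rcases h.sq_cases hyA (mul_self_of_orderOf hy) with e | e
          · rw [e, orderOf_one] at hy; omega
          · rw [e]; group
        · obtain ⟨r, -, hrA, v₀, hv₀, hr⟩ := h.toR1.out_normal_form (D := ⊤)
            (fun ⟨a, _, ha, e⟩ => hA ⟨a, ha, e⟩) trivial hv₁ trivial hyA trivial
          rcases hv₀ with e | e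
          · refine ⟨r * n, mul_mem (hHN (Or.inl hrA)) hnN, ?_⟩
            rw [show r * n * j * (r * n)⁻¹ = r * (n * j * n⁻¹) * r⁻¹ by group, hn1, ← e, hr]
          · refine ⟨r * (n * n), mul_mem (hHN (Or.inl hrA)) (mul_mem hnN hnN), ?_⟩
            rw [show r * (n * n) * j * (r * (n * n))⁻¹ = r * (n * (n * j * n⁻¹) * n⁻¹) * r⁻¹ by group,
              hn1, hn2, ← e, hr]
      refine eq_top_iff.2 fun g _ => ?_
      obtain ⟨m, hgm, hm⟩ := hfr g
      obtain ⟨k, hk, e⟩ := hall (m * j * m⁻¹) (by rw [Invol.order_conj, h.j_order])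
        (hS (hm j (h.toR1.jmem_sylow hS)))
      have h1 : k⁻¹ * m ∈ h.hyp.H := h.hyp.mem_H_of_comm h.jA (by
        calc k⁻¹ * m * j = k⁻¹ * (m * j * m⁻¹) * m := by group
          _ = k⁻¹ * (k * j * k⁻¹) * m := by rw [e]
          _ = j * (k⁻¹ * m) := by group)
      have := mul_mem (mul_mem hk (hHN h1)) (inv_mem hgm)
      simpa [mul_assoc] using this
    · -- otherwise `N` is solvable and has index at most three
      exfalso
      have hsN : Group.IsSolvable N := (h.toR1.restrict hHN).solvable_of_none (noOdd_normal h.noOdd hN)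
        fun y hy hc => hf ⟨y, by
          obtain ⟨d, hd⟩ := isConj_iff.1 hc
          exact ⟨d, hy, d.2, congrArg Subtype.val hd⟩⟩
      classical
      choose r hr1 hr2 using fun q : G ⧸ N => hfr q.out
      let f : G ⧸ N → {y : (S : Subgroup G) // y ≠ 1} := fun q =>
        ⟨⟨r q * j * (r q)⁻¹, hr2 q j (h.toR1.jmem_sylow hS)⟩,
          fun e => h.j_ne (conj_eq_one_iff.1 (congrArg Subtype.val e))⟩
      have hinj : Function.Injective f := by
        intro q q' e
        have e1 : r q * j * (r q)⁻¹ = r q' * j * (r q')⁻¹ :=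
          congrArg (fun z : {y : (S : Subgroup G) // y ≠ 1} => ((z : (S : Subgroup G)) : G)) e
        have h1 : (r q)⁻¹ * r q' ∈ N := hHN (h.hyp.mem_H_of_comm h.jA (by
          calc (r q)⁻¹ * r q' * j = (r q)⁻¹ * (r q' * j * (r q')⁻¹) * r q' := by group
            _ = (r q)⁻¹ * (r q * j * (r q)⁻¹) * r q' := by rw [e1]
            _ = j * ((r q)⁻¹ * r q') := by group))
        rw [← QuotientGroup.out_eq' q, ← QuotientGroup.out_eq' q', QuotientGroup.eq]
        have := mul_mem (mul_mem (hr1 q) h1) (inv_mem (hr1 q'))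
        simpa [mul_assoc] using this
      have h3 : Nat.card (G ⧸ N) ≤ 3 := by
        refine le_trans (Nat.card_le_card_of_injective f hinj) ?_
        haveI := Fintype.ofFinite (S : Subgroup G)
        rw [Nat.card_eq_fintype_card, Fintype.card_subtype_compl, Fintype.card_subtype_eq]
        rw [Nat.card_eq_fintype_card] at hS4
        omega
      haveI : Group.IsSolvable (G ⧸ N) := by
        have hpos : 0 < Nat.card (G ⧸ N) := Nat.card_pos
        haveI : IsCyclic (G ⧸ N) := by
          rcases (show Nat.card (G ⧸ N) = 1 ∨ Nat.card (G ⧸ N) = 2 ∨ Nat.card (G ⧸ N) = 3 by omega)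
            with e | e | e
          · haveI : Subsingleton (G ⧸ N) := (Nat.card_eq_one_iff_unique.1 e).1
            exact isCyclic_of_subsingleton
          · haveI := Fact.mk Nat.prime_two
            exact isCyclic_of_prime_card e
          · haveI := Fact.mk Nat.prime_three
            exact isCyclic_of_prime_card e
        haveI : IsMulCommutative (G ⧸ N) := IsCyclic.isMulCommutative
        exact Group.isSolvable_of_comm fun a b => mul_comm' a b
      exact hns (Group.isSolvable_of_ker_le_range N.subtype (QuotientGroup.mk' N)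
        (by rw [QuotientGroup.ker_mk', Subgroup.range_subtype]))

/-- The one-class configuration is `PSL₂(q)`, `q > 3` odd. -/
theorem psl (hns : ¬ Group.IsSolvable G) :
    ∃ (F : Type) (_ : Field F) (_ : Fintype F), Odd (Fintype.card F) ∧ 3 < Fintype.card F ∧
      Nonempty (G ≃* Matrix.ProjectiveSpecialLinearGroup (Fin 2) F) := by
  haveI : Nontrivial G := ⟨⟨j, 1, h.j_ne⟩⟩
  haveI : IsSimpleGroup G := ⟨fun N hN =>
    (em (N = ⊥)).imp id fun hne => h.normal_eq_top hns hN hne⟩
  have hnc : ¬ IsMulCommutative G := fun hc =>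
    hns (Group.isSolvable_of_comm fun a b => mul_comm' a b)
  obtain ⟨F, hF, hFt, hodd, ⟨e⟩⟩ := BSW.psl_of_goal hnc (BSW.main h.bsw)
  refine ⟨F, hF, hFt, hodd, ?_, ⟨e⟩⟩
  by_contra hle
  have h2 : 2 ≤ Fintype.card F := Fintype.one_lt_card
  have h3 : Fintype.card F = 3 := by
    rcases hodd with ⟨m, hm⟩
    omega
  haveI := solvable_psl_three h3
  exact hns (Group.isSolvable_of_isSolvable_injective (f := e.toMonoidHom) e.injective)

end Main

open Matrix in
/-- An extension of index two of `PSL₂` with dihedral Sylow subgroups is `PGL₂`. -/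
theorem R1.pgl {A : Subgroup G} {s j : G} (h : R1 A s j) {K : Subgroup G} (hK : K.Normal)
    {a₀ v : G} (hjK : j ∈ K) (hvK : v ∈ K) (ha₀ : a₀ ∈ A) (hv : v * s ∈ A)
    (hM : Main (A.subgroupOf K) (⟨v, hvK⟩ : K) ⟨j, hjK⟩) (hi : K.index = 2) (ha₀K : a₀ ∉ K)
    {F : Type} [Field F] [Fintype F] (hodd : Odd (Fintype.card F))
    (e : K ≃* Matrix.ProjectiveSpecialLinearGroup (Fin 2) F) :
    Nonempty (G ≃* Matrix.ProjGenLinGroup (Fin 2) F) := by
  classical
  haveI := hK
  -- `K` is self-centralising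
  have hcent : ∀ g : G, (∀ k ∈ K, g * k = k * g) → g = 1 := by
    intro g hg
    obtain ⟨n, hn1, hn2⟩ := hM.exists_global (v := (⟨v, hvK⟩ : K))
      (by rw [hM.hyp.ss]; exact one_mem _)
    have hn1' : (n : G) * j * (n : G)⁻¹ = v := congrArg Subtype.val hn1
    have hn2' : (n : G) * v * (n : G)⁻¹ = j * v := congrArg Subtype.val hn2
    have hgn : (n : G) * g * (n : G)⁻¹ = g := by rw [← hg n n.2, mul_inv_cancel_right]
    obtain ⟨hv1, hvj⟩ := h.out_ne hv
    rcases h.centralizer_four hv (hg j hjK) (hg v hvK) with e' | e' | e' | e'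
    · exact e'
    · exfalso; rw [e', hn1'] at hgn; exact hvj hgn
    · exfalso; rw [e', hn2'] at hgn
      exact h.j_ne (mul_right_cancel (hgn.trans (one_mul v).symm))
    · exfalso
      rw [e', conj_pair (h.comm_out hv).symm, hn1', hn2', ← mul_assoc, h.comm_out hv, mul_assoc,
        h.hyp.out_sq hv, mul_one] at hgn
      exact hv1 (mul_left_cancel ((mul_one j).trans hgn).symm)
  -- an outer involution
  set w := a₀ * v with hw
  have hwK : w ∉ K := fun hh => ha₀K ((Subgroup.mul_mem_cancel_right _ hvK).1 hh)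
  have hwA : w * s ∈ A := by rw [hw, mul_assoc]; exact mul_mem ha₀ hv
  have hww : w * w = 1 := h.hyp.out_sq hwA
  clear_value w
  let φ : G →* MulAut (Matrix.ProjectiveSpecialLinearGroup (Fin 2) F) :=
    (MulAut.congr e).toMonoidHom.comp MulAut.conjNormal
  have hφ : ∀ (g : G) (x : K), φ g (e x) = e (MulAut.conjNormal g x) := fun g x => by
    simp [φ, MulAut.congr]
  have hinj : Function.Injective φ := (injective_iff_map_eq_one φ).2 fun g hg => hcent g fun k hk => by
    have := hφ g ⟨k, hk⟩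
    rw [hg, MulAut.one_apply, EmbeddingLike.apply_eq_iff_eq] at this
    have h' := congrArg Subtype.val this
    rw [MulAut.conjNormal_apply] at h'
    exact (eq_mul_inv_iff_mul_eq.1 h').symm
  have hinn : ∀ k : K, φ k = MulAut.conj (e k) := fun k => MulEquiv.ext fun x => by
    obtain ⟨x, rfl⟩ := e.surjective x
    rw [hφ, MulAut.conj_apply, ← map_inv, ← map_mul, ← map_mul]
    exact congrArg e (Subtype.ext (MulAut.conjNormal_apply _ _))
  have hInn : ∀ β, β ∈ (MulAut.conj : Matrix.ProjectiveSpecialLinearGroup (Fin 2) F →* _).range →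
      ∃ k : K, φ k = β := by
    rintro _ ⟨x, rfl⟩
    exact ⟨e.symm x, by rw [hinn, e.apply_symm_apply]⟩
  obtain ⟨σ, ε, ⟨g, hg⟩, he⟩ := AutPSL.exists_hasType le_rfl (φ w)
  rw [he rfl, AutPSL.invTPow, if_pos rfl, mul_one] at hg
  have hm1 : (-1 : F) ≠ 1 := by
    intro e1
    have h2 : (2 : F) = 0 := by linear_combination -e1
    exact (Ring.two_ne_zero (R := F) (by
      intro hc
      exact Nat.not_even_iff_odd.2 hodd (FiniteField.even_card_iff_char_two.1 hc |> Nat.even_iff.2))) h2
  have hσ : σ = 1 := by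
    by_contra hσ
    have hsq : (AutPSL.semi g σ : MulAut _) ^ 2 = 1 := by
      rw [← hg, ← map_pow, pow_two, hww, map_one]
    have hσ2 : orderOf σ = 2 := by
      have h2 := hsq
      rw [pow_two, AutPSL.semi_mul', AutPSL.semi_eq_one_iff le_rfl] at h2
      exact orderOf_two h2.1 hσ
    obtain ⟨P, hP⟩ := AutPSL.conj_of_pow_eq_one le_rfl g σ (by rw [hσ2]; exact hsq)
    -- `-1` is a square
    have hneg : ∀ δ : GL (Fin 2) F, (GeneralLinearGroup.det δ : F) = -1 →
        (AutPSL.semi δ 1 : MulAut _) ∈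
          (MulAut.conj : Matrix.ProjectiveSpecialLinearGroup (Fin 2) F →* _).range := by
      intro δ hδ
      rw [AutPSL.semi_mem_inn le_rfl]
      obtain ⟨K₀, -, hK₀⟩ := AutPSL.exists_fixed_field σ
      rw [hσ2] at hK₀
      have hs : IsSquare (-1 : F) := by
        rw [FiniteField.isSquare_neg_one_iff, hK₀, Nat.pow_mod]
        have := Nat.mod_lt (Nat.card K₀) (show 0 < 4 by norm_num)
        rcases (show Nat.card K₀ % 4 = 0 ∨ Nat.card K₀ % 4 = 1 ∨ Nat.card K₀ % 4 = 2 ∨
          Nat.card K₀ % 4 = 3 by omega) with e | e | e | e <;> rw [e] <;> norm_num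
      obtain ⟨i, hi⟩ := hs
      have hi0 : i ≠ 0 := fun e => by rw [e, mul_zero] at hi; exact (neg_ne_zero.2 one_ne_zero) hi
      exact ⟨Units.mk0 i hi0, Units.ext (by
        rw [powMonoidHom_apply, Units.val_pow_eq_pow_val, Units.val_mk0, hδ, hi, pow_two])⟩
    set β : GL (Fin 2) F := AutPSL.diagGL ![-1, 1] with hβ
    set γ : GL (Fin 2) F := GeneralLinearGroup.mkOfDetNeZero !![0, 1; 1, 0]
      (by simp [Matrix.det_fin_two]) with hγ
    have hβv : (β : Matrix (Fin 2) (Fin 2) F) = !![-1, 0; 0, 1] := by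
      rw [hβ, AutPSL.diagGL_coe]
      ext i k
      fin_cases i <;> fin_cases k <;> simp
    have hγv : (γ : Matrix (Fin 2) (Fin 2) F) = !![0, 1; 1, 0] := rfl
    have hdetβ : (GeneralLinearGroup.det β : F) = -1 := by
      rw [Matrix.GeneralLinearGroup.val_det_apply, hβv]; simp [Matrix.det_fin_two]
    have hdetγ : (GeneralLinearGroup.det γ : F) = -1 := by
      rw [Matrix.GeneralLinearGroup.val_det_apply, hγv]; simp [Matrix.det_fin_two]
    have mapfix : ∀ (δ : GL (Fin 2) F), (∀ i k, (δ : Matrix (Fin 2) (Fin 2) F) i k ∈ ({0, 1, -1} : Set F)) →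
        AutPSL.mapGL σ δ = δ := by
      intro δ hδ
      refine Units.ext (Matrix.ext fun i k => ?_)
      rw [AutPSL.mapGL_coe, Matrix.map_apply]
      rcases hδ i k with h' | h' | h'
      · rw [h', map_zero]
      · rw [h', map_one]
      · rw [Set.mem_singleton_iff] at h'; rw [h', map_neg, map_one]
    have hβfix : AutPSL.mapGL σ β = β := mapfix β fun i k => by
      rw [hβv]; fin_cases i <;> fin_cases k <;> simp
    have hγfix : AutPSL.mapGL σ γ = γ := mapfix γ fun i k => by
      rw [hγv]; fin_cases i <;> fin_cases k <;> simp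
    set b : MulAut (Matrix.ProjectiveSpecialLinearGroup (Fin 2) F) := AutPSL.semi P 1 with hb
    set α : MulAut (Matrix.ProjectiveSpecialLinearGroup (Fin 2) F) := AutPSL.semi 1 σ with hα
    have hcommα : ∀ δ, AutPSL.mapGL σ δ = δ → Commute α (AutPSL.semi δ 1) := fun δ hδ => by
      show α * _ = _ * α
      rw [hα, AutPSL.semi_mul', AutPSL.semi_mul', hδ, one_mul, mul_one, AutPSL.mapGL_one, one_mul,
        mul_one]
    have hsc : γ * β = GeneralLinearGroup.scalar (Fin 2) (-1 : Fˣ) * (β * γ) := by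
      refine Units.ext ?_
      simp only [Units.val_mul, hβv, hγv]
      show _ = Matrix.scalar (Fin 2) ((-1 : Fˣ) : F) * _
      rw [Units.val_neg, Units.val_one]
      ext i k
      fin_cases i <;> fin_cases k <;> simp [Matrix.mul_apply, Fin.sum_univ_two]
    have hβγ : Commute (AutPSL.semi γ 1 : MulAut (Matrix.ProjectiveSpecialLinearGroup (Fin 2) F))
        (AutPSL.semi β 1) := by
      show _ * _ = _ * _
      rw [AutPSL.semi_mul', AutPSL.semi_mul', AutPSL.mapGL_one, AutPSL.mapGL_one, mul_one, hsc,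
        AutPSL.semi_scalar_mul]
    have hsq1 : ∀ δ : GL (Fin 2) F, δ * δ = 1 →
        (AutPSL.semi δ 1 : MulAut (Matrix.ProjectiveSpecialLinearGroup (Fin 2) F)) *
          AutPSL.semi δ 1 = 1 := fun δ hδ => by
      rw [AutPSL.semi_mul', AutPSL.mapGL_one, mul_one, hδ, AutPSL.semi_one]
    have hnorm : ∀ x, x ∈ (MulAut.conj : Matrix.ProjectiveSpecialLinearGroup (Fin 2) F →* _).range →
        b * x * b⁻¹ ∈ (MulAut.conj : Matrix.ProjectiveSpecialLinearGroup (Fin 2) F →* _).range := by
      rintro _ ⟨x, rfl⟩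
      exact ⟨b x, MulEquiv.ext fun y => by simp [MulAut.conj_apply]⟩
    obtain ⟨x, hx⟩ := hInn _ (hnorm _ (hneg β hdetβ))
    obtain ⟨y, hy⟩ := hInn _ (hnorm _ (hneg γ hdetγ))
    have hwα : φ w = b * α * b⁻¹ := by rw [hg, ← hP]
    have cm : ∀ p q : MulAut (Matrix.ProjectiveSpecialLinearGroup (Fin 2) F), Commute p q →
        Commute (b * p * b⁻¹) (b * q * b⁻¹) := fun p q hpq => conj_comm hpq
    have hxy : x * y = y * x := Subtype.ext (hinj (by
      show φ ((x : G) * y) = φ ((y : G) * x)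
      rw [map_mul, map_mul, hx, hy]
      exact (cm _ _ hβγ).symm.eq))
    have hxw : w * x = x * w := hinj (by
      rw [map_mul, map_mul, hwα, hx]
      exact (cm _ _ (hcommα β hβfix)).eq)
    have hyw : w * y = y * w := hinj (by
      rw [map_mul, map_mul, hwα, hy]
      exact (cm _ _ (hcommα γ hγfix)).eq)
    have hββ : β * β = 1 := by
      refine Units.ext ?_
      simp only [Units.val_mul, hβv, Units.val_one]
      ext i k
      fin_cases i <;> fin_cases k <;> simp [Matrix.mul_apply, Fin.sum_univ_two]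
    have hγγ : γ * γ = 1 := by
      refine Units.ext ?_
      simp only [Units.val_mul, hγv, Units.val_one]
      ext i k
      fin_cases i <;> fin_cases k <;> simp [Matrix.mul_apply, Fin.sum_univ_two]
    have hinvol : ∀ (δ : GL (Fin 2) F) (z : K), φ z = b * AutPSL.semi δ 1 * b⁻¹ → δ * δ = 1 →
        (¬ ∃ c : Fˣ, δ = GeneralLinearGroup.scalar (Fin 2) c) → orderOf z = 2 := by
      intro δ z hz hδ hns
      refine orderOf_two (Subtype.ext (hinj ?_)) fun e1 => hns ?_
      · show φ ((z : G) * z) = φ 1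
        rw [map_mul, hz, map_one, show b * AutPSL.semi δ 1 * b⁻¹ * (b * AutPSL.semi δ 1 * b⁻¹) =
          b * (AutPSL.semi δ 1 * AutPSL.semi δ 1) * b⁻¹ by group, hsq1 δ hδ, mul_one, mul_inv_cancel]
      · rw [e1, Subgroup.coe_one, map_one] at hz
        exact ((AutPSL.semi_eq_one_iff le_rfl).1 (conj_eq_one_iff.1 hz.symm)).2
    have hx2 : orderOf x = 2 := hinvol β x hx hββ fun ⟨c, hc⟩ => hm1 (by
      have h0 := congrArg (fun δ : GL (Fin 2) F => (δ : Matrix (Fin 2) (Fin 2) F) 0 0) hc
      have h1 := congrArg (fun δ : GL (Fin 2) F => (δ : Matrix (Fin 2) (Fin 2) F) 1 1) hc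
      simp [hβv] at h0 h1
      rw [h0, ← h1])
    have hy2 : orderOf y = 2 := hinvol γ y hy hγγ fun ⟨c, hc⟩ => by
      have h1 := congrArg (fun δ : GL (Fin 2) F => (δ : Matrix (Fin 2) (Fin 2) F) 0 1) hc
      simp [hγv] at h1
    have hxy' : (x : G) ≠ y := fun exy => by
      have e1 : b * AutPSL.semi β 1 * b⁻¹ = b * AutPSL.semi γ 1 * b⁻¹ := by rw [← hx, ← hy, exy]
      obtain ⟨-, c, hc⟩ := (AutPSL.semi_eq_semi le_rfl).1 (mul_left_cancel (mul_right_cancel e1))
      have h0 := congrArg (fun δ : GL (Fin 2) F => (δ : Matrix (Fin 2) (Fin 2) F) 0 0) hc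
      simp [hβv, hγv, Matrix.mul_apply, Fin.sum_univ_two] at h0
    -- three commuting involutions do not exist
    obtain ⟨k, hk⟩ := isConj_iff.1 (hM.oneClass x ⟨j, hjK⟩ hx2
      (orderOf_two (Subtype.ext h.jj) fun e1 => h.j_ne (congrArg Subtype.val e1)))
    have hk' : (k : G) * x * (k : G)⁻¹ = j := congrArg Subtype.val hk
    set y' := (k : G) * y * (k : G)⁻¹ with hy'
    set w' := (k : G) * w * (k : G)⁻¹ with hw'
    have hyy : (y : G) * y = 1 := congrArg Subtype.val (mul_self_of_orderOf hy2)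
    have hy'j : y' * j = j * y' := by
      rw [← hk']; exact conj_comm (congrArg Subtype.val hxy).symm
    have hw'j : w' * j = j * w' := by rw [← hk']; exact conj_comm hxw
    have hy'A : y' * s ∈ A := h.out_of_invol
      (by rw [hy', show (k : G) * y * (k : G)⁻¹ * ((k : G) * y * (k : G)⁻¹) =
        (k : G) * ((y : G) * y) * (k : G)⁻¹ by group, hyy]; group)
      (fun e1 => by
        have := conj_eq_one_iff.1 e1
        rw [← Subgroup.orderOf_coe, this, orderOf_one] at hy2; omega)
      (fun e1 => hxy' (mul_left_cancel (mul_right_cancel (hk'.trans e1.symm))))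
      hy'j
    have hw'A : w' * s ∈ A := h.out_of_invol
      (by rw [hw', show (k : G) * w * (k : G)⁻¹ * ((k : G) * w * (k : G)⁻¹) =
        (k : G) * (w * w) * (k : G)⁻¹ by group, hww]; group)
      (fun e1 => hwK (by rw [conj_eq_one_iff.1 e1]; exact one_mem K))
      (fun e1 => hwK (by rw [mul_left_cancel (mul_right_cancel (e1.trans hk'.symm))]; exact x.2))
      hw'j
    have hprod : w' * y' = (k : G) * (w * y) * (k : G)⁻¹ := by rw [hw', hy']; group
    rcases h.sq_cases (h.hyp.mul_out hw'A hy'A) (by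
      rw [hprod, show (k : G) * (w * y) * (k : G)⁻¹ * ((k : G) * (w * y) * (k : G)⁻¹) =
        (k : G) * (w * y * (w * y)) * (k : G)⁻¹ by group, mul_assoc w, ← mul_assoc (y : G), ← hyw,
        mul_assoc w, hyy, mul_one, hww]
      group) with e1 | e1
    · rw [hprod, conj_eq_one_iff] at e1
      exact hwK ((Subgroup.mul_mem_cancel_right _ y.2).1 (e1 ▸ one_mem K))
    · rw [hprod, ← hk'] at e1
      exact hwK ((Subgroup.mul_mem_cancel_right _ y.2).1
        ((mul_left_cancel (mul_right_cancel e1)) ▸ x.2))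
  subst hσ
  -- the image is the group of projective linear automorphisms
  set C : GL (Fin 2) F →* MulAut (Matrix.ProjectiveSpecialLinearGroup (Fin 2) F) := AutPSL.conjHom with hC
  have hrange : φ.range = C.range := by
    refine le_antisymm ?_ ?_
    · rintro _ ⟨x, rfl⟩
      have hKC : ∀ k : K, φ k ∈ C.range := fun k => AutPSL.inn_le_range ⟨e k, (hinn k).symm⟩
      by_cases hx : x ∈ K
      · exact hKC ⟨x, hx⟩
      · have hxw : x * w ∈ K := (Subgroup.mul_mem_iff_of_index_two hi).2 (iff_of_false hx hwK)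
        have := mul_mem (hKC ⟨_, hxw⟩) (inv_mem (⟨g, (AutPSL.conjHom_apply g).trans hg.symm⟩ :
          φ w ∈ C.range))
        rwa [← map_inv, ← map_mul, mul_inv_cancel_right] at this
    · rintro _ ⟨δ, rfl⟩
      rw [hC, AutPSL.conjHom_apply]
      by_cases hd : GeneralLinearGroup.det δ ∈ (powMonoidHom 2 : Fˣ →* Fˣ).range
      · obtain ⟨k, hk⟩ := hInn _ ((AutPSL.semi_mem_inn le_rfl δ).2 hd)
        exact ⟨k, hk⟩
      · have hg2 : GeneralLinearGroup.det g ∉ (powMonoidHom 2 : Fˣ →* Fˣ).range := fun hd2 => by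
          obtain ⟨k, hk⟩ := hInn _ ((AutPSL.semi_mem_inn le_rfl g).2 hd2)
          exact hwK (hinj (hk.trans hg.symm) ▸ k.2)
        have hidx : (powMonoidHom 2 : Fˣ →* Fˣ).range.index = 2 := by
          rw [Subgroup.index_eq_card, AutPSL.card_quotient_powMonoidHom (n := 2) rfl]
          obtain ⟨m, hm⟩ := hodd
          exact Nat.gcd_eq_left ⟨m, by omega⟩
        obtain ⟨k, hk⟩ := hInn _ ((AutPSL.semi_mem_inn le_rfl (δ * g⁻¹)).2 (by
          rw [map_mul, map_inv, Subgroup.mul_mem_iff_of_index_two hidx, inv_mem_iff]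
          exact iff_of_false hd hg2))
        refine ⟨(k : G) * w, ?_⟩
        rw [map_mul, hk, hg, AutPSL.semi_mul', AutPSL.mapGL_one, inv_mul_cancel_right, mul_one]
  have hker : C.ker = Subgroup.center (GL (Fin 2) F) := by
    ext δ
    rw [MonoidHom.mem_ker, hC, AutPSL.conjHom_apply, AutPSL.semi_eq_one_iff le_rfl,
      GeneralLinearGroup.center_eq_range_scalar, MonoidHom.mem_range]
    exact ⟨fun ⟨_, c, hc⟩ => ⟨c, hc.symm⟩, fun ⟨c, hc⟩ => ⟨rfl, c, hc.symm⟩⟩
  exact ⟨(MonoidHom.ofInjective hinj).trans ((MulEquiv.subgroupCongr hrange).trans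
    ((QuotientGroup.quotientKerEquivRange C).symm.trans (QuotientGroup.quotientMulEquivOfEq hker)))⟩

end Cfsg.Agent.DGroup
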