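import Cfsg.Agent.Lib.DGroup.FourMin
import Cfsg.Agent.Lib.Solvable.Structure

/-!
# A group of odd order with a fixed point free four-group is solvable
-/

set_option autoImplicit false
set_option linter.unusedSectionVars false
set_option linter.unusedVariables false
set_option linter.style.haveILetI false

universe u₀

namespace Cfsg.Agent.DGroup

open Cfsg (fittingOf pCoreOf)
open Cfsg.Agent.OddOrder
open scoped commutatorElement

section

variable {G : Type*} [Group G] [Finite G]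

theorem Four.inv_swap' {u v w : G} (h : Four u v w) {Y : Subgroup G} (hY : Inv u v Y) :
    Inv u w Y :=
  ⟨hY.1, fun x hx => by rw [h.conj_mul]; exact hY.1 _ (hY.2 x hx)⟩

theorem Four.inv_unswap' {u v w : G} (h : Four u v w) {Y : Subgroup G} (hY : Inv u w Y) :
    Inv u v Y :=
  ⟨hY.1, fun x hx => by rw [h.swap.rot.conj_mul]; exact hY.1 _ (hY.2 x hx)⟩

theorem mem_normalizer_of_forall {K : Subgroup G} {g : G} (h : ∀ x ∈ K, g * x * g⁻¹ ∈ K) :
    g ∈ Subgroup.normalizer (K : Set G) := by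
  rw [Subgroup.mem_normalizer_iff_map_conj_eq]
  refine Subgroup.eq_of_le_of_card_ge ?_
    (le_of_eq (Subgroup.card_map_of_injective (MulAut.conj g).injective).symm)
  rintro _ ⟨x, hx, rfl⟩
  exact h x hx

theorem meets_zc {t : ℕ} [Fact t.Prime] {P K : Subgroup G} (hP : IsPGroup t P) (hKP : K ≤ P)
    (hn : P ≤ Subgroup.normalizer (K : Set G)) (hK : K ≠ ⊥) :
    ∃ z, z ∈ zc P ∧ z ∈ K ∧ z ≠ 1 := by
  haveI := hP.isNilpotent
  haveI : (K.subgroupOf P).Normal := Subgroup.normal_subgroupOf_of_le_normalizer hn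
  have h1 : K.subgroupOf P ≠ ⊥ := fun e => hK (by
    rw [Subgroup.subgroupOf_eq_bot, disjoint_iff] at e
    rwa [inf_eq_left.2 hKP] at e)
  obtain ⟨⟨z, hz⟩, hz1⟩ := Subgroup.ne_bot_iff_exists_ne_one.1 (SolvStruct.inf_center_ne_bot h1)
  refine ⟨z, ⟨z.2, Subgroup.mem_centralizer_iff.2 fun y hy => ?_⟩, hz.1, fun e => hz1 ?_⟩
  · exact congrArg Subtype.val (Subgroup.mem_center_iff.1 hz.2 ⟨y, hy⟩)
  · exact Subtype.ext (Subtype.ext e)

theorem coprime_orderOf_card {t s : ℕ} [Fact t.Prime] [Fact s.Prime] (hne : s ≠ t)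
    {P U : Subgroup G} (hP : IsPGroup t P) (hU : IsPGroup s U) {c : G} (hc : c ∈ P) :
    (orderOf c).Coprime (Nat.card U) := by
  obtain ⟨n, hn⟩ := IsPGroup.iff_card.1 hU
  obtain ⟨m, hm⟩ := IsPGroup.iff_orderOf.1 hP ⟨c, hc⟩
  rw [Subgroup.orderOf_mk] at hm
  rw [hm, hn]
  exact ((Nat.coprime_primes (Fact.out : t.Prime) (Fact.out : s.Prime)).2 hne.symm).pow _ _

namespace Min

variable {u v w : G} {X : Subgroup G} {t : ℕ} [Fact t.Prime] {P : Subgroup G}

theorem wrong_axis (h : Min u v w X) (hP : ISyl u v X t P) {M : Subgroup G}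
    (hM : IsMaxI u v X M) (hu : ax X u ≤ M) (hQ : ¬ pCoreOf t M ≤ ax X u)
    (hZ : zc P ≤ ax X v) : False := by
  classical
  have hF := h.fpf
  obtain ⟨hMi, hMX, hmax⟩ := hM
  set Q := pCoreOf t M with hQdef
  have hQ1 : Q ≠ ⊥ := fun e => hQ (e.trans_le bot_le)
  have hQM : Q ≤ M := FitOf.pCoreOf_le t M
  have hQX : Q ≤ X := hQM.trans hMX.le
  have hQi : Inv u v Q := hF.toFour.inv_pCoreOf hMi t
  have hMQ : M ≤ Subgroup.normalizer (Q : Set G) := FitOf.le_normalizer_pCoreOf t M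
  have hP1 : P ≠ ⊥ := h.ne_bot_of_core hP hMi hMX.le hQ1
  have hQP : Q ≤ P := h.syl_le hP hQX (FitOf.isPGroup_pCoreOf t M) hQi
  have hQlt : Q < X := lt_of_le_of_lt hQM hMX
  -- the maximality of `M`
  have hNQ : X ⊓ Subgroup.normalizer (Q : Set G) = M :=
    hmax _ (hF.toFour.inv_inf hF.inv (hF.toFour.inv_normalizer hQi)) (le_inf hMX.le hMQ)
      (h.inf_normalizer_lt hQi hQlt hQ1)
  have hNP := (h.fusion hP hP1).2.1
  have hvN : ax X v ≤ X ⊓ Subgroup.normalizer (P : Set G) :=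
    h.swap.ax_le_norm (syl_swap hP) hP1 hZ
  have hzQ : ∀ z ∈ zc P, z ∈ Q → z = 1 := by
    intro z hz hzQ
    by_contra hz1
    have hle := h.swap.le_norm_of_core (syl_swap hP) hP1 hZ ⟨hMi.2, hMi.1⟩ hMX.le hz hzQ hz1
    exact h.two_axes hNP.1 hNP.2.1 ⟨hu.trans hle, hvN⟩
  set T := P ⊓ M with hT
  have hTi : Inv u v T := hF.toFour.inv_inf hP.2.2.1 hMi
  have hTX : T ≤ X := inf_le_left.trans hP.1
  have hTt : IsPGroup t T := hP.2.1.to_le inf_le_left
  have hQT : Q ≤ T := le_inf hQP hQM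
  have hCQ : ∀ y ∈ P, (∀ a ∈ Q, a * y = y * a) → y ∈ T := fun y hy hc => ⟨hy, hNQ ▸
    ⟨hP.1 hy, Subgroup.centralizer_le_normalizer _ (Subgroup.mem_centralizer_iff.2 hc)⟩⟩
  -- the elements of `U ⊓ C(v)` centralise `P`
  have hqP : ∀ s : ℕ, s.Prime → s ≠ t → ∀ q ∈ ax (pCoreOf s M) v, ∀ y ∈ P, q * y = y * q := by
    intro s hs hne q hq
    haveI := Fact.mk hs
    set U := pCoreOf s M with hU
    have hqU : q ∈ U := ax_le _ _ hq
    have hqN : q ∈ X ⊓ Subgroup.normalizer (P : Set G) :=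
      hvN (ax_mono ((FitOf.pCoreOf_le s M).trans hMX.le) v hq)
    have hqc : ∀ a ∈ T, a * q = q * a := by
      intro a ha
      have h1 : a * q * a⁻¹ * q⁻¹ ∈ U := mul_mem
        ((Subgroup.mem_normalizer_iff.1 (FitOf.le_normalizer_pCoreOf s M ha.2) q).1 hqU)
        (inv_mem hqU)
      have h2 : a * q * a⁻¹ * q⁻¹ ∈ P := by
        have := mul_mem ha.1 ((Subgroup.mem_normalizer_iff.1 hqN.2 a⁻¹).1 (inv_mem ha.1))
        simpa [mul_assoc] using this
      have h3 : a * q * a⁻¹ * q⁻¹ = 1 := (Subgroup.eq_bot_iff_forall _).1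
        (Subgroup.disjoint_of_coprime_natCard (IsPGroup.coprime_card_of_ne t s hne.symm _ _ hP.2.1
          (FitOf.isPGroup_pCoreOf s M))).eq_bot _ ⟨h2, h1⟩
      calc a * q = (a * q * a⁻¹ * q⁻¹) * (q * a) := by group
        _ = q * a := by rw [h3, one_mul]
    obtain ⟨n, hn⟩ := IsPGroup.iff_orderOf.1 (FitOf.isPGroup_pCoreOf s M) ⟨q, hqU⟩
    rw [Subgroup.orderOf_mk] at hn
    refine AxB.thompson (n := s ^ n) hP.2.1 hTt (inf_le_left.trans Subgroup.le_normalizer)
      (fun y hy => (Subgroup.mem_normalizer_iff.1 hqN.2 y).1 hy) hqc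
      (by rw [← hn, pow_orderOf_eq_one])
      (((Nat.coprime_primes (Fact.out : t.Prime) hs).2 hne.symm).pow_right _) fun y hy hyT => ?_
    exact (hqc y (hCQ y hy fun a ha => hyT a (hQT ha))).symm
  have hTF : Fpf u v w T := hF.mono' hTX hTi
  -- elements centralising every other core lie in `Q`
  have hmemQ : ∀ c ∈ T, (∀ s : ℕ, s.Prime → s ≠ t → ∀ x ∈ pCoreOf s M, c * x = x * c) → c ∈ Q := by
    intro c hc hall
    haveI := h.solv M hMi hMX
    refine (hF.mono' hMX.le hMi).mem_pCoreOf_of_centralises (P := Subgroup.zpowers c)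
      (Subgroup.zpowers_le.2 hc.2) (hTt.to_le (Subgroup.zpowers_le.2 hc)) (fun s hs hne => ?_)
      (Subgroup.mem_zpowers c)
    rw [Subgroup.zpowers_le, Subgroup.mem_centralizer_iff]
    exact fun y hy => (hall s hs hne y hy).symm
  have hTn : ∀ s : ℕ, ∀ c ∈ T, ∀ x ∈ pCoreOf s M, c * x * c⁻¹ ∈ pCoreOf s M := fun s c hc x hx =>
    (Subgroup.mem_normalizer_iff.1 (FitOf.le_normalizer_pCoreOf s M hc.2) x).1 hx
  have hTu : ax T u ≤ Q := by
    intro c hc
    refine hmemQ c (ax_le _ _ hc) fun s hs hne x hx => ?_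
    haveI := Fact.mk hs
    have hi := hF.toFour.inv_pCoreOf hMi s
    exact hF.centralises_of_axis ((FitOf.pCoreOf_le s M).trans hMX.le) hi.1 hi.2
      (ax_mono hTX u hc) (hTn s c (ax_le _ _ hc))
      (fun y hy => (hqP s hs hne y hy c (ax_le _ _ hc).1).symm)
      (coprime_orderOf_card hne hP.2.1 (FitOf.isPGroup_pCoreOf s M) (ax_le _ _ hc).1) x hx
  have hTw : ax T w ≤ Q := by
    intro c hc
    refine hmemQ c (ax_le _ _ hc) fun s hs hne x hx => ?_
    haveI := Fact.mk hs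
    have hi := hF.toFour.inv_pCoreOf hMi s
    have hi' := hF.toFour.inv_rot hi
    exact hF.rot.rot.swap'.centralises_of_axis ((FitOf.pCoreOf_le s M).trans hMX.le)
      hi'.2 hi.2 (ax_mono hTX w hc) (hTn s c (ax_le _ _ hc))
      (fun y hy => (hqP s hs hne y hy c (ax_le _ _ hc).1).symm)
      (coprime_orderOf_card hne hP.2.1 (FitOf.isPGroup_pCoreOf s M) (ax_le _ _ hc).1) x hx
  have hQF : Fpf u v w Q := hF.mono' hQX hQi
  -- `N_P(T) ≤ M`
  set N := P ⊓ Subgroup.normalizer (T : Set G) with hN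
  have hNi : Inv u v N := hF.toFour.inv_inf hP.2.2.1 (hF.toFour.inv_normalizer hTi)
  have hNF : Fpf u v w N := hF.mono' (inf_le_left.trans hP.1) hNi
  have hmemM : ∀ y ∈ N, (∀ x ∈ Q, y * x * y⁻¹ ∈ Q) → y ∈ M := by
    intro y hy hyQ
    rw [← hNQ]
    exact ⟨hP.1 hy.1, mem_normalizer_of_forall hyQ⟩
  have hNM : N ≤ M := by
    refine hNF.le_of_axes ?_ ?_ ?_
    · exact fun y hy => hu (ax_mono (inf_le_left.trans hP.1) u hy)
    · intro y hy
      have hyN : y ∈ N := ax_le _ _ hy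
      have hyv : v * y * v = y := ((mem_ax' hF.toFour.vv).1 hy).2
      refine hmemM y hyN fun x hx => ?_
      have hoff : ∀ c ∈ Q, v * c * v = c⁻¹ → y * c * y⁻¹ ∈ Q := by
        intro c hc hcv
        have hT' : y * c * y⁻¹ ∈ T := (Subgroup.mem_normalizer_iff.1 hyN.2 c).1 (hQT hc)
        have e : v * (y * c * y⁻¹) * v = (y * c * y⁻¹)⁻¹ := by
          rw [invol_conj_mul hF.toFour.vv, invol_conj_mul hF.toFour.vv,
            invol_conj_inv hF.toFour.vv, hyv, hcv]
          group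
        obtain ⟨a, ha, b, hb, e2⟩ := hTF.rot.rot.exists_aba hT' e
        rw [e2]
        exact mul_mem (mul_mem (hTw ha) (hTu hb)) (hTw ha)
      obtain ⟨c, hc, a, ha, b, hb, rfl⟩ := hQF.rot.rot.exists_caba hx
      have h1 : y * c * y⁻¹ = c := by
        rw [hF.swap.ax_comm (ax_mono (inf_le_left.trans hP.1) v hy) (ax_mono hQX v hc),
          mul_inv_cancel_right]
      have h2 := hoff a (ax_le _ _ ha) (hQF.rot.rot.inverts' ha)
      have h3 := hoff b (ax_le _ _ hb) (hQF.inverts hb)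
      have e : y * (c * (a * b * a)) * y⁻¹
          = (y * c * y⁻¹) * ((y * a * y⁻¹) * (y * b * y⁻¹) * (y * a * y⁻¹)) := by group
      rw [e, h1]
      exact mul_mem (ax_le _ _ hc) (mul_mem (mul_mem h2 h3) h2)
    · intro y hy
      have hyN : y ∈ N := ax_le _ _ hy
      refine hmemM y hyN fun x hx => ?_
      have hT' : y * x * y⁻¹ ∈ T := (Subgroup.mem_normalizer_iff.1 hyN.2 x).1 (hQT hx)
      obtain ⟨c, hc, a, ha, b, hb, e⟩ := hTF.rot.rot.exists_caba hT'
      have haba : a * b * a ∈ Q := mul_mem (mul_mem (hTw ha) (hTu hb)) (hTw ha)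
      rw [e]
      refine mul_mem (hmemQ c (ax_le _ _ hc) fun s hs hne z hz => ?_) haba
      haveI := Fact.mk hs
      have hUX : pCoreOf s M ≤ X := (FitOf.pCoreOf_le s M).trans hMX.le
      have hi := hF.toFour.inv_pCoreOf hMi s
      have hi' := hF.toFour.inv_rot hi
      refine hF.rot.centralises_of_axis hUX hi'.1 hi'.2 (ax_mono hTX v hc)
        (hTn s c (ax_le _ _ hc)) ?_
        (coprime_orderOf_card hne hP.2.1 (FitOf.isPGroup_pCoreOf s M) (ax_le _ _ hc).1) z hz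
      intro d hd
      -- `d` commutes with `y` and with `Q`
      have hyd : Commute y d :=
        hF.rot.rot.ax_comm (ax_mono (inf_le_left.trans hP.1) w hy) (ax_mono hUX w hd)
      have hQd : ∀ r ∈ Q, Commute r d := fun r hr => Subgroup.mem_centralizer_iff.1
        (FitOf.pCoreOf_le_centralizer hs (Fact.out : t.Prime) hne M (ax_le _ _ hd)) r hr
      have hc' : c = (y * x * y⁻¹) * (a * b * a)⁻¹ := by rw [e]; group
      rw [hc']
      exact (((hyd.mul_left (hQd x hx)).mul_left hyd.inv_left).mul_left (hQd _ haba).inv_left)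
  -- so `P ≤ M`
  have hPM : P ≤ M := by
    by_contra hne
    have hlt : T < P := lt_of_le_of_ne inf_le_left fun e => hne (inf_eq_left.1 e)
    exact (Fusion.lt_inf_normalizer hP.2.1.isNilpotent hlt).not_ge
      (le_inf inf_le_left hNM)
  obtain ⟨z, hz, hzQ', hz1⟩ := meets_zc hP.2.1 hQP (hPM.trans hMQ) hQ1
  exact hz1 (hzQ z hz hzQ')

/-- A core off the axis belongs to a prime whose Sylow subgroup has its centre on that axis. -/
theorem axis_spec (h : Min u v w X) (hP : ISyl u v X t P) {M : Subgroup G}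
    (hM : IsMaxI u v X M) (hu : ax X u ≤ M) (hQ : ¬ pCoreOf t M ≤ ax X u) :
    P ≠ ⊥ ∧ zc P ≤ ax X u ∧ ¬ IsMulCommutative P := by
  classical
  have hF := h.fpf
  set Q := pCoreOf t M with hQdef
  have hQ1 : Q ≠ ⊥ := fun e => hQ (e.trans_le bot_le)
  have hQX : Q ≤ X := (FitOf.pCoreOf_le t M).trans hM.2.1.le
  have hQi : Inv u v Q := hF.toFour.inv_pCoreOf hM.1 t
  have hP1 : P ≠ ⊥ := h.ne_bot_of_core hP hM.1 hM.2.1.le hQ1
  have hQP : Q ≤ P := h.syl_le hP hQX (FitOf.isPGroup_pCoreOf t M) hQi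
  have hZi : Inv u v (zc P) := h.zc_inv hP
  have hZX : zc P ≤ X := inf_le_left.trans hP.1
  have hZF : Fpf u v w (zc P) := hF.mono' hZX hZi
  have hbad : zz u v X t P = ⊥ → IsMulCommutative P → False := by
    intro hz hc
    have hPM : P ≤ M := by
      have hNQ : X ⊓ Subgroup.normalizer (Q : Set G) = M :=
        hM.2.2 _ (hF.toFour.inv_inf hF.inv (hF.toFour.inv_normalizer hQi))
          (le_inf hM.2.1.le (FitOf.le_normalizer_pCoreOf t M))
          (h.inf_normalizer_lt hQi (lt_of_le_of_lt (FitOf.pCoreOf_le t M) hM.2.1) hQ1)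
      intro x hx
      rw [← hNQ]
      exact ⟨hP.1 hx, Subgroup.centralizer_le_normalizer _ (Subgroup.mem_centralizer_iff.2
        fun y hy => setLike_mul_comm (s := P) (hQP hy) hx)⟩
    obtain ⟨h2, h3⟩ := h.core_off_axis hP hM.1 hM.2.1.le hu hPM
    rw [hz] at h2 h3
    exact hQ ((hF.mono' hQX hQi).le_of_axes (ax_mono hQX u) (h2.trans bot_le) (h3.trans bot_le))
  by_cases hZu : zc P ≤ ax X u
  · refine ⟨hP1, hZu, fun hc => hQ (hQP.trans (le_trans ?_ hZu))⟩
    exact fun x hx => ⟨hx, Subgroup.mem_centralizer_iff.2 fun y hy =>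
      setLike_mul_comm (s := P) hy hx⟩
  exfalso
  by_cases hZv : zc P ≤ ax X v
  · exact h.wrong_axis hP hM hu hQ hZv
  by_cases hZw : zc P ≤ ax X w
  · exact h.swap'.wrong_axis (t := t)
      ⟨hP.1, hP.2.1, hF.toFour.inv_swap' hP.2.2.1, hP.2.2.2⟩
      ⟨hF.toFour.inv_swap' hM.1, hM.2.1,
        fun Y hY => hM.2.2 Y (hF.toFour.inv_unswap' hY)⟩ hu hQ hZw
  -- two axes meet the centre
  have hex : ∀ x : G, ax (zc P) x ≠ ⊥ → ∃ a, a ∈ zc P ∧ a ∈ ax X x ∧ a ≠ 1 := by
    intro x hx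
    obtain ⟨⟨a, ha⟩, ha1⟩ := Subgroup.ne_bot_iff_exists_ne_one.1 hx
    exact ⟨a, ax_le _ _ ha, ax_mono hZX x ha, fun e => ha1 (Subtype.ext e)⟩
  by_cases hu0 : ax (zc P) u = ⊥
  · have hv0 : ax (zc P) v ≠ ⊥ := fun e => hZw (hZF.le_of_axes (hu0.trans_le bot_le)
      (e.trans_le bot_le) (ax_mono hZX w))
    have hw0 : ax (zc P) w ≠ ⊥ := fun e => hZv (hZF.le_of_axes (hu0.trans_le bot_le)
      (ax_mono hZX v) (e.trans_le bot_le))
    obtain ⟨a, ha, hau, ha1⟩ := hex v hv0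
    obtain ⟨b, hb, hbv, hb1⟩ := hex w hw0
    obtain ⟨hz, hc⟩ := h.rot.zz_eq_bot (syl_rot hF.toFour hP) ha hau ha1 hb hbv hb1
    rw [zz_rot hF.toFour] at hz
    exact hbad hz hc
  · obtain ⟨a, ha, hau, ha1⟩ := hex u hu0
    by_cases hv0 : ax (zc P) v = ⊥
    · have hw0 : ax (zc P) w ≠ ⊥ := fun e => hZu (hZF.le_of_axes (ax_mono hZX u)
        (hv0.trans_le bot_le) (e.trans_le bot_le))
      obtain ⟨b, hb, hbw, hb1⟩ := hex w hw0
      obtain ⟨hz, hc⟩ := h.rot.rot.zz_eq_bot (syl_rot hF.toFour.rot (syl_rot hF.toFour hP))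
        hb hbw hb1 ha hau ha1
      rw [zz_rot hF.toFour.rot, zz_rot hF.toFour] at hz
      exact hbad hz hc
    · obtain ⟨b, hb, hbv, hb1⟩ := hex v hv0
      obtain ⟨hz, hc⟩ := h.zz_eq_bot hP ha hau ha1 hb hbv hb1
      exact hbad hz hc

omit [Fact t.Prime] in
/-- Each axis has a prime. -/
theorem exists_prime (h : Min u v w X) : ∃ (t : ℕ) (_ : Fact t.Prime) (P : Subgroup G),
    ISyl u v X t P ∧ P ≠ ⊥ ∧ zc P ≤ ax X u ∧ ¬ IsMulCommutative P := by
  classical
  have hF := h.fpf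
  have huu := hF.toFour.uu
  set O := ax X u with hO
  have hOX : O ≤ X := ax_le _ _
  have hOi : Inv u v O := by
    constructor
    · intro x hx
      rw [((mem_ax' huu).1 hx).2]; exact hx
    · intro x hx
      rw [hF.inverts hx]; exact inv_mem hx
  have hOlt : O < X := lt_of_le_of_ne hOX fun e => h.not_comm (e ▸ hF.ax_isMulCommutative)
  obtain ⟨M, hOM, hM⟩ := h.exists_max hOi hOlt
  by_contra hnone
  push Not at hnone
  have hcore : ∀ t : ℕ, t.Prime → pCoreOf t M ≤ O := by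
    intro t ht
    by_contra hQ
    haveI := Fact.mk ht
    obtain ⟨P, hP⟩ := h.exists_isyl t
    obtain ⟨h1, h2, h3⟩ := h.axis_spec hP hM hOM hQ
    exact h3 (hnone t ⟨ht⟩ P hP h1 h2)
  -- then `M` is the axis
  have hMO : M ≤ O := by
    haveI := h.solv M hM.1 hM.2.1
    have hMF : Fpf u v w M := hF.mono' hM.2.1.le hM.1
    have hFO : fittingOf M ≤ O := FitOf.fittingOf_le_iff.2 hcore
    have hone : ∀ y ∈ M, u * y * u = y⁻¹ → y = 1 := by
      intro y hy hyu
      have hcy : y ∈ Subgroup.centralizer (fittingOf M : Set G) := by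
        rw [Subgroup.mem_centralizer_iff]
        intro f hf
        have hf' : y * f * y⁻¹ ∈ O := hFO
          ((Subgroup.mem_normalizer_iff.1 (FitOf.le_normalizer_fittingOf M hy) f).1 hf)
        have e := ((mem_ax' huu).1 hf').2
        rw [invol_conj_mul huu, invol_conj_mul huu, invol_conj_inv huu, hyu,
          ((mem_ax' huu).1 (hFO hf)).2, inv_inv] at e
        have h2 : Commute (y * y) f := by
          show y * y * f = f * (y * y)
          calc y * y * f = y * (y * f * y⁻¹) * y := by group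
            _ = y * (y⁻¹ * f * y) * y := by rw [e]
            _ = _ := by group
        have := h2.pow_left ((Nat.card X + 1) / 2)
        rw [show (y * y) ^ ((Nat.card X + 1) / 2) = y from sq_injective hF.odd
          (pow_mem (mul_mem (hM.2.1.le hy) (hM.2.1.le hy)) _) (hM.2.1.le hy)
          (rt_sq hF.odd (mul_mem (hM.2.1.le hy) (hM.2.1.le hy)))] at this
        exact this.eq.symm
      have hyF : y ∈ fittingOf M := by
        have h' := FittingCores.centralizer_fitting_le (G := M)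
        have : (⟨y, hy⟩ : M) ∈ Cfsg.fittingSubgroup M := h' (by
          rw [Subgroup.mem_centralizer_iff]
          intro f hf
          exact Subtype.ext (Subgroup.mem_centralizer_iff.1 hcy f ⟨f, hf, rfl⟩))
        exact ⟨_, this, rfl⟩
      have := ((mem_ax' huu).1 (hFO hyF)).2
      rw [hyu] at this
      exact eq_one_of_sq hF.odd (hM.2.1.le hy) (inv_eq_iff_mul_eq_one.1 this)
    intro y hy
    obtain ⟨c, hc, i, hi, hiu, rfl⟩ := hMF.rot.exists_fixed_mul_inverted hy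
    rw [hone i hi hiu, mul_one]
    exact ax_mono hM.2.1.le u hc
  have hMeq : M = O := le_antisymm hMO hOM
  have hO1 : O ≠ ⊥ := h.ax_ne_bot
  obtain ⟨t, ht, htd⟩ := Nat.exists_prime_and_dvd
    (fun e => hO1 (Subgroup.card_eq_one.1 e) : Nat.card O ≠ 1)
  haveI := Fact.mk ht
  obtain ⟨o, ho⟩ := exists_prime_orderOf_dvd_card' (G := O) t htd
  have hoO : (o : G) ∈ O := o.2
  have ho1 : (o : G) ≠ 1 := fun e => by
    rw [show o = 1 from Subtype.ext e, orderOf_one] at ho
    exact ht.one_lt.ne ho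
  have hcent : ∀ x ∈ O, x ≠ 1 → X ⊓ Subgroup.centralizer ({x} : Set G) = O := by
    intro x hx hx1
    rw [← hMeq]
    refine hM.2.2 _ (hF.inv_centralizer_axis hx) (hMeq ▸ ?_) (h.centralizer_lt (hOX hx) hx1)
    exact fun y hy => ⟨hOX hy, Subgroup.mem_centralizer_singleton_iff.2 (hF.ax_comm hy hx)⟩
  obtain ⟨P, hP⟩ := h.exists_isyl t
  have hoP : (o : G) ∈ P := by
    have hZi : Inv u v (Subgroup.zpowers (o : G)) := by
      constructor <;>
      · intro x hx
        obtain ⟨k, rfl⟩ := Subgroup.mem_zpowers_iff.1 hx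
        refine Subgroup.mem_zpowers_iff.2 ?_
        first
          | exact ⟨k, by
              rw [show u * (o : G) ^ k * u = (u * o * u⁻¹) ^ k by
                rw [conj_zpow, hF.toFour.u_inv], hF.toFour.u_inv, ((mem_ax' huu).1 hoO).2]⟩
          | exact ⟨-k, by
              rw [show v * (o : G) ^ k * v = (v * o * v⁻¹) ^ k by
                rw [conj_zpow, hF.toFour.v_inv], hF.toFour.v_inv, hF.inverts hoO, inv_zpow,
                zpow_neg]⟩
    exact h.syl_le hP (Subgroup.zpowers_le.2 (hOX hoO))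
      (IsPGroup.of_card (n := 1) (by rw [Nat.card_zpowers, Subgroup.orderOf_coe, ho, pow_one])) hZi
      (Subgroup.mem_zpowers _)
  have hP1 : P ≠ ⊥ := fun e => ho1 (Subgroup.mem_bot.1 (e ▸ hoP))
  obtain ⟨z, hz, -, hz1⟩ := meets_zc hP.2.1 le_rfl Subgroup.le_normalizer hP1
  have hzO : z ∈ O := by
    rw [← hcent o hoO ho1]
    exact ⟨hP.1 hz.1, Subgroup.mem_centralizer_singleton_iff.2
      (Subgroup.mem_centralizer_iff.1 hz.2 o hoP).symm⟩
  have hPO : P ≤ O := by
    rw [← hcent z hzO hz1]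
    exact fun x hx => ⟨hP.1 hx, Subgroup.mem_centralizer_singleton_iff.2
      (Subgroup.mem_centralizer_iff.1 hz.2 x hx)⟩
  have hNO : X ⊓ Subgroup.normalizer (P : Set G) = O := by
    obtain ⟨-, hNP, -⟩ := h.fusion hP hP1
    have hle : O ≤ Subgroup.normalizer (P : Set G) := fun y hy => by
      refine Subgroup.centralizer_le_normalizer _ (Subgroup.mem_centralizer_iff.2 fun p hp => ?_)
      exact hF.ax_comm (hPO hp) hy
    exact (hM.2.2 _ hNP.1 (hMeq ▸ le_inf hOX hle) hNP.2.1).trans hMeq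
  obtain ⟨hder, -, -⟩ := h.fusion hP hP1
  rw [hNO] at hder
  refine hP1 (le_bot_iff.1 (hder.trans ?_))
  rw [le_bot_iff, Subgroup.commutator_eq_bot_iff_le_centralizer]
  exact fun x hx => Subgroup.mem_centralizer_iff.2 fun y hy => hF.ax_comm hy hx

theorem zc_unique (h : Min u v w X) (hP1 : P ≠ ⊥) (hP : ISyl u v X t P) (h1 : zc P ≤ ax X u)
    (h2 : zc P ≤ ax X v) : False :=
  zc_ne_bot hP hP1 ((Subgroup.eq_bot_iff_forall _).2 fun z hz => h.fpf.ax_inter (h1 hz) (h2 hz))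

theorem false (h : Min u v w X) : False := by
  classical
  have hF := h.fpf
  obtain ⟨t, ht, P, hP, hP1, hZ, hPnc⟩ := h.exists_prime
  obtain ⟨s, hsf, S, hS, hS1, hSZ, hSnc⟩ := h.swap.exists_prime
  have hts : s ≠ t := by
    rintro rfl
    have e : S = P := hF.sylow_unique hS.1 hP.1 ⟨hS.2.2.1.2, hS.2.2.1.1⟩ hP.2.2.1
      hS.2.2.2 hP.2.2.2
    rw [e] at hSZ
    exact h.zc_unique hP1 hP hZ hSZ
  -- the elements of `P` on the axis of `v` centralise every Sylow subgroup of that axis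
  have lemmaC : ∀ r : ℕ, ∀ _ : Fact r.Prime, ∀ R : Subgroup G, r ≠ t → ISyl u v X r R → R ≠ ⊥ →
      zc R ≤ ax X v → ∀ c ∈ ax P v, ∀ x ∈ R, c * x = x * c := by
    intro r hr R hrt hR hR1 hRZ c hc
    haveI := hr
    have hcN : c ∈ X ⊓ Subgroup.normalizer (R : Set G) :=
      h.swap.ax_le_norm (syl_swap hR) hR1 hRZ (ax_mono hP.1 v hc)
    have hRu : ∀ d ∈ ax R u, d ∈ X ⊓ Subgroup.normalizer (P : Set G) := fun d hd =>
      h.ax_le_norm hP hP1 hZ (ax_mono hR.1 u hd)
    have hcd : ∀ d ∈ ax R u, c * d = d * c := by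
      intro d hd
      have h1 : c * d * c⁻¹ * d⁻¹ ∈ R := mul_mem
        ((Subgroup.mem_normalizer_iff.1 hcN.2 d).1 (ax_le _ _ hd)) (inv_mem (ax_le _ _ hd))
      have h2 : c * d * c⁻¹ * d⁻¹ ∈ P := by
        have := mul_mem (ax_le _ _ hc)
          ((Subgroup.mem_normalizer_iff.1 (hRu d hd).2 c⁻¹).1 (inv_mem (ax_le _ _ hc)))
        simpa [mul_assoc] using this
      have h3 : c * d * c⁻¹ * d⁻¹ = 1 := (Subgroup.eq_bot_iff_forall _).1
        (Subgroup.disjoint_of_coprime_natCard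
          (IsPGroup.coprime_card_of_ne t r hrt.symm _ _ hP.2.1 hR.2.1)).eq_bot _ ⟨h2, h1⟩
      calc c * d = (c * d * c⁻¹ * d⁻¹) * (d * c) := by group
        _ = d * c := by rw [h3, one_mul]
    exact hF.swap.centralises_of_axis hR.1 hR.2.2.1.2 hR.2.2.1.1 (ax_mono hP.1 v hc)
      (fun x hx => (Subgroup.mem_normalizer_iff.1 hcN.2 x).1 hx) hcd
      (coprime_orderOf_card hrt hP.2.1 hR.2.1 (ax_le _ _ hc))
  -- the maximal subgroup of the second axis
  have hS' : ISyl u v X s S := syl_swap hS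
  set M := X ⊓ Subgroup.normalizer (S : Set G) with hMdef
  have hM : IsMaxI u v X M := (h.fusion hS' hS1).2.1
  have hvM : ax X v ≤ M := h.swap.ax_le_norm hS hS1 hSZ
  have hM' : IsMaxI v u X M :=
    ⟨⟨hM.1.2, hM.1.1⟩, hM.2.1, fun Y hY => hM.2.2 Y ⟨hY.2, hY.1⟩⟩
  have hRM : ax P v ≤ M := (ax_mono hP.1 v).trans hvM
  set Q := pCoreOf t M with hQdef
  haveI := h.solv M hM.1 hM.2.1
  have hMF : Fpf u v w M := hF.mono' hM.2.1.le hM.1
  have hRQ : ax P v ≤ Q := by
    refine hMF.mem_pCoreOf_of_centralises hRM (hP.2.1.to_le (ax_le _ _)) fun r hr hrt c hc => ?_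
    haveI := Fact.mk hr
    rw [Subgroup.mem_centralizer_iff]
    intro y hy
    by_cases hsmall : pCoreOf r M ≤ ax X v
    · exact (hF.swap.ax_comm (ax_mono hP.1 v hc) (hsmall hy)).symm
    · obtain ⟨R, hR⟩ := h.exists_isyl r
      obtain ⟨hR1, hRZ, -⟩ := h.swap.axis_spec (syl_swap hR) hM' hvM hsmall
      exact (lemmaC r ⟨hr⟩ R hrt hR hR1 hRZ c hc y
        (h.syl_le hR ((FitOf.pCoreOf_le r M).trans hM.2.1.le) (FitOf.isPGroup_pCoreOf r M)
          (hF.toFour.inv_pCoreOf hM.1 r) hy)).symm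
  have hR1 : ax P v ≠ ⊥ := by
    intro e
    have hPF : Fpf u v w P := hF.mono' hP.1 hP.2.2.1
    have key : ∀ x ∈ P, v * x * v = x⁻¹ := by
      intro x hx
      obtain ⟨c, hc, i, hi, hiv, rfl⟩ := hPF.rot.rot.exists_fixed_mul_inverted hx
      rw [e, Subgroup.mem_bot] at hc
      rw [hc, one_mul, hiv]
    refine hPnc (.of_setLike_mul_comm fun a ha b hb => ?_)
    have e2 := key _ (mul_mem ha hb)
    rw [invol_conj_mul hF.toFour.vv, key a ha, key b hb, mul_inv_rev] at e2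
    simpa using (congrArg (·⁻¹) e2).symm
  have hQ1 : Q ≠ ⊥ := fun e => hR1 (le_bot_iff.1 (e ▸ hRQ))
  have hQX : Q ≤ X := (FitOf.pCoreOf_le t M).trans hM.2.1.le
  have hQi : Inv u v Q := hF.toFour.inv_pCoreOf hM.1 t
  have hQP : Q ≤ P := h.syl_le hP hQX (FitOf.isPGroup_pCoreOf t M) hQi
  have hQv : Q ≤ ax X v := by
    by_contra hne
    obtain ⟨-, hZ', -⟩ := h.swap.axis_spec (syl_swap hP) hM' hvM hne
    exact h.zc_unique hP1 hP hZ hZ'
  have hNQ : X ⊓ Subgroup.normalizer (Q : Set G) = M :=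
    hM.2.2 _ (hF.toFour.inv_inf hF.inv (hF.toFour.inv_normalizer hQi))
      (le_inf hM.2.1.le (FitOf.le_normalizer_pCoreOf t M))
      (h.inf_normalizer_lt hQi (lt_of_le_of_lt (FitOf.pCoreOf_le t M) hM.2.1) hQ1)
  have hCQ : ∀ y ∈ P, (∀ a ∈ Q, a * y = y * a) → y ∈ M := fun y hy hc => hNQ ▸
    ⟨hP.1 hy, Subgroup.centralizer_le_normalizer _ (Subgroup.mem_centralizer_iff.2 hc)⟩
  obtain ⟨z, hz, -, hz1⟩ := meets_zc hP.2.1 le_rfl Subgroup.le_normalizer hP1
  obtain ⟨ζ, hζ, -, hζ1⟩ := meets_zc hS.2.1 le_rfl Subgroup.le_normalizer hS1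
  have hMζ : X ⊓ Subgroup.centralizer ({ζ} : Set G) = M :=
    h.swap.centralizer_eq hS hS1 hSZ hζ hζ1
  have hzM : z ∈ M := hCQ z hz.1 fun a ha => Subgroup.mem_centralizer_iff.1 hz.2 a (hQP ha)
  have hζz : ζ ∈ X ⊓ Subgroup.normalizer (P : Set G) := by
    rw [← h.centralizer_eq hP hP1 hZ hz hz1]
    rw [← hMζ] at hzM
    exact ⟨hS.1 hζ.1, Subgroup.mem_centralizer_singleton_iff.2
      (Subgroup.mem_centralizer_singleton_iff.1 hzM.2).symm⟩
  have hcomm : ∀ a ∈ M, a * ζ = ζ * a := fun a ha => by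
    rw [← hMζ] at ha
    exact Subgroup.mem_centralizer_singleton_iff.1 ha.2
  obtain ⟨n, hn⟩ := IsPGroup.iff_orderOf.1 hS.2.1 ⟨ζ, hζ.1⟩
  rw [Subgroup.orderOf_mk] at hn
  have hζP : ∀ y ∈ P, ζ * y = y * ζ := by
    refine AxB.thompson (n := s ^ n) hP.2.1 (hP.2.1.to_le (inf_le_left : P ⊓ M ≤ P))
      (inf_le_left.trans Subgroup.le_normalizer)
      (fun y hy => (Subgroup.mem_normalizer_iff.1 hζz.2 y).1 hy)
      (fun a ha => hcomm a ha.2) (by rw [← hn, pow_orderOf_eq_one])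
      (((Nat.coprime_primes ht.out hsf.out).2 hts.symm).pow_right _) fun y hy hyT => ?_
    exact (hcomm y (hCQ y hy fun a ha => hyT a ⟨hQP ha, FitOf.pCoreOf_le t M ha⟩)).symm
  have hPM : P ≤ M := fun y hy => hMζ ▸
    ⟨hP.1 hy, Subgroup.mem_centralizer_singleton_iff.2 (hζP y hy).symm⟩
  have hPP : IsPGroup t ↥⁅P, P⁆ := hP.2.1.to_le (commutator_self_le P)
  have hder : ⁅P, P⁆ ≤ Q := by
    refine hMF.mem_pCoreOf_of_centralises ((commutator_self_le P).trans hPM) hPP
      fun r hr hrt => ?_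
    haveI := Fact.mk hr
    haveI := FitOf.fittingOf_nilpotent M
    exact SolvMinNN.le_centralizer_of_nilpotent (W := fittingOf M) (A := ⁅P, P⁆)
      (B := pCoreOf r M) ((Subgroup.commutator_mono hPM hPM).trans hMF.derived_le_fitting)
      (FitOf.pCoreOf_le_fittingOf hr M) ht.out hr hrt.symm hPP (FitOf.isPGroup_pCoreOf r M)
  have hne : ⁅P, P⁆ ≠ ⊥ := by
    intro e
    rw [Subgroup.commutator_eq_bot_iff_le_centralizer] at e
    exact hPnc (.of_setLike_mul_comm fun a ha b hb =>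
      (Subgroup.mem_centralizer_iff.1 (e ha) b hb).symm)
  have hnorm : P ≤ Subgroup.normalizer ((⁅P, P⁆ : Subgroup G) : Set G) := fun x hx => by
    rw [Subgroup.mem_normalizer_iff_map_conj_eq, Subgroup.map_commutator,
      Subgroup.mem_normalizer_iff_map_conj_eq.1 (Subgroup.le_normalizer hx)]
  obtain ⟨d, hd, hdP, hd1⟩ := meets_zc hP.2.1 (commutator_self_le P) hnorm hne
  exact hd1 (hF.ax_inter (hZ hd) (hQv (hder hdP)))

end Min

end

/-- A group of odd order with a four-group acting without fixed points is solvable. -/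
theorem Fpf.isSolvable {G : Type u₀} [Group G] [Finite G] {u v w : G} {X : Subgroup G}
    (h : Fpf u v w X) : Group.IsSolvable X := by
  suffices H : ∀ n : ℕ, ∀ {G : Type u₀} [Group G] [Finite G] {u v w : G} {X : Subgroup G},
      Nat.card X = n → Fpf u v w X → Group.IsSolvable X from H _ rfl h
  intro n
  induction n using Nat.strong_induction_on with
  | _ n IH =>
    intro G _ _ u v w X hn h
    by_contra hns
    have hsolv : ∀ Y : Subgroup G, Inv u v Y → Y < X → Group.IsSolvable Y := fun Y hY hlt =>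
      IH _ (hn ▸ Set.ncard_lt_ncard (SetLike.coe_ssubset_coe.2 hlt)) rfl (h.mono' hlt.le hY)
    refine Min.false (u := u) (v := v) (w := w) (X := X) ⟨h, hsolv, ?_, hns⟩
    intro N hNi hNX hXN
    by_contra hN1
    haveI := hsolv N hNi hNX
    set M := Subgroup.normalizer (N : Set G) with hMdef
    haveI : (N.subgroupOf M).Normal := Subgroup.normal_subgroupOf_of_le_normalizer le_rfl
    have hu : u ∈ M := mem_normalizer_invol h.toFour.uu hNi.1
    have hv : v ∈ M := mem_normalizer_invol h.toFour.vv hNi.2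
    have hw : w ∈ M := h.toFour.uv ▸ mul_mem hu hv
    set f := QuotientGroup.mk' (N.subgroupOf M) with hf
    have hF := (h.subgroupOf hu hv hw hXN).map f
    let g : X →* ↥((X.subgroupOf M).map f) :=
      ((f.comp (Subgroup.inclusion hXN)).codRestrict _ fun x => ⟨_, x.2, rfl⟩)
    have hlt : Nat.card ((X.subgroupOf M).map f) < n := by
      have hsurj : Function.Surjective g := by
        rintro ⟨_, x, hx, rfl⟩
        exact ⟨⟨x, hx⟩, rfl⟩
      rw [← hn]
      refine lt_of_le_of_ne (Nat.card_le_card_of_surjective g hsurj) fun e => hN1 ?_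
      have hinj := (hsurj.bijective_of_nat_card_le e.ge).1
      refine (Subgroup.eq_bot_iff_forall _).2 fun x hx => ?_
      have h1 : g ⟨x, hNX.le hx⟩ = 1 := Subtype.ext ((QuotientGroup.eq_one_iff _).2 hx)
      exact congrArg Subtype.val (hinj (h1.trans g.map_one.symm))
    haveI := IH _ hlt rfl hF
    refine hns ?_
    refine Group.isSolvable_of_ker_le_range (Subgroup.inclusion hNX.le) g ?_
    intro x hx
    have hx' := congrArg Subtype.val hx
    have : (x : G) ∈ N := by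
      have h3 : f (Subgroup.inclusion hXN x) = 1 := hx'
      rw [hf, QuotientGroup.mk'_apply, QuotientGroup.eq_one_iff] at h3
      exact h3
    exact ⟨⟨x, this⟩, rfl⟩

end Cfsg.Agent.DGroup
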