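import Cfsg.Agent.Lib.DGroup.RankOneBasic
import Cfsg.Agent.Lib.DGroup.FourSolvable
import Cfsg.Agent.Lib.BrauerSuzuki.ZStar

/-!
# The invariant `t`-subgroups of a four-group
-/

set_option autoImplicit false
set_option linter.unusedSectionVars false
set_option linter.style.haveILetI false

namespace Cfsg.Agent.DGroup

variable {G : Type*} [Group G]

/-- The group generated by the `t`-elements centralising `u`. -/
def tPart (t : ℕ) (u : G) : Subgroup G :=
  Subgroup.closure {x | x * u = u * x ∧ ∃ k, orderOf x = t ^ k}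

theorem mem_tPart {t : ℕ} {u x : G} (hc : x * u = u * x) (hx : ∃ k, orderOf x = t ^ k) :
    x ∈ tPart t u := Subgroup.subset_closure ⟨hc, hx⟩

theorem tPart_comm {t : ℕ} {u x : G} (hx : x ∈ tPart t u) : x * u = u * x := by
  induction hx using Subgroup.closure_induction with
  | mem z hz => exact hz.1
  | one => rw [one_mul, mul_one]
  | mul p q _ _ hp hq => exact (show Commute p u from hp).mul_left hq
  | inv p _ hp => exact (show Commute p u from hp).inv_left

theorem tPart_conj (t : ℕ) (u g : G) :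
    (tPart t u).map (MulAut.conj g).toMonoidHom = tPart t (g * u * g⁻¹) := by
  rw [tPart, tPart, MonoidHom.map_closure]
  congr 1
  ext x
  constructor
  · rintro ⟨y, ⟨hc, hy⟩, rfl⟩
    exact ⟨conj_comm hc, hy.imp fun k hk => ((MulAut.conj g).orderOf_eq y).trans hk⟩
  · rintro ⟨hc, hx⟩
    refine ⟨g⁻¹ * x * g, ⟨?_, ?_⟩, by simp [mul_assoc]⟩
    · have := conj_comm (g := g⁻¹) hc
      rwa [show g⁻¹ * (g * u * g⁻¹) * g⁻¹⁻¹ = u by group, inv_inv] at this
    · obtain ⟨k, hk⟩ := hx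
      refine ⟨k, ?_⟩
      rw [← hk, ← (MulAut.conj g⁻¹).orderOf_eq x]
      simp [mul_assoc]

theorem isPGroup_orderOf {t : ℕ} [Fact t.Prime] {Y : Subgroup G} (hY : IsPGroup t Y) {x : G}
    (hx : x ∈ Y) : ∃ k, orderOf x = t ^ k := by
  obtain ⟨k, hk⟩ := IsPGroup.iff_orderOf.1 hY ⟨x, hx⟩
  exact ⟨k, by rwa [Subgroup.orderOf_mk] at hk⟩

theorem odd_pgroup [Finite G] {t : ℕ} [Fact t.Prime] (ht : t ≠ 2) {Y : Subgroup G}
    (hY : IsPGroup t Y) : Odd (Nat.card Y) := by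
  obtain ⟨k, hk⟩ := IsPGroup.iff_card.1 hY
  rw [hk]
  exact ((Fact.out : t.Prime).odd_of_ne_two ht).pow

theorem odd_orderOf {t k : ℕ} [Fact t.Prime] (ht : t ≠ 2) {x : G} (hx : orderOf x = t ^ k) :
    Odd (orderOf x) := hx ▸ ((Fact.out : t.Prime).odd_of_ne_two ht).pow

/-- An abelian 2-subgroup with at most one involution is cyclic. -/
theorem cyclic_of_unique [Finite G] {P : Subgroup G} (hP : IsPGroup 2 P) {u : G}
    (hc : ∀ x ∈ P, ∀ y ∈ P, x * y = y * x) (huq : ∀ x ∈ P, x * x = 1 → x = 1 ∨ x = u) :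
    ∃ a ∈ P, P = Subgroup.zpowers a := by
  classical
  haveI := Fact.mk Nat.prime_two
  haveI := Fintype.ofFinite P
  obtain ⟨a, -, hmax⟩ := Finset.exists_max_image (Finset.univ : Finset P) (fun x => orderOf (x : G))
    Finset.univ_nonempty
  refine ⟨a, a.2, le_antisymm ?_ (Subgroup.zpowers_le.2 a.2)⟩
  suffices key : ∀ k, ∀ x ∈ P, orderOf x = 2 ^ k → x ∈ Subgroup.zpowers (a : G) by
    intro x hx
    obtain ⟨k, hk⟩ := isPGroup_orderOf hP hx
    exact key k x hx hk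
  intro k
  induction k with
  | zero =>
    intro x _ hx
    rw [pow_zero, orderOf_eq_one_iff] at hx
    rw [hx]; exact one_mem _
  | succ k ih =>
    intro x hx hxo
    have hxx : x * x ∈ Subgroup.zpowers (a : G) := by
      refine ih _ (mul_mem hx hx) ?_
      rw [← pow_two, orderOf_pow, hxo, Nat.gcd_eq_right (dvd_pow_self 2 k.succ_ne_zero), pow_succ,
        Nat.mul_div_cancel _ two_pos]
    obtain ⟨i, hi⟩ := hxx
    simp only at hi
    obtain ⟨n, hn⟩ := isPGroup_orderOf hP a.2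
    have hle := hmax ⟨x, hx⟩ (Finset.mem_univ _)
    simp only at hle
    rw [hn, hxo] at hle
    have hn1 : 1 ≤ n := by
      by_contra h0
      have : n = 0 := by omega
      rw [this, pow_zero] at hle
      have := Nat.one_lt_two_pow k.succ_ne_zero
      omega
    rcases Int.even_or_odd i with ⟨l, hl⟩ | ⟨l, hl⟩
    · -- a square in `⟨a⟩`
      have hq : x * (a : G) ^ (-l) * (x * (a : G) ^ (-l)) = 1 := by
        have : Commute x ((a : G) ^ (-l)) := (show Commute x (a : G) from hc x hx a a.2).zpow_right _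
        rw [this.symm.mul_mul_mul_comm, ← zpow_add, ← hi, ← zpow_add, hl]
        simp
      have hinv : (a : G) ^ (2 ^ (n - 1)) * (a : G) ^ (2 ^ (n - 1)) = 1 := by
        rw [← pow_add, show 2 ^ (n - 1) + 2 ^ (n - 1) = 2 ^ n by
          conv_rhs => rw [show n = n - 1 + 1 by omega, pow_succ]
          ring, ← hn, pow_orderOf_eq_one]
      have hne : (a : G) ^ (2 ^ (n - 1)) ≠ 1 := fun e => by
        have := Nat.le_of_dvd (by positivity) (orderOf_dvd_of_pow_eq_one e)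
        rw [hn] at this
        have := Nat.pow_le_pow_iff_right (a := 2) (by norm_num) |>.1 this
        omega
      have hu : u ∈ Subgroup.zpowers (a : G) :=
        ((huq _ (pow_mem a.2 _) hinv).resolve_left hne) ▸ Subgroup.npow_mem_zpowers _ _
      have hmem : x * (a : G) ^ (-l) ∈ Subgroup.zpowers (a : G) := by
        rcases huq _ (mul_mem hx (zpow_mem a.2 _)) hq with e | e <;> rw [e]
        · exact one_mem _
        · exact hu
      have := mul_mem hmem (Subgroup.zpow_mem_zpowers (a : G) l)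
      rwa [mul_assoc, ← zpow_add, neg_add_cancel, zpow_zero, mul_one] at this
    · exfalso
      have h1 : orderOf ((a : G) ^ i) = 2 ^ n := by
        rw [← hn]
        refine Nat.dvd_antisymm ?_ ?_
        · exact orderOf_dvd_of_mem_zpowers (Subgroup.zpow_mem_zpowers _ _)
        · have hcop : IsCoprime i ((2 ^ n : ℕ) : ℤ) := by
            push_cast
            refine IsCoprime.pow_right ?_
            exact ⟨1, -l, by rw [hl]; ring⟩
          obtain ⟨p, q, hpq⟩ := hcop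
          refine orderOf_dvd_of_mem_zpowers ⟨p, ?_⟩
          show ((a : G) ^ i) ^ p = a
          have e : (a : G) ^ ((2 ^ n : ℕ) : ℤ) = 1 := by rw [zpow_natCast, ← hn, pow_orderOf_eq_one]
          rw [← zpow_mul, show i * p = 1 + ((2 ^ n : ℕ) : ℤ) * (-q) by linear_combination hpq,
            zpow_add, zpow_one, zpow_mul, e, one_zpow, mul_one]
      rw [hi, ← pow_two, orderOf_pow, hxo,
        Nat.gcd_eq_right (dvd_pow_self 2 k.succ_ne_zero), pow_succ, Nat.mul_div_cancel _ two_pos] at h1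
      have := Nat.pow_right_injective le_rfl h1
      subst this
      have := Nat.pow_le_pow_iff_right (a := 2) (by norm_num) |>.1 hle
      omega

/-- A maximal invariant `t`-subgroup. -/
def MaxT (t : ℕ) (j v : G) (P : Subgroup G) : Prop :=
  IsPGroup t P ∧ Inv j v P ∧ ∀ Y : Subgroup G, IsPGroup t Y → Inv j v Y → P ≤ Y → Y = P

/-- The largest invariant `t`-subgroup. -/
def Closed (t : ℕ) (j v : G) (P : Subgroup G) : Prop :=
  IsPGroup t P ∧ Inv j v P ∧ ∀ Y : Subgroup G, IsPGroup t Y → Inv j v Y → Y ≤ P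

theorem exists_maxT [Finite G] {t : ℕ} {j v : G} {Y : Subgroup G} (hY : IsPGroup t Y)
    (hi : Inv j v Y) : ∃ P, Y ≤ P ∧ MaxT t j v P := by
  obtain ⟨P, hYP, ⟨hp, hpi⟩, hmax⟩ := Finite.exists_le_maximal
    (p := fun S : Subgroup G => IsPGroup t S ∧ Inv j v S) ⟨hY, hi⟩
  exact ⟨P, hYP, hp, hpi, fun Z hZ hZi hPZ => le_antisymm (hmax ⟨hZ, hZi⟩ hPZ) hPZ⟩

theorem inv_conj {j v : G} (hF : Four j v (j * v)) {Y : Subgroup G} (hi : Inv j v Y) {n : G}
    (h1 : n⁻¹ * j * n ∈ hF.group) (h2 : n⁻¹ * v * n ∈ hF.group) :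
    Inv j v (Y.map (MulAut.conj n).toMonoidHom) := by
  have key : ∀ u, u * u = 1 → n⁻¹ * u * n ∈ hF.group →
      ∀ x ∈ Y.map (MulAut.conj n).toMonoidHom, u * x * u ∈ Y.map (MulAut.conj n).toMonoidHom := by
    rintro u hu hmem _ ⟨y, hy, rfl⟩
    have hn := hF.inv_iff.1 hi hmem
    refine ⟨n⁻¹ * u * n * y * (n⁻¹ * u * n)⁻¹, (Subgroup.mem_normalizer_iff.1 hn y).1 hy, ?_⟩
    simp [mul_assoc, inv_eq_of_mul_self hu]
  exact ⟨key j hF.uu h1, key v hF.vv h2⟩

theorem MaxT.conj [Finite G] {t : ℕ} {j v : G} (hF : Four j v (j * v)) {P : Subgroup G}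
    (hP : MaxT t j v P) {n : G} (h1 : n * j * n⁻¹ = v) (h2 : n * v * n⁻¹ = j * v) :
    MaxT t j v (P.map (MulAut.conj n).toMonoidHom) := by
  have h3 : n * (j * v) * n⁻¹ = j := by
    rw [show n * (j * v) * n⁻¹ = n * j * n⁻¹ * (n * v * n⁻¹) by group, h1, h2, ← mul_assoc,
      ← hF.comm, mul_assoc, hF.vv, mul_one]
  have e1 : n⁻¹ * j * n = j * v := by nth_rewrite 1 [← h3]; group
  have e2 : n⁻¹ * v * n = j := by nth_rewrite 1 [← h1]; group
  have e3 : n⁻¹ * (j * v) * n = v := by nth_rewrite 1 [← h2]; group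
  refine ⟨hP.1.map _, inv_conj hF hP.2.1 (by rw [e1]; exact hF.w_mem) (by rw [e2]; exact hF.u_mem),
    fun Y hY hYi hle => ?_⟩
  have hY' : Y.map (MulAut.conj n⁻¹).toMonoidHom = P := by
    refine hP.2.2 _ (hY.map _) (inv_conj hF hYi ?_ ?_) fun x hx => ⟨n * x * n⁻¹, hle ⟨x, hx, rfl⟩, by
      simp [mul_assoc]⟩
    · rw [inv_inv, h1]; exact hF.v_mem
    · rw [inv_inv, h2]; exact hF.w_mem
  rw [← hY', Subgroup.map_map]
  convert (Subgroup.map_id Y).symm using 2
  ext x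
  simp [mul_assoc]

theorem ax_le_tPart {t : ℕ} [Fact t.Prime] {Y : Subgroup G} (hY : IsPGroup t Y) {u : G} :
    ax Y u ≤ tPart t u :=
  fun _ hx => mem_tPart (mem_ax.1 hx).2.symm (isPGroup_orderOf hY (ax_le _ _ hx))

namespace Main

variable [Finite G] {A : Subgroup G} {s j : G} (h : Main A s j) {t : ℕ} [Fact t.Prime]

include h

omit [Fact t.Prime] in
theorem odd_mem_A {x : G} (hc : x * j = j * x) (hx : Odd (orderOf x)) : x ∈ A := by
  rcases h.toR1.mem_of_comm hc with hA | hA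
  · exact hA
  · have h2 := h.hyp.out_sq hA
    have : x = 1 := Invol.eq_one_of_sq_of_odd hx (by rw [pow_two, h2])
    rw [this]; exact one_mem A

theorem tPart_le (ht : t ≠ 2) : tPart t j ≤ A :=
  (Subgroup.closure_le _).2 fun _ hx => h.odd_mem_A hx.1 (odd_orderOf ht hx.2.choose_spec)

theorem tPart_pgroup (ht : t ≠ 2) : IsPGroup t (tPart t j) := by
  intro x
  suffices key : ∀ y, y ∈ tPart t j → ∃ k, y ^ t ^ k = 1 by
    obtain ⟨k, hk⟩ := key x x.2
    exact ⟨k, Subtype.ext (by simpa using hk)⟩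
  intro y hy
  induction hy using Subgroup.closure_induction with
  | mem z hz =>
    obtain ⟨k, hk⟩ := hz.2
    exact ⟨k, by rw [← hk, pow_orderOf_eq_one]⟩
  | one => exact ⟨0, one_pow _⟩
  | mul p q hp hq ih1 ih2 =>
    obtain ⟨a, ha⟩ := ih1
    obtain ⟨b, hb⟩ := ih2
    have hcomm : Commute p q := h.hyp.comm p (h.tPart_le ht hp) q (h.tPart_le ht hq)
    refine ⟨a + b, ?_⟩
    rw [hcomm.mul_pow, pow_add, pow_mul, ha, one_pow, one_mul, mul_comm, pow_mul, hb, one_pow]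
  | inv p _ ih =>
    obtain ⟨a, ha⟩ := ih
    exact ⟨a, by rw [inv_pow, ha, inv_one]⟩

theorem tPart_inv (ht : t ≠ 2) {v : G} (hv : v * s ∈ A) : Inv j v (tPart t j) :=
  ⟨fun x hx => by rw [← tPart_comm hx, mul_assoc, h.jj, mul_one]; exact hx,
    fun x hx => by rw [h.hyp.out_conj' hv (h.tPart_le ht hx)]; exact inv_mem hx⟩

theorem fpf_four {v : G} (hv : v * s ∈ A) {X : Subgroup G} (hX : Odd (Nat.card X))
    (hi : Inv j v X) : Fpf j v (j * v) X :=
  (h.change hv).hyp.fpf h.jA hX hi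

/-- The odd part of the centraliser of an element of an axis. -/
theorem odd_centralizer (ht : t ≠ 2) {z : G} (hz : z ∈ tPart t j) (hz1 : z ≠ 1) :
    ∃ W : Subgroup G, Odd (Nat.card W) ∧ (∀ x ∈ W, x * z = z * x) ∧
      ∀ x : G, x * z = z * x → Odd (orderOf x) → x ∈ W := by
  classical
  haveI := Fact.mk Nat.prime_two
  have hzA := h.tPart_le ht hz
  set C := Subgroup.centralizer ({z} : Set G) with hC
  have hjC : j ∈ C := Subgroup.mem_centralizer_singleton_iff.2 (tPart_comm hz).symm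
  have hzo : Odd (orderOf z) := by
    obtain ⟨k, hk⟩ := isPGroup_orderOf (h.tPart_pgroup ht) hz
    exact odd_orderOf ht hk
  -- everything commuting with `j` and `z` is in `A`
  have hCA : ∀ x : G, x * j = j * x → x * z = z * x → x ∈ A := by
    intro x hxj hxz
    refine (h.toR1.mem_of_comm hxj).resolve_right fun hout => hz1 ?_
    have e := h.hyp.out_conj hout hzA
    rw [hxz, mul_inv_cancel_right] at e
    exact Invol.eq_one_of_sq_of_odd hzo (by rw [pow_two]; exact mul_eq_one_iff_eq_inv.2 e)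
  obtain ⟨P, hP⟩ := (IsPGroup.of_card (p := 2) (n := 1) (G := Subgroup.zpowers (⟨j, hjC⟩ : C))
    (by rw [Nat.card_zpowers, Subgroup.orderOf_mk, pow_one, h.j_order])).exists_le_sylow
  have hjP : (⟨j, hjC⟩ : C) ∈ (P : Subgroup C) := hP (Subgroup.mem_zpowers _)
  set Q := (P : Subgroup C).map C.subtype with hQ
  have hQ2 : IsPGroup 2 Q := P.isPGroup'.map _
  have hjQ : j ∈ Q := ⟨_, hjP, rfl⟩
  have hQz : ∀ x ∈ Q, x * z = z * x := by
    rintro _ ⟨x, -, rfl⟩
    exact Subgroup.mem_centralizer_singleton_iff.1 x.2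
  haveI : Nontrivial Q := Subgroup.nontrivial_iff_ne_bot _ |>.2 fun e => h.j_ne (by
    rwa [e, Subgroup.mem_bot] at hjQ)
  haveI := hQ2.center_nontrivial
  obtain ⟨c', hc'⟩ := exists_prime_orderOf_dvd_card' (G := Subgroup.center Q) 2 (by
    obtain ⟨n, hn0, hn⟩ := (IsPGroup.nontrivial_iff_card (hQ2.to_subgroup _)).1
      (inferInstance : Nontrivial (Subgroup.center Q))
    rw [hn]; exact dvd_pow_self 2 hn0.ne')
  set c : G := ((c' : Q) : G) with hcdef
  have hco : orderOf c = 2 := by rw [hcdef, Subgroup.orderOf_coe, Subgroup.orderOf_coe, hc']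
  have hcc : ∀ y ∈ Q, y * c = c * y := fun y hy =>
    congrArg Subtype.val (Subgroup.mem_center_iff.1 c'.2 ⟨y, hy⟩)
  have huq : ∀ x ∈ Q, x * j = j * x → x * x = 1 → x = 1 ∨ x = j := fun x hx hxj hxx =>
    h.toR1.sq_cases (hCA x hxj (hQz x hx)) hxx
  have hcj : c = j := by
    rcases huq c (c' : Q).2 (hcc j hjQ).symm (mul_self_of_orderOf hco) with e | e
    · rw [e, orderOf_one] at hco; omega
    · exact e
  have hQA : ∀ x ∈ Q, x ∈ A := fun x hx => hCA x (hcj ▸ hcc x hx) (hQz x hx)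
  obtain ⟨a, haQ, haeq⟩ := cyclic_of_unique hQ2 (fun x hx y hy => h.hyp.comm x (hQA x hx) y (hQA y hy))
    (fun x hx => huq x hx (hcj ▸ hcc x hx))
  haveI : IsCyclic (P : Subgroup C) := by
    haveI : IsCyclic Q := by rw [haeq]; infer_instance
    exact isCyclic_of_surjective
      ((P : Subgroup C).equivMapOfInjective C.subtype C.subtype_injective).symm (MulEquiv.surjective _)
  have hmin : (Nat.card C).minFac = 2 := by
    refine (Nat.minFac_eq_two_iff _).2 ?_
    have := Subgroup.orderOf_dvd_natCard C hjC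
    rwa [h.j_order] at this
  have hN := IsCyclic.normalizer_le_centralizer hmin (P := P) inferInstance
  set K := (MonoidHom.transferSylow P hN).ker with hK
  have hKodd : Odd (Nat.card K) := Nat.not_even_iff_odd.1 fun e =>
    MonoidHom.not_dvd_card_ker_transferSylow P hN (even_iff_two_dvd.1 e)
  refine ⟨K.map C.subtype, ?_, ?_, ?_⟩
  · rwa [Subgroup.card_map_of_injective C.subtype_injective]
  · rintro _ ⟨x, -, rfl⟩
    exact Subgroup.mem_centralizer_singleton_iff.1 x.2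
  · intro x hx hxo
    refine ⟨⟨x, Subgroup.mem_centralizer_singleton_iff.2 hx⟩, MonoidHom.mem_ker.2 ?_, rfl⟩
    set y := MonoidHom.transferSylow P hN ⟨x, Subgroup.mem_centralizer_singleton_iff.2 hx⟩
    have h1 : orderOf y ∣ orderOf x := by
      refine (orderOf_map_dvd _ _).trans ?_
      rw [Subgroup.orderOf_mk]
    obtain ⟨k, hk⟩ := IsPGroup.iff_orderOf.1 P.isPGroup' y
    rw [← orderOf_eq_one_iff, hk]
    rcases k with _ | k
    · rfl
    · exfalso
      have := (hk ▸ dvd_pow_self 2 k.succ_ne_zero).trans h1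
      exact Nat.not_even_iff_odd.2 hxo (even_iff_two_dvd.2 this)

/-- Invariant `t`-groups centralising an element of an axis lie in one. -/
theorem axis_sylow (ht : t ≠ 2) {v : G} (hv : v * s ∈ A) {z : G} (hz : z ∈ tPart t j) (hz1 : z ≠ 1) :
    ∃ T : Subgroup G, IsPGroup t T ∧ Inv j v T ∧
      ∀ Y : Subgroup G, IsPGroup t Y → Inv j v Y → (∀ y ∈ Y, y * z = z * y) → Y ≤ T := by
  obtain ⟨W, hWo, hWz, hWmem⟩ := h.odd_centralizer ht hz hz1
  have hvv := h.hyp.out_sq hv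
  have hWi : Inv j v W := by
    have key : ∀ u, u * u = 1 → (u * z * u = z ∨ u * z * u = z⁻¹) → ∀ x ∈ W, u * x * u ∈ W := by
      intro u hu hz' x hx
      refine hWmem _ ?_ ?_
      · have hc : Commute (u * x * u) (u * z * u) := by
          show u * x * u * (u * z * u) = u * z * u * (u * x * u)
          rw [← invol_conj_mul hu, hWz x hx, invol_conj_mul hu]
        rcases hz' with e | e <;> rw [e] at hc
        · exact hc.eq
        · exact (Commute.inv_right_iff.1 hc).eq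
      · have e : orderOf (u * x * u) = orderOf x := by
          rw [show u * x * u = u * x * u⁻¹ by rw [inv_eq_of_mul_self hu]]
          exact (MulAut.conj u).orderOf_eq x
        rw [e]
        exact hWo.of_dvd_nat (Subgroup.orderOf_dvd_natCard W hx)
    exact ⟨key j h.jj (Or.inl (by rw [← tPart_comm hz, mul_assoc, h.jj, mul_one])),
      key v hvv (Or.inr (h.hyp.out_conj' hv (h.tPart_le ht hz)))⟩
  have hWF := h.fpf_four hv hWo hWi
  obtain ⟨T, hTW, hTp, hTi, hTc⟩ := hWF.exists_sylow t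
  refine ⟨T, hTp, hTi, fun Y hY hYi hYz => ?_⟩
  have hYW : Y ≤ W := fun y hy => by
    obtain ⟨k, hk⟩ := isPGroup_orderOf hY hy
    exact hWmem y (hYz y hy) (odd_orderOf ht hk)
  exact hWF.le_sylow hYW hY hYi hTW hTi hTc

/-- A maximal invariant `t`-group with an element central on the first axis contains that axis. -/
theorem tPart_le_maxT (ht : t ≠ 2) {v : G} (hv : v * s ∈ A) {P : Subgroup G} (hP : MaxT t j v P)
    {z : G} (hz : z ∈ zc P) (hzj : z * j = j * z) (hz1 : z ≠ 1) : tPart t j ≤ P := by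
  have hzt : z ∈ tPart t j := mem_tPart hzj (isPGroup_orderOf hP.1 hz.1)
  obtain ⟨T, hT, hTi, hmem⟩ := h.axis_sylow ht hv hzt hz1
  have h1 : P ≤ T := hmem P hP.1 hP.2.1 fun y hy => Subgroup.mem_centralizer_iff.1 hz.2 y hy
  rw [← hP.2.2 T hT hTi h1]
  exact hmem _ (h.tPart_pgroup ht) (h.tPart_inv ht hv) fun y hy =>
    h.hyp.comm y (h.tPart_le ht hy) z (h.tPart_le ht hzt)

theorem tPart_card {v : G} (hv : v * s ∈ A) :
    Nat.card (tPart t v) = Nat.card (tPart t j) ∧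
      Nat.card (tPart t (j * v)) = Nat.card (tPart t j) := by
  obtain ⟨n, h1, h2⟩ := h.exists_global hv
  have e1 : Nat.card (tPart t v) = Nat.card (tPart t j) := by
    rw [← h1, ← tPart_conj, Subgroup.card_map_of_injective (MulAut.conj n).injective]
  refine ⟨e1, ?_⟩
  rw [← e1, ← h2, ← tPart_conj, Subgroup.card_map_of_injective (MulAut.conj n).injective]

/-- The core of the comparison of two maximal invariant `t`-groups. -/
theorem common (ht : t ≠ 2) {v : G} (hv : v * s ∈ A) {D₀ Y₁ Y₂ : Subgroup G} (h0 : IsPGroup t D₀)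
    (h0i : Inv j v D₀) (h1 : IsPGroup t Y₁) (h1i : Inv j v Y₁) (h2 : IsPGroup t Y₂)
    (h2i : Inv j v Y₂) (hn1 : Y₁ ≤ Subgroup.normalizer (D₀ : Set G))
    (hn2 : Y₂ ≤ Subgroup.normalizer (D₀ : Set G)) (hR : tPart t j ≤ D₀) :
    ∃ T : Subgroup G, IsPGroup t T ∧ Inv j v T ∧ Y₁ ≤ T ∧ Y₂ ≤ T := by
  classical
  have hF := h.toR1.four hv
  set D := Subgroup.normalizer (D₀ : Set G) with hD
  have hjD : j ∈ D := hF.inv_iff.1 h0i hF.u_mem
  have hvD : v ∈ D := hF.inv_iff.1 h0i hF.v_mem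
  have hFY : ∀ Y : Subgroup G, IsPGroup t Y → Inv j v Y → Fpf j v (j * v) Y := fun Y hY hYi =>
    h.fpf_four hv (odd_pgroup ht hY) hYi
  by_cases hiso : ∀ d ∈ D, d * j * d⁻¹ * j = j * (d * j * d⁻¹) → d * j * d⁻¹ = j
  · -- `j` is central modulo the odd core of `D`
    have hz : Cfsg.InZStar 2 (⟨j, hjD⟩ : D) := BrauerSuzuki.zStar D ⟨j, hjD⟩
      (by rw [Subgroup.orderOf_mk, h.j_order])
      (fun d hd => Subtype.ext (hiso d d.2 (congrArg Subtype.val hd.eq).symm))
    set OD := (Cfsg.pPrimeCore 2 D).map D.subtype with hOD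
    have hODo : Odd (Nat.card OD) := by
      rw [hOD, Subgroup.card_map_of_injective D.subtype_injective]
      exact Nat.not_even_iff_odd.1 fun e => (Nat.prime_two.coprime_iff_not_dvd).1
        (FittingCores.pPrimeCore_coprime (G := D) 2).symm (even_iff_two_dvd.1 e)
    haveI := FittingCores.pPrimeCore_normal (G := D) 2
    have hODn : ∀ d ∈ D, ∀ x ∈ OD, d * x * d⁻¹ ∈ OD := by
      rintro d hd _ ⟨x, hx, rfl⟩
      exact ⟨⟨d, hd⟩ * x * ⟨d, hd⟩⁻¹,
        (inferInstance : (Cfsg.pPrimeCore 2 D).Normal).conj_mem x hx _, rfl⟩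
    have hODi : Inv j v OD := ⟨fun x hx => by
      have := hODn j hjD x hx; rwa [inv_eq_of_mul_self hF.uu] at this, fun x hx => by
      have := hODn v hvD x hx; rwa [inv_eq_of_mul_self hF.vv] at this⟩
    have hD₀O : D₀ ≤ OD := by
      intro x hx
      refine ⟨⟨x, Subgroup.le_normalizer hx⟩, ?_, rfl⟩
      haveI : (D₀.subgroupOf D).Normal := Subgroup.normal_subgroupOf_of_le_normalizer le_rfl
      refine FittingCores.le_pPrimeCore (p := 2) (N := D₀.subgroupOf D) inferInstance ?_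
        (Subgroup.mem_subgroupOf.2 hx)
      rw [Nat.card_congr (Subgroup.subgroupOfEquivOfLe Subgroup.le_normalizer).toEquiv]
      exact ((Nat.prime_two.coprime_iff_not_dvd).2 fun e =>
        Nat.not_even_iff_odd.2 (odd_pgroup ht h0) (even_iff_two_dvd.2 e)).symm
    have hY : ∀ Y : Subgroup G, IsPGroup t Y → Inv j v Y → Y ≤ D → Y ≤ OD := by
      intro Y hY hYi hYD
      have hoff : ∀ a ∈ Y, j * a * j = a⁻¹ → a ∈ OD := by
        intro a ha e
        have h3 : a * a ∈ OD := by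
          refine ⟨_, hz ⟨a, hYD ha⟩, ?_⟩
          show a * j * a⁻¹ * j⁻¹ = a * a
          rw [inv_eq_of_mul_self hF.uu, mul_assoc (a * j), mul_assoc a j,
            ← mul_assoc j a⁻¹ j, invol_conj_inv hF.uu, e, inv_inv]
        obtain ⟨k, hk⟩ := isPGroup_orderOf hY ha
        obtain ⟨m, hm⟩ := odd_orderOf ht hk
        have h4 := pow_mem h3 (m + 1)
        rwa [← pow_two, ← pow_mul, show 2 * (m + 1) = orderOf a + 1 by omega, pow_succ,
          pow_orderOf_eq_one, one_mul] at h4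
      have hFy := hFY Y hY hYi
      exact hFy.le_of_axes ((ax_le_tPart hY).trans (hR.trans hD₀O))
        (fun a ha => hoff a (ax_le _ _ ha) (hFy.swap.inverts ha))
        (fun a ha => hoff a (ax_le _ _ ha) (hFy.rot.rot.inverts ha))
    have hFO := h.fpf_four hv hODo hODi
    obtain ⟨T, hTO, hTp, hTi, hTc⟩ := hFO.exists_sylow t
    exact ⟨T, hTp, hTi, hFO.le_sylow (hY Y₁ h1 h1i hn1) h1 h1i hTO hTi hTc,
      hFO.le_sylow (hY Y₂ h2 h2i hn2) h2 h2i hTO hTi hTc⟩
  push Not at hiso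
  obtain ⟨d, hdD, hdc, hdne⟩ := hiso
  have conjD₀ : ∀ n ∈ D, ∀ u, tPart t u ≤ D₀ → tPart t (n * u * n⁻¹) ≤ D₀ := by
    intro n hn u hu
    rw [← tPart_conj, ← Subgroup.mem_normalizer_iff_map_conj_eq.1 hn]
    exact Subgroup.map_mono hu
  by_cases hfour : ∃ a ∈ D, a ∈ A ∧ a * a = j
  · obtain ⟨w, n, hw, hwD, hnD, e1, e2⟩ := h.toR1.exists_trans (Or.inl hfour) hjD hdD hdc hdne
    have hRw : tPart t w ≤ D₀ := e1 ▸ conjD₀ n hnD j hR
    have hRjw : tPart t (j * w) ≤ D₀ := e2 ▸ conjD₀ n hnD w hRw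
    have h0iw : Inv j w D₀ :=
      ⟨fun x hx => invol_conj_mem hF.uu hjD hx,
        fun x hx => invol_conj_mem (h.hyp.out_sq hw) hwD hx⟩
    have hax : ∀ u, tPart t u ≤ D₀ → Nat.card (ax D₀ u) = Nat.card (tPart t u) := fun u hu => by
      rw [le_antisymm (ax_le_tPart h0) (fun x hx => mem_ax.2 ⟨hu hx, (tPart_comm hx).symm⟩)]
    have c1 := (h.fpf_four hw (odd_pgroup ht h0) h0iw).card_eq
    rw [hax j hR, hax w hRw, hax _ hRjw, (h.tPart_card hw).1, (h.tPart_card hw).2] at c1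
    have c2 := (hFY D₀ h0 h0i).card_eq
    rw [hax j hR] at c2
    obtain ⟨d1, d2⟩ := h.tPart_card (t := t) hv
    have l1 : Nat.card (ax D₀ v) ≤ Nat.card (tPart t j) := d1 ▸ Nat.le_of_dvd Nat.card_pos
      (Subgroup.card_dvd_of_le (ax_le_tPart h0))
    have l2 : Nat.card (ax D₀ (j * v)) ≤ Nat.card (tPart t j) := d2 ▸ Nat.le_of_dvd Nat.card_pos
      (Subgroup.card_dvd_of_le (ax_le_tPart h0))
    have hpos : 0 < Nat.card (tPart t j) := Nat.card_pos
    have key : Nat.card (ax D₀ v) * Nat.card (ax D₀ (j * v))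
        = Nat.card (tPart t j) * Nat.card (tPart t j) :=
      Nat.eq_of_mul_eq_mul_left hpos (by rw [← mul_assoc, ← c2, c1, mul_assoc])
    have g1 : Nat.card (tPart t j) ≤ Nat.card (ax D₀ v) :=
      Nat.le_of_mul_le_mul_right (key ▸ Nat.mul_le_mul_left _ l2) hpos
    have g2 : Nat.card (tPart t j) ≤ Nat.card (ax D₀ (j * v)) :=
      Nat.le_of_mul_le_mul_left (key ▸ Nat.mul_le_mul_right _ l1) hpos
    have hv0 : tPart t v ≤ D₀ := by
      rw [← Subgroup.eq_of_le_of_card_ge (ax_le_tPart h0 (u := v)) (d1 ▸ g1)]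
      exact ax_le _ _
    have hw0 : tPart t (j * v) ≤ D₀ := by
      rw [← Subgroup.eq_of_le_of_card_ge (ax_le_tPart h0 (u := j * v)) (d2 ▸ g2)]
      exact ax_le _ _
    refine ⟨D₀, h0, h0i, ?_, ?_⟩
    · exact (hFY Y₁ h1 h1i).le_of_axes ((ax_le_tPart h1).trans hR) ((ax_le_tPart h1).trans hv0)
        ((ax_le_tPart h1).trans hw0)
    · exact (hFY Y₂ h2 h2i).le_of_axes ((ax_le_tPart h2).trans hR) ((ax_le_tPart h2).trans hv0)
        ((ax_le_tPart h2).trans hw0)
  · obtain ⟨n, hnD, v₀, v₁, hv₀, -, e1, -⟩ := h.toR1.move hfour hjD hv hvD hdD hdc hdne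
    have hR₀ : tPart t v₀ ≤ D₀ := e1 ▸ conjD₀ n hnD j hR
    have key : ∀ v₂, v₂ * s ∈ A → v₂ ∈ D → v * v₂ = v₂ * v → ∃ B : Subgroup G, B ≤ D ∧ IsPGroup t B ∧ Inv j v B ∧
        ∀ Y : Subgroup G, IsPGroup t Y → Y ≤ D → ax Y v₂ ≤ B := by
      intro v₂ hv₂ hv₂D hvc
      obtain ⟨A₂, h₂⟩ := h.rot hv₂
      refine ⟨tPart t v₂ ⊓ D, inf_le_right, (h₂.tPart_pgroup ht).to_le inf_le_left, ⟨?_, ?_⟩,
        fun Y hY hYD => le_inf (ax_le_tPart hY) ((ax_le _ _).trans hYD)⟩
      all_goals intro x hx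
      · refine ⟨?_, mul_mem (mul_mem hjD hx.2) hjD⟩
        have hF2 := h.toR1.four hv₂
        have hj' : (j : G) * (j * v₂) ∈ A₂ :=
          (h₂.toR1.out_of_invol h.jj h.j_ne (h.toR1.out_ne hv₂).2.symm hF2.comm)
        exact (h₂.tPart_inv ht hj').2 x hx.1
      · refine ⟨?_, mul_mem (mul_mem hvD hx.2) hvD⟩
        by_cases e : v = v₂
        · rw [e, ← tPart_comm hx.1, mul_assoc, h.hyp.out_sq hv₂, mul_one]; exact hx.1
        · have hc : v * v₂ = v₂ * v := hvc
          exact (h₂.tPart_inv ht (h₂.toR1.out_of_invol (h.hyp.out_sq hv) (h.toR1.out_ne hv).1 e hc)).2 x hx.1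
    rcases hv₀ with e | e
    · obtain ⟨B, hBD, hB, hBi, hBmem⟩ := key (j * v) (h.toR1.jv_out hv) (mul_mem hjD hvD)
        hF.rot.comm
      have hp : IsPGroup t (D₀ ⊔ B : Subgroup G) := h0.to_sup_of_normal_left' hB hBD
      refine ⟨D₀ ⊔ B, hp, hF.inv_sup h0i hBi, ?_, ?_⟩
      · exact (hFY Y₁ h1 h1i).le_of_axes (((ax_le_tPart h1).trans hR).trans le_sup_left)
          (((ax_le_tPart h1).trans (e ▸ hR₀)).trans le_sup_left) ((hBmem Y₁ h1 hn1).trans le_sup_right)
      · exact (hFY Y₂ h2 h2i).le_of_axes (((ax_le_tPart h2).trans hR).trans le_sup_left)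
          (((ax_le_tPart h2).trans (e ▸ hR₀)).trans le_sup_left) ((hBmem Y₂ h2 hn2).trans le_sup_right)
    · obtain ⟨B, hBD, hB, hBi, hBmem⟩ := key v hv hvD rfl
      have hp : IsPGroup t (D₀ ⊔ B : Subgroup G) := h0.to_sup_of_normal_left' hB hBD
      refine ⟨D₀ ⊔ B, hp, hF.inv_sup h0i hBi, ?_, ?_⟩
      · exact (hFY Y₁ h1 h1i).le_of_axes (((ax_le_tPart h1).trans hR).trans le_sup_left)
          ((hBmem Y₁ h1 hn1).trans le_sup_right) (((ax_le_tPart h1).trans (e ▸ hR₀)).trans le_sup_left)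
      · exact (hFY Y₂ h2 h2i).le_of_axes (((ax_le_tPart h2).trans hR).trans le_sup_left)
          ((hBmem Y₂ h2 hn2).trans le_sup_right) (((ax_le_tPart h2).trans (e ▸ hR₀)).trans le_sup_left)

/-- Only one maximal invariant `t`-group contains a given axis. -/
theorem maxT_unique (ht : t ≠ 2) {v : G} (hv : v * s ∈ A) {P P' : Subgroup G} (hP : MaxT t j v P)
    (hP' : MaxT t j v P') (hR : tPart t j ≤ P) (hR' : tPart t j ≤ P') : P = P' := by
  by_contra hne
  have hF := h.toR1.four hv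
  obtain ⟨D₀, ⟨Q, Q', hQ, hQ', hRQ, hRQ', hQne, rfl⟩, hmax⟩ := Set.Finite.exists_maximal
    (s := {D : Subgroup G | ∃ Q Q', MaxT t j v Q ∧ MaxT t j v Q' ∧ tPart t j ≤ Q ∧ tPart t j ≤ Q' ∧
      Q ≠ Q' ∧ D = Q ⊓ Q'}) (Set.toFinite _) ⟨_, P, P', hP, hP', hR, hR', hne, rfl⟩
  have h0 : IsPGroup t (Q ⊓ Q' : Subgroup G) := hQ.1.to_le inf_le_left
  have h0i := hF.inv_inf hQ.2.1 hQ'.2.1
  have grow : ∀ Q₁ : Subgroup G, MaxT t j v Q₁ → Q ⊓ Q' ≤ Q₁ → Q₁ ≠ Q ⊓ Q' →
      Q ⊓ Q' < Q₁ ⊓ Subgroup.normalizer ((Q ⊓ Q' : Subgroup G) : Set G) := by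
    intro Q₁ hQ₁ hle hne1
    exact Fusion.lt_inf_normalizer hQ₁.1.isNilpotent (lt_of_le_of_ne hle (Ne.symm hne1))
  have hlt1 := grow Q hQ inf_le_left fun e => hQne
    ((hQ.2.2 Q' hQ'.1 hQ'.2.1 (e.le.trans inf_le_right)).symm)
  have hlt2 := grow Q' hQ' inf_le_right fun e => hQne
    (hQ'.2.2 Q hQ.1 hQ.2.1 (e.le.trans inf_le_left))
  obtain ⟨T, hT, hTi, hT1, hT2⟩ := h.common ht hv h0 h0i (hQ.1.to_le inf_le_left)
    (hF.inv_inf hQ.2.1 (hF.inv_normalizer h0i)) (hQ'.1.to_le inf_le_left)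
    (hF.inv_inf hQ'.2.1 (hF.inv_normalizer h0i)) inf_le_right inf_le_right (le_inf hRQ hRQ')
  obtain ⟨Q'', hTQ, hQ''⟩ := exists_maxT hT hTi
  have eq_of : ∀ Q₁, MaxT t j v Q₁ → tPart t j ≤ Q₁ →
      Q ⊓ Q' < Q₁ ⊓ Subgroup.normalizer ((Q ⊓ Q' : Subgroup G) : Set G) →
      Q₁ ⊓ Subgroup.normalizer ((Q ⊓ Q' : Subgroup G) : Set G) ≤ T → Q'' = Q₁ := by
    intro Q₁ hQ₁ hR₁ hlt hle
    by_contra hne2
    have hR'' : tPart t j ≤ Q'' := ((le_inf hRQ hRQ').trans hlt.le).trans (hle.trans hTQ)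
    have hle2 : Q₁ ⊓ Subgroup.normalizer ((Q ⊓ Q' : Subgroup G) : Set G) ≤ Q'' ⊓ Q₁ :=
      le_inf (hle.trans hTQ) inf_le_left
    exact (lt_of_lt_of_le hlt hle2).not_ge
      (hmax ⟨Q'', Q₁, hQ'', hQ₁, hR'', hR₁, hne2, rfl⟩ (hlt.le.trans hle2))
  exact hQne ((eq_of Q hQ hRQ hlt1 hT1).symm.trans (eq_of Q' hQ' hRQ' hlt2 hT2))

end Main

end Cfsg.Agent.DGroup
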