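import Cfsg.Agent.Lib.DGroup.Axes

/-!
# The largest invariant `t`-subgroup of a four-group
-/

set_option autoImplicit false
set_option linter.unusedSectionVars false
set_option linter.style.haveILetI false

namespace Cfsg.Agent.DGroup

variable {G : Type*} [Group G]

theorem inv_of_swap {j v : G} {Y : Subgroup G} (h : Inv v j Y) : Inv j v Y := ⟨h.2, h.1⟩

theorem inv_of_third {j v : G} (hF : Four j v (j * v)) {Y : Subgroup G} (h : Inv (j * v) j Y) :
    Inv j v Y := by
  refine ⟨h.2, fun x hx => ?_⟩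
  have e : v = j * (j * v) := by rw [← mul_assoc, hF.uu, one_mul]
  have e' : v = (j * v) * j := by rw [mul_assoc, ← hF.comm, ← mul_assoc, hF.uu, one_mul]
  have := h.2 _ (h.1 x hx)
  rwa [show j * (j * v * x * (j * v)) * j = j * (j * v) * x * ((j * v) * j) by group, ← e, ← e']
    at this

theorem map_conj_eq (g : G) {u : G} {P : Subgroup G} {t : ℕ} (h : tPart t u ≤ P) :
    tPart t (g * u * g⁻¹) ≤ P.map (MulAut.conj g).toMonoidHom := by
  rw [← tPart_conj]; exact Subgroup.map_mono h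

namespace Main

variable [Finite G] {A : Subgroup G} {s j : G} (h : Main A s j) {t : ℕ} [Fact t.Prime]

include h

omit [Fact t.Prime] in
/-- The configuration centred at another involution of the four-group. -/
theorem centre_at {v u : G} (hv : v * s ∈ A) (hu : u = v ∨ u = j * v) :
    ∃ A', Main A' j u ∧ u * u = 1 ∧ u * j = j * u ∧ j ≠ u := by
  have hF := h.toR1.four hv
  obtain ⟨hv1, hvj⟩ := h.toR1.out_ne hv
  have h1 : u * s ∈ A := by
    rcases hu with rfl | rfl
    · exact hv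
    · exact h.toR1.jv_out hv
  obtain ⟨hu1, huj⟩ := h.toR1.out_ne h1
  have huu := h.hyp.out_sq h1
  have hc := h.toR1.comm_out h1
  obtain ⟨A', hA'⟩ := h.recentre huu hu1 h.jj h.j_ne huj.symm hc.symm
  exact ⟨A', hA', huu, hc, huj.symm⟩

theorem tPart_inv' (ht : t ≠ 2) {v u : G} (hv : v * s ∈ A) (hu : u = v ∨ u = j * v) :
    Inv j v (tPart t u) := by
  obtain ⟨A', hA', huu, hc, hne⟩ := h.centre_at hv hu
  have hj : j * j ∈ A' := by rw [h.jj]; exact one_mem _
  have hi := hA'.tPart_inv (t := t) ht hj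
  rcases hu with rfl | rfl
  · exact inv_of_swap hi
  · exact inv_of_third (h.toR1.four hv) hi

/-- A maximal invariant `t`-group properly containing an axis is the largest one. -/
theorem closed_of_big (ht : t ≠ 2) {v : G} (hv : v * s ∈ A) {P : Subgroup G} (hP : MaxT t j v P)
    (hR : tPart t j ≤ P) (hne : P ≠ tPart t j) :
    Closed t j v P ∧ tPart t v ≤ P ∧ tPart t (j * v) ≤ P := by
  classical
  have hF := h.toR1.four hv
  set R := tPart t j with hRdef
  have hRi : Inv j v R := h.tPart_inv ht hv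
  set N := P ⊓ Subgroup.normalizer (R : Set G) with hN
  have hlt : R < N := Fusion.lt_inf_normalizer hP.1.isNilpotent (lt_of_le_of_ne hR (Ne.symm hne))
  have hNp : IsPGroup t N := hP.1.to_le inf_le_left
  have hNi : Inv j v N := hF.inv_inf hP.2.1 (hF.inv_normalizer hRi)
  have hNF := h.fpf_four hv (odd_pgroup ht hNp) hNi
  -- an element off the first axis centralising `R`
  obtain ⟨u, hu, y, hy, hyR, hyj⟩ : ∃ u, (u = v ∨ u = j * v) ∧
      ∃ y, y ∈ ax N u ∧ y ∉ R ∧ j * y * j = y⁻¹ := by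
    by_contra hcon
    refine hlt.not_ge (hNF.le_of_axes (ax_le_tPart hNp) ?_ ?_)
    · exact fun y hy => by_contra fun hyR => hcon ⟨v, Or.inl rfl, y, hy, hyR, hNF.swap.inverts hy⟩
    · exact fun y hy => by_contra fun hyR =>
        hcon ⟨j * v, Or.inr rfl, y, hy, hyR, hNF.rot.rot.inverts hy⟩
  have hy1 : y ≠ 1 := fun e => hyR (e ▸ one_mem R)
  have hyN : y ∈ N := ax_le _ _ hy
  have hyc : ∀ r ∈ R, r * y = y * r := by
    intro r hr
    have h1 : y * r * y⁻¹ ∈ R := (Subgroup.mem_normalizer_iff.1 hyN.2 r).1 hr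
    have e1 : j * (y * r * y⁻¹) * j = y * r * y⁻¹ := (invol_conj_eq_iff h.jj).2 (tPart_comm h1).symm
    rw [invol_conj_mul h.jj, invol_conj_mul h.jj, invol_conj_inv h.jj, hyj, inv_inv,
      (invol_conj_eq_iff h.jj).2 (tPart_comm hr).symm] at e1
    have h2 : Commute (y * y) r := by
      show y * y * r = r * (y * y)
      calc y * y * r = y * (y * r * y⁻¹) * y := by group
        _ = y * (y⁻¹ * r * y) * y := by rw [e1]
        _ = r * (y * y) := by group
    obtain ⟨k, hk⟩ := isPGroup_orderOf hNp hyN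
    obtain ⟨m, hm⟩ := odd_orderOf ht hk
    have h3 := h2.pow_left (m + 1)
    rw [← pow_two, ← pow_mul, show 2 * (m + 1) = orderOf y + 1 by omega, pow_succ,
      pow_orderOf_eq_one, one_mul] at h3
    exact h3.eq.symm
  -- so `P` contains a second axis
  have hRu : tPart t u ≤ P := by
    obtain ⟨A', hA', huu, hc, hne'⟩ := h.centre_at hv hu
    have hj : j * j ∈ A' := by rw [h.jj]; exact one_mem _
    have hyt : y ∈ tPart t u := ax_le_tPart hNp hy
    obtain ⟨T, hT, hTi, hmem⟩ := hA'.axis_sylow ht hj hyt hy1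
    have hTi' : Inv j v T := by
      rcases hu with rfl | rfl
      · exact inv_of_swap hTi
      · exact inv_of_third hF hTi
    have hRi' : Inv u j R := by
      rcases hu with rfl | rfl
      · exact ⟨hRi.2, hRi.1⟩
      · refine ⟨fun x hx => ?_, hRi.1⟩
        have := hRi.1 _ (hRi.2 x hx)
        rwa [show j * (v * x * v) * j = j * v * x * (v * j) by group, ← hF.comm] at this
    have h1 : R ≤ T := hmem R (h.tPart_pgroup ht) hRi' hyc
    have h2 : tPart t u ≤ T := hmem _ (hA'.tPart_pgroup ht) (hA'.tPart_inv ht hj) fun x hx =>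
      hA'.hyp.comm x (hA'.tPart_le ht hx) y (hA'.tPart_le ht hyt)
    obtain ⟨P₁, hTP, hP₁⟩ := exists_maxT hT hTi'
    rw [h.maxT_unique ht hv hP hP₁ hR (h1.trans hTP)]
    exact h2.trans hTP
  obtain ⟨n, hn1, hn2⟩ := h.exists_global hv
  have hn3 : n * (j * v) * n⁻¹ = j := by
    rw [show n * (j * v) * n⁻¹ = n * j * n⁻¹ * (n * v * n⁻¹) by group, hn1, hn2, ← mul_assoc,
      ← hF.comm, mul_assoc, hF.vv, mul_one]
  set P1 := P.map (MulAut.conj n).toMonoidHom with hP1def
  have hP1 : MaxT t j v P1 := hP.conj hF hn1 hn2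
  set P2 := P1.map (MulAut.conj n).toMonoidHom with hP2def
  have hP2 : MaxT t j v P2 := hP1.conj hF hn1 hn2
  have g1 : tPart t v ≤ P1 := hn1 ▸ map_conj_eq n hR
  have g2 : tPart t (j * v) ≤ P2 := hn2 ▸ map_conj_eq n g1
  have all : tPart t v ≤ P ∧ tPart t (j * v) ≤ P := by
    rcases hu with e | e
    · rw [e] at hRu
      have g3 : tPart t (j * v) ≤ P1 := hn2 ▸ map_conj_eq n hRu
      have g4 : tPart t j ≤ P2 := hn3 ▸ map_conj_eq n g3
      exact ⟨hRu, (h.maxT_unique ht hv hP2 hP g4 hR) ▸ g2⟩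
    · rw [e] at hRu
      have g3 : tPart t j ≤ P1 := hn3 ▸ map_conj_eq n hRu
      exact ⟨(h.maxT_unique ht hv hP1 hP g3 hR) ▸ g1, hRu⟩
  have hP1eq : P1 = P := h.maxT_unique ht hv hP1 hP (hn3 ▸ map_conj_eq n all.2) hR
  refine ⟨⟨hP.1, hP.2.1, fun Y hY hYi => ?_⟩, all⟩
  obtain ⟨P', hYP', hP'⟩ := exists_maxT hY hYi
  rcases eq_or_ne P' ⊥ with e | hne'
  · exact (hYP'.trans e.le).trans bot_le
  refine hYP'.trans (le_of_eq ?_)
  have hzi : Inv j v (zc P') := hF.inv_inf hP'.2.1 (hF.inv_centralizer hP'.2.1)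
  have hzp : IsPGroup t (zc P') := hP'.1.to_le inf_le_left
  have hzF := h.fpf_four hv (odd_pgroup ht hzp) hzi
  have hz0 : zc P' ≠ ⊥ := by
    haveI : Nontrivial P' := (Subgroup.nontrivial_iff_ne_bot P').2 hne'
    haveI := hP'.1.center_nontrivial
    obtain ⟨⟨z, hz⟩, hz1⟩ := exists_ne (1 : Subgroup.center P')
    intro e
    have : (z : G) ∈ zc P' := ⟨z.2, Subgroup.mem_centralizer_iff.2 fun y hy =>
      congrArg Subtype.val (Subgroup.mem_center_iff.1 hz ⟨y, hy⟩)⟩
    rw [e, Subgroup.mem_bot] at this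
    exact hz1 (Subtype.ext (Subtype.ext this))
  by_contra hP'ne
  -- conjugating moves any axis of `zc P'` to the first
  have hinvn : ∀ Q : Subgroup G, Q.map (MulAut.conj n).toMonoidHom = P → Q = P := fun Q hQ =>
    Subgroup.map_injective (MulAut.conj n).injective (hQ.trans hP1eq.symm)
  have zconj : ∀ {Q : Subgroup G} {z : G}, z ∈ zc Q →
      n * z * n⁻¹ ∈ zc (Q.map (MulAut.conj n).toMonoidHom) := by
    rintro Q z ⟨hz, hzc⟩
    refine ⟨⟨z, hz, rfl⟩, Subgroup.mem_centralizer_iff.2 ?_⟩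
    rintro _ ⟨y, hy, rfl⟩
    exact conj_comm (Subgroup.mem_centralizer_iff.1 hzc y hy)
  have hax : ∀ u', (u' = j ∨ u' = v ∨ u' = j * v) → ax (zc P') u' ≤ ⊥ := by
    intro u' hu' z hz
    rw [Subgroup.mem_bot]
    by_contra hz1
    have hzc : z * u' = u' * z := (mem_ax.1 hz).2.symm
    have hz' : z ∈ zc P' := ax_le _ _ hz
    have hcz := conj_comm (g := n) hzc
    have hz1' : n * z * n⁻¹ ≠ 1 := fun e => hz1 (conj_eq_one_iff.1 e)
    rcases hu' with e | e | e
    · rw [e] at hzc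
      exact hP'ne (h.maxT_unique ht hv hP' hP (h.tPart_le_maxT ht hv hP' hz' hzc hz1) hR)
    · have hcz2 := conj_comm (g := n) (conj_comm (g := n) (e ▸ hzc : z * v = v * z))
      rw [hn2, hn3] at hcz2
      have h' := (hP'.conj hF hn1 hn2).conj hF hn1 hn2
      have := h.maxT_unique ht hv h' hP (h.tPart_le_maxT ht hv h' (zconj (zconj hz')) hcz2
        (fun e => hz1' (conj_eq_one_iff.1 e))) hR
      exact hP'ne (hinvn _ (hinvn _ this))
    · rw [e, hn3] at hcz
      have h' := hP'.conj hF hn1 hn2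
      exact hP'ne (hinvn _ (h.maxT_unique ht hv h' hP
        (h.tPart_le_maxT ht hv h' (zconj hz') hcz hz1') hR))
  exact hz0 (le_bot_iff.1 (hzF.le_of_axes (hax j (Or.inl rfl)) (hax v (Or.inr (Or.inl rfl)))
    (hax _ (Or.inr (Or.inr rfl)))))

/-- An invariant `t`-group not on one axis gives the largest invariant `t`-group. -/
theorem exists_closed (ht : t ≠ 2) {v : G} (hv : v * s ∈ A) {Y : Subgroup G} (hY : IsPGroup t Y)
    (hYi : Inv j v Y) (ha : ¬ Y ≤ tPart t j) (hb : ¬ Y ≤ tPart t v) (hc : ¬ Y ≤ tPart t (j * v)) :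
    ∃ P, Closed t j v P := by
  classical
  have hF := h.toR1.four hv
  obtain ⟨n, hn1, hn2⟩ := h.exists_global hv
  have hn3 : n * (j * v) * n⁻¹ = j := by
    rw [show n * (j * v) * n⁻¹ = n * j * n⁻¹ * (n * v * n⁻¹) by group, hn1, hn2, ← mul_assoc,
      ← hF.comm, mul_assoc, hF.vv, mul_one]
  obtain ⟨P, hYP, hP⟩ := exists_maxT hY hYi
  by_contra hcon
  have hzi : Inv j v (zc P) := hF.inv_inf hP.2.1 (hF.inv_centralizer hP.2.1)
  have hzF := h.fpf_four hv (odd_pgroup ht (hP.1.to_le inf_le_left : IsPGroup t (zc P))) hzi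
  have hne : P ≠ ⊥ := fun e => ha ((hYP.trans e.le).trans bot_le)
  haveI : Nontrivial P := (Subgroup.nontrivial_iff_ne_bot P).2 hne
  haveI := hP.1.center_nontrivial
  obtain ⟨⟨z, hz⟩, hz1⟩ := exists_ne (1 : Subgroup.center P)
  have hzmem : (z : G) ∈ zc P := ⟨z.2, Subgroup.mem_centralizer_iff.2 fun y hy =>
      congrArg Subtype.val (Subgroup.mem_center_iff.1 hz ⟨y, hy⟩)⟩
  have key : ∀ Q, MaxT t j v Q → ∀ x ∈ zc Q, x * j = j * x → x ≠ 1 → Q = tPart t j := by
    intro Q hQ x hx hxj hx1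
    by_contra hne'
    exact hcon ⟨Q, (h.closed_of_big ht hv hQ (h.tPart_le_maxT ht hv hQ hx hxj hx1) hne').1⟩
  have hback : ∀ Q : Subgroup G, ∀ u, Q.map (MulAut.conj n).toMonoidHom = tPart t (n * u * n⁻¹) →
      Q = tPart t u := fun Q u e =>
    Subgroup.map_injective (MulAut.conj n).injective (e.trans (tPart_conj t u n).symm)
  have zconj : ∀ {Q : Subgroup G} {x : G}, x ∈ zc Q →
      n * x * n⁻¹ ∈ zc (Q.map (MulAut.conj n).toMonoidHom) := by
    rintro Q x ⟨hx, hxc⟩
    refine ⟨⟨x, hx, rfl⟩, Subgroup.mem_centralizer_iff.2 ?_⟩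
    rintro _ ⟨y, hy, rfl⟩
    exact conj_comm (Subgroup.mem_centralizer_iff.1 hxc y hy)
  have hax : ∀ u', (u' = j ∨ u' = v ∨ u' = j * v) → ax (zc P) u' ≤ ⊥ := by
    intro u' hu' x hx
    rw [Subgroup.mem_bot]
    by_contra hx1
    have hx' : x ∈ zc P := ax_le _ _ hx
    have hxc : x * u' = u' * x := (mem_ax.1 hx).2.symm
    have hx1' : n * x * n⁻¹ ≠ 1 := fun e => hx1 (conj_eq_one_iff.1 e)
    rcases hu' with e | e | e
    · exact ha (hYP.trans (key P hP x hx' (e ▸ hxc) hx1).le)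
    · have hc2 := conj_comm (g := n) (conj_comm (g := n) (e ▸ hxc : x * v = v * x))
      rw [hn2, hn3] at hc2
      have e1 := key _ ((hP.conj hF hn1 hn2).conj hF hn1 hn2) _ (zconj (zconj hx')) hc2
        (fun e => hx1' (conj_eq_one_iff.1 e))
      refine hb (hYP.trans (hback P v ?_).le)
      rw [hn2]
      exact hback _ (j * v) (by rw [hn3]; exact e1)
    · have hc1 := conj_comm (g := n) (e ▸ hxc : x * (j * v) = j * v * x)
      rw [hn3] at hc1
      have e1 := key _ (hP.conj hF hn1 hn2) _ (zconj hx') hc1 hx1'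
      exact hc (hYP.trans (hback P (j * v) (by rw [hn3]; exact e1)).le)
  have := hzF.le_of_axes (hax j (Or.inl rfl)) (hax v (Or.inr (Or.inl rfl))) (hax _ (Or.inr (Or.inr rfl)))
    hzmem
  exact hz1 (Subtype.ext (Subtype.ext (Subgroup.mem_bot.1 this)))

end Main

namespace Closed

variable {t : ℕ} {j v : G} {P : Subgroup G}

theorem unique (hP : Closed t j v P) {P' : Subgroup G} (hP' : Closed t j v P') : P = P' :=
  le_antisymm (hP'.2.2 P hP.1 hP.2.1) (hP.2.2 P' hP'.1 hP'.2.1)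

theorem maxT (hP : Closed t j v P) : MaxT t j v P :=
  ⟨hP.1, hP.2.1, fun Y hY hYi hle => le_antisymm (hP.2.2 Y hY hYi) hle⟩

theorem tPart_le [Finite G] [Fact t.Prime] {A : Subgroup G} {s : G} (h : Main A s j) (ht : t ≠ 2)
    (hv : v * s ∈ A) (hP : Closed t j v P) :
    tPart t j ≤ P ∧ tPart t v ≤ P ∧ tPart t (j * v) ≤ P := by
  obtain ⟨A', hA', -⟩ := h.centre_at hv (Or.inl rfl)
  obtain ⟨A'', hA'', -⟩ := h.centre_at hv (Or.inr rfl)
  exact ⟨hP.2.2 _ (h.tPart_pgroup ht) (h.tPart_inv ht hv),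
    hP.2.2 _ (hA'.tPart_pgroup ht) (h.tPart_inv' ht hv (Or.inl rfl)),
    hP.2.2 _ (hA''.tPart_pgroup ht) (h.tPart_inv' ht hv (Or.inr rfl))⟩

theorem card_eq [Finite G] [Fact t.Prime] {A : Subgroup G} {s : G} (h : Main A s j) (ht : t ≠ 2)
    (hv : v * s ∈ A) (hP : Closed t j v P) :
    Nat.card P = Nat.card (tPart t j) ^ 3 := by
  have hax : ∀ u, tPart t u ≤ P → ax P u = tPart t u := fun u hu =>
    le_antisymm (ax_le_tPart hP.1) fun x hx => mem_ax.2 ⟨hu hx, (tPart_comm hx).symm⟩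
  obtain ⟨h1, h2, h3⟩ := hP.tPart_le h ht hv
  have e := (h.fpf_four hv (odd_pgroup ht hP.1) hP.2.1).card_eq
  rw [hax j h1, hax v h2, hax _ h3, (h.tPart_card hv).1, (h.tPart_card hv).2] at e
  rw [e]; ring

/-- The normalizer of the four-group normalises the largest invariant group. -/
theorem mem_normalizer [Finite G] (hF : Four j v (j * v)) (hP : Closed t j v P) {n : G}
    (h1 : n⁻¹ * j * n ∈ hF.group) (h2 : n⁻¹ * v * n ∈ hF.group) :
    n ∈ Subgroup.normalizer (P : Set G) := by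
  rw [Subgroup.mem_normalizer_iff_map_conj_eq]
  exact Subgroup.eq_of_le_of_card_ge (hP.2.2 _ (hP.1.map _) (inv_conj hF hP.2.1 h1 h2))
    (Subgroup.card_map_of_injective (MulAut.conj n).injective).ge

end Closed

end Cfsg.Agent.DGroup
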