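import Cfsg.Agent.Lib.DGroup.Setup
import Mathlib.GroupTheory.SpecificGroups.ZGroup
import Mathlib.GroupTheory.Transfer
import Mathlib.LinearAlgebra.Matrix.GeneralLinearGroup.Projective
import Mathlib.LinearAlgebra.Matrix.ProjectiveSpecialLinearGroup

/-!
# Common facts about groups with a self-centralising inverted abelian subgroup
-/

set_option autoImplicit false
set_option linter.unusedSectionVars false
set_option linter.style.haveILetI false

namespace Cfsg.Agent.DGroup

variable {G : Type*} [Group G]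

/-- The conclusion of the theorem. -/
def Concl (G : Type*) [Group G] : Prop :=
  ∃ (N : Subgroup G) (_ : N.Normal),
    (Odd (Nat.card ↥N) ∨ ∃ m : ℕ, Odd m ∧ Nat.card ↥N = 2 * m) ∧
      ∃ (F : Type) (_ : Field F) (_ : Fintype F), 3 < Fintype.card F ∧
        (Nonempty (G ⧸ N ≃* Matrix.ProjectiveSpecialLinearGroup (Fin 2) F) ∨
          Nonempty (G ⧸ N ≃* Matrix.ProjGenLinGroup (Fin 2) F))

theorem concl_of_equiv {F : Type} [Field F] [Fintype F] (hF : 3 < Fintype.card F)
    (e : G ≃* Matrix.ProjectiveSpecialLinearGroup (Fin 2) F) : Concl G :=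
  ⟨⊥, inferInstance, Or.inl (by rw [Subgroup.card_bot]; exact odd_one), F, inferInstance,
    inferInstance, hF, Or.inl ⟨QuotientGroup.quotientBot.trans e⟩⟩

theorem concl_of_equiv_pgl {F : Type} [Field F] [Fintype F] (hF : 3 < Fintype.card F)
    (e : G ≃* Matrix.ProjGenLinGroup (Fin 2) F) : Concl G :=
  ⟨⊥, inferInstance, Or.inl (by rw [Subgroup.card_bot]; exact odd_one), F, inferInstance,
    inferInstance, hF, Or.inr ⟨QuotientGroup.quotientBot.trans e⟩⟩

/-- The involutions of `A` together with `1`. -/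
def Hyp2.E {A : Subgroup G} {s : G} (h : Hyp2 A s) : Subgroup G where
  carrier := {a | a ∈ A ∧ a * a = 1}
  one_mem' := ⟨one_mem A, one_mul 1⟩
  mul_mem' := fun {a b} ha hb => ⟨mul_mem ha.1 hb.1, by
    calc a * b * (a * b) = a * (b * a) * b := by group
      _ = a * (a * b) * b := by rw [h.comm b hb.1 a ha.1]
      _ = (a * a) * (b * b) := by group
      _ = 1 := by rw [ha.2, hb.2, one_mul]⟩
  inv_mem' := fun {a} ha => ⟨inv_mem ha.1, by rw [inv_eq_of_mul_eq_one_right ha.2]; exact ha.2⟩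

namespace Hyp2

variable [Finite G] {A : Subgroup G} {s : G} (h : Hyp2 A s)

include h

omit [Finite G] in
theorem mem_E {x : G} : x ∈ h.E ↔ x ∈ A ∧ x * x = 1 := Iff.rfl

omit [Finite G] in
theorem E_le : h.E ≤ h.H := fun _ hx => Or.inl hx.1

omit [Finite G] in
theorem inner_of_E {x : G} (hx : x ∈ h.E) (h1 : x ≠ 1) : IsInner A x := ⟨hx.1, hx.2, h1⟩

theorem isPGroup_E : IsPGroup 2 h.E := fun x =>
  ⟨1, Subtype.ext (by rw [pow_one, Subgroup.coe_pow, pow_two, x.2.2]; rfl)⟩

theorem four_le_E {e₁ e₂ : G} (h₁ : IsInner A e₁) (h₂ : IsInner A e₂) (hne : e₁ ≠ e₂) :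
    4 ≤ Nat.card h.E := by
  haveI := Fact.mk Nat.prime_two
  obtain ⟨n, hn⟩ := IsPGroup.iff_card.1 h.isPGroup_E
  have h3 : 2 < Nat.card h.E := by
    have : Function.Injective (![⟨1, one_mem _⟩, ⟨e₁, h₁.1, h₁.2.1⟩, ⟨e₂, h₂.1, h₂.2.1⟩] :
        Fin 3 → h.E) := by
      intro i j hij
      fin_cases i <;> fin_cases j <;>
        simp_all [Subtype.ext_iff, h₁.2.2, h₂.2.2, Ne.symm h₁.2.2, Ne.symm h₂.2.2, Ne.symm hne]
    have := Nat.card_le_card_of_injective _ this
    simp at this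
    omega
  rw [hn] at h3 ⊢
  rcases n with _ | _ | n
  · simp at h3
  · simp at h3
  · calc 4 = 2 ^ 2 := by norm_num
      _ ≤ 2 ^ (n + 2) := Nat.pow_le_pow_right two_pos (by omega)

theorem card_H : Nat.card h.H = 2 * Nat.card A := by
  have := (A.subgroupOf h.H).card_mul_index
  rw [Nat.card_congr (Subgroup.subgroupOfEquivOfLe h.A_le).toEquiv] at this
  rw [← this, ← Subgroup.relIndex, h.A_relIndex, mul_comm]

theorem E_comm_H {x g : G} (hx : x ∈ h.E) (hg : g ∈ h.H) : g * x = x * g := by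
  rcases eq_or_ne x 1 with rfl | h1
  · rw [mul_one, one_mul]
  · exact h.inner_comm (h.inner_of_E hx h1) hg

/-- The hypothesis is invariant under conjugation. -/
theorem conj (g : G) : Hyp2 (A.map (MulAut.conj g).toMonoidHom) (g * s * g⁻¹) := by
  have hm : ∀ x, x ∈ A.map (MulAut.conj g).toMonoidHom ↔ g⁻¹ * x * g ∈ A := by
    intro x
    constructor
    · rintro ⟨a, ha, rfl⟩
      simpa [mul_assoc] using ha
    · exact fun hx => ⟨_, hx, by simp [mul_assoc]⟩
  refine ⟨?_, ?_, ?_, ?_, ?_, ?_⟩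
  · rintro _ ⟨a, ha, rfl⟩ _ ⟨b, hb, rfl⟩
    rw [← map_mul, ← map_mul, h.comm a ha b hb]
  · rw [Subgroup.card_map_of_injective (MulAut.conj g).injective]
    exact h.two
  · calc g * s * g⁻¹ * (g * s * g⁻¹) = g * (s * s) * g⁻¹ := by group
      _ = 1 := by rw [h.ss]; group
  · rw [hm]
    intro hc
    exact h.sA (by simpa [mul_assoc] using hc)
  · rintro _ ⟨a, ha, rfl⟩
    simp only [MulEquiv.toMonoidHom_eq_coe, MonoidHom.coe_coe, MulAut.conj_apply]
    calc g * s * g⁻¹ * (g * a * g⁻¹) * (g * s * g⁻¹) = g * (s * a * s) * g⁻¹ := by group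
      _ = (g * a * g⁻¹)⁻¹ := by rw [h.inv a ha]; group
  · intro e he he2 he1 x hx
    rw [hm] at he
    have hi : IsInner A (g⁻¹ * e * g) := ⟨he, by
      calc g⁻¹ * e * g * (g⁻¹ * e * g) = g⁻¹ * (e * e) * g := by group
        _ = 1 := by rw [he2]; group, fun e0 => he1 (by
      calc e = g * (g⁻¹ * e * g) * g⁻¹ := by group
        _ = 1 := by rw [e0]; group)⟩
    rw [hm, hm]
    rcases h.mem_H_of_comm hi (g := g⁻¹ * x * g) (by
      calc g⁻¹ * x * g * (g⁻¹ * e * g) = g⁻¹ * (x * e) * g := by group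
        _ = g⁻¹ * (e * x) * g := by rw [hx]
        _ = _ := by group) with hA | hA
    · exact Or.inl hA
    · refine Or.inr ?_
      convert hA using 1
      group

/-- A Sylow 2-subgroup of `G` inside `H` containing `s`, given two involutions in `A`. -/
theorem exists_sylow {e₁ e₂ : G} (h₁ : IsInner A e₁) (h₂ : IsInner A e₂) (hne : e₁ ≠ e₂) :
    ∃ S : Sylow 2 G, (S : Subgroup G) ≤ h.H ∧ s ∈ (S : Subgroup G) ∧ h.E ≤ (S : Subgroup G) := by
  haveI := Fact.mk Nat.prime_two
  have hs2 : IsPGroup 2 (h.E ⊔ Subgroup.zpowers s : Subgroup G) := by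
    refine h.isPGroup_E.to_sup_of_normal_left' ?_ ?_
    · exact IsPGroup.of_card (n := 1) (by
        rw [Nat.card_zpowers, pow_one, orderOf_two h.ss h.s_ne])
    · refine Subgroup.zpowers_le.2 (Subgroup.centralizer_le_normalizer _ ?_)
      exact Subgroup.mem_centralizer_iff.2 fun x hx => (h.E_comm_H hx h.s_mem).symm
  have hle : h.E ⊔ Subgroup.zpowers s ≤ h.H := sup_le h.E_le (Subgroup.zpowers_le.2 h.s_mem)
  -- a Sylow subgroup of `H`
  obtain ⟨S0, hS0⟩ := (hs2.comap_subtype (K := h.H)).exists_le_sylow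
  set S1 := (S0 : Subgroup h.H).map h.H.subtype with hS1
  have hsub : h.E ⊔ Subgroup.zpowers s ≤ S1 := fun x hx => ⟨⟨x, hle hx⟩, hS0 hx, rfl⟩
  obtain ⟨P, hP⟩ := (S0.isPGroup'.map h.H.subtype).exists_le_sylow
  refine ⟨P, ?_, hP (hsub (Subgroup.mem_sup_right (Subgroup.mem_zpowers s))),
    fun x hx => hP (hsub (Subgroup.mem_sup_left hx))⟩
  have hPH : ∀ x ∈ (P : Subgroup G), x ∈ h.H → x ∈ S1 := by
    intro x hx hxH
    have : (P : Subgroup G).comap h.H.subtype = (S0 : Subgroup h.H) := by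
      refine S0.3 (P.isPGroup'.comap_subtype) ?_
      exact fun y hy => hP ⟨y, hy, rfl⟩
    exact ⟨⟨x, hxH⟩, by rw [← this]; exact hx, rfl⟩
  have hS1H : S1 ≤ h.H := Subgroup.map_subtype_le _
  haveI : Nontrivial (P : Subgroup G) := by
    refine Subgroup.nontrivial_iff_ne_bot _ |>.2 fun e => h.s_ne ?_
    have := hP (hsub (Subgroup.mem_sup_right (Subgroup.mem_zpowers s)))
    rwa [e, Subgroup.mem_bot] at this
  haveI := P.isPGroup'.center_nontrivial
  obtain ⟨z', hz'⟩ := exists_prime_orderOf_dvd_card' (G := Subgroup.center (P : Subgroup G)) 2 (by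
    obtain ⟨n, hn0, hn⟩ := (IsPGroup.nontrivial_iff_card (P.isPGroup'.to_subgroup _)).1
      (inferInstance : Nontrivial (Subgroup.center (P : Subgroup G)))
    rw [hn]; exact dvd_pow_self 2 hn0.ne')
  set z : G := ((z' : (P : Subgroup G)) : G) with hz
  have hzo : orderOf z = 2 := by rw [hz, Subgroup.orderOf_coe, Subgroup.orderOf_coe, hz']
  have hzP : z ∈ (P : Subgroup G) := (z' : (P : Subgroup G)).2
  have hzc : ∀ y ∈ (P : Subgroup G), y * z = z * y := fun y hy =>
    congrArg Subtype.val (Subgroup.mem_center_iff.1 z'.2 ⟨y, hy⟩)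
  have he₁P : e₁ ∈ (P : Subgroup G) := hP (hsub (Subgroup.mem_sup_left ⟨h₁.1, h₁.2.1⟩))
  have hzH : z ∈ h.H := h.mem_H_of_comm h₁ (hzc e₁ he₁P).symm
  by_cases hzA : z ∈ A
  · exact fun x hx => h.mem_H_of_comm
      ⟨hzA, mul_self_of_orderOf hzo, fun e => by rw [e, orderOf_one] at hzo; omega⟩ (hzc x hx)
  -- otherwise `S1` is elementary abelian
  have hzs : z * s ∈ A := (h.out_iff hzH).1 hzA
  have hsq : ∀ a ∈ S1, a * a = 1 := by
    intro a ha
    rcases hS1H ha with haA | has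
    · have e := h.out_conj hzs haA
      rw [← hzc a (hP ha), mul_inv_cancel_right] at e
      conv_lhs => arg 2; rw [e]
      exact mul_inv_cancel a
    · exact h.out_sq has
  have hcomm : ∀ a ∈ S1, ∀ b ∈ S1, a * b = b * a := by
    intro a ha b hb
    have e := hsq _ (mul_mem ha hb)
    calc a * b = (a * b) * (a * b * (a * b))⁻¹ := by rw [e, inv_one, mul_one]
      _ = (b⁻¹) * a⁻¹ := by group
      _ = b * a := by rw [inv_eq_of_mul_eq_one_right (hsq a ha), inv_eq_of_mul_eq_one_right (hsq b hb)]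
  intro x hx
  by_contra hxH
  -- the normaliser of `S1` in `P` grows
  have hlt : S1 < (P : Subgroup G) := lt_of_le_of_ne hP fun e => hxH (hS1H (e ▸ hx))
  haveI := P.isPGroup'.isNilpotent
  have hW : S1.subgroupOf (P : Subgroup G) < ⊤ := lt_top_iff_ne_top.2 fun e =>
    hlt.not_ge (Subgroup.subgroupOf_eq_top.1 e)
  set W := S1.subgroupOf (P : Subgroup G) with hWdef
  set NW := Subgroup.normalizer (W : Set (P : Subgroup G)) with hNW
  haveI : (W.subgroupOf NW).Normal := Subgroup.normal_subgroupOf_of_le_normalizer le_rfl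
  have hNlt : W < NW := Group.normalizerCondition_of_isNilpotent W hW
  haveI : Nontrivial (NW ⧸ W.subgroupOf NW) := QuotientGroup.nontrivial_iff.2 fun e =>
    hNlt.not_ge (Subgroup.subgroupOf_eq_top.1 e)
  have hq : IsPGroup 2 (NW ⧸ W.subgroupOf NW) := (P.isPGroup'.to_subgroup _).to_quotient _
  obtain ⟨c, hc⟩ := exists_prime_orderOf_dvd_card' (G := NW ⧸ W.subgroupOf NW) 2 (by
    obtain ⟨n, hn0, hn⟩ := (IsPGroup.nontrivial_iff_card hq).1 inferInstance
    rw [hn]; exact dvd_pow_self 2 hn0.ne')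
  obtain ⟨g', rfl⟩ := QuotientGroup.mk_surjective c
  set g : G := ((g' : (P : Subgroup G)) : G) with hg
  have hgS : g ∉ S1 := fun hm => by
    rw [(QuotientGroup.eq_one_iff g').2 hm, orderOf_one] at hc; omega
  have hgg : g * g ∈ S1 := by
    have := pow_orderOf_eq_one (QuotientGroup.mk g' : NW ⧸ W.subgroupOf NW)
    rw [hc, pow_two, ← QuotientGroup.mk_mul, QuotientGroup.eq_one_iff] at this
    exact this
  have hgn : ∀ a ∈ S1, g * a * g⁻¹ ∈ S1 := fun a ha =>
    (Subgroup.mem_normalizer_iff.1 g'.2 ⟨a, hP ha⟩).1 ha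
  haveI : IsMulCommutative S1 := .of_setLike_mul_comm hcomm
  -- the map `a ↦ g a g⁻¹ a`
  let f : S1 →* S1 := MonoidHom.mk' (fun a => ⟨g * a * g⁻¹ * a, mul_mem (hgn a a.2) a.2⟩) fun a b =>
    Subtype.ext (by
      show g * ((a : G) * b) * g⁻¹ * (a * b) = g * a * g⁻¹ * a * (g * b * g⁻¹ * b)
      calc g * ((a : G) * b) * g⁻¹ * (a * b) = g * a * g⁻¹ * ((g * b * g⁻¹) * a) * b := by group
        _ = g * a * g⁻¹ * (a * (g * b * g⁻¹)) * b := by rw [hcomm _ (hgn b b.2) a a.2]
        _ = _ := by group)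
  have hker : ∀ a : S1, a ∈ f.ker ↔ g * a = (a : G) * g := by
    intro a
    rw [MonoidHom.mem_ker, Subtype.ext_iff]
    show g * (a : G) * g⁻¹ * a = 1 ↔ _
    rw [mul_eq_one_iff_eq_inv, inv_eq_of_mul_eq_one_right (hsq a a.2), mul_inv_eq_iff_eq_mul]
  have hrange : f.range ≤ f.ker := by
    rintro _ ⟨a, rfl⟩
    rw [hker]
    show g * (g * (a : G) * g⁻¹ * a) = g * a * g⁻¹ * a * g
    have e : g * g * (a : G) = a * (g * g) := hcomm _ hgg a a.2
    calc g * (g * (a : G) * g⁻¹ * a) = (g * g * a) * g⁻¹ * a := by group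
      _ = (a : G) * (g * a) := by rw [e]; group
      _ = ((a : G) * (g * a * g⁻¹)) * g := by group
      _ = _ := by rw [hcomm a a.2 _ (hgn a a.2)]
  have hcard : 8 ≤ Nat.card S1 := by
    have h4 := h.four_le_E h₁ h₂ hne
    have hlt' : h.E < h.E ⊔ Subgroup.zpowers s := lt_of_le_of_ne le_sup_left fun e => h.sA
      (h.mem_E.1 (e.symm ▸ Subgroup.mem_sup_right (Subgroup.mem_zpowers s))).1
    have hEd := Subgroup.card_dvd_of_le hlt'.le
    have hne' : Nat.card h.E ≠ Nat.card (h.E ⊔ Subgroup.zpowers s : Subgroup G) := fun e =>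
      hlt'.ne (Subgroup.eq_of_le_of_card_ge hlt'.le e.ge)
    obtain ⟨k, hk⟩ := hEd
    have hk1 : k ≠ 1 := fun e => hne' (by rw [hk, e, mul_one])
    have hk0 : k ≠ 0 := fun e => by
      rw [e, mul_zero] at hk; exact absurd hk Nat.card_pos.ne'
    have := Nat.le_of_dvd Nat.card_pos (Subgroup.card_dvd_of_le hsub)
    have h2 : Nat.card h.E * 2 ≤ Nat.card h.E * k := Nat.mul_le_mul_left _ (by omega)
    omega
  have hker4 : 4 ≤ Nat.card f.ker := by
    have e := f.ker.card_mul_index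
    rw [Subgroup.index_ker] at e
    have hr := Subgroup.card_dvd_of_le hrange
    obtain ⟨n, hn⟩ := IsPGroup.iff_card.1 ((S0.isPGroup'.map h.H.subtype).to_subgroup f.ker)
    rcases n with _ | _ | n
    · rw [hn] at e hr
      have := Nat.le_of_dvd (by norm_num) hr
      simp at e this
      omega
    · rw [hn] at e hr
      have := Nat.le_of_dvd (by norm_num) hr
      simp at e this
      omega
    · rw [hn]
      calc 4 = 2 ^ 2 := by norm_num
        _ ≤ 2 ^ (n + 2) := Nat.pow_le_pow_right two_pos (by omega)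
  -- the kernel meets `A`
  obtain ⟨a, ha, haA, ha1⟩ : ∃ a : S1, g * a = (a : G) * g ∧ (a : G) ∈ A ∧ (a : G) ≠ 1 := by
    classical
    by_contra hno
    push Not at hno
    have hinj : Function.Injective (fun a : f.ker => decide ((a : S1) = 1)) := by
      intro a b hab
      simp only [decide_eq_decide] at hab
      by_cases ha1 : (a : S1) = 1
      · exact Subtype.ext (ha1.trans (hab.1 ha1).symm)
      · have hb1 : (b : S1) ≠ 1 := fun e => ha1 (hab.2 e)
        have haA : ((a : S1) : G) ∉ A := fun hh => ha1 (Subtype.ext (hno a ((hker a).1 a.2) hh))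
        have hbA : ((b : S1) : G) ∉ A := fun hh => hb1 (Subtype.ext (hno b ((hker b).1 b.2) hh))
        have hab' : (((a * b : f.ker) : S1) : G) ∈ A :=
          h.mul_out ((h.out_iff (hS1H (a : S1).2)).1 haA) ((h.out_iff (hS1H (b : S1).2)).1 hbA)
        have e : ((a : S1) : G) * ((b : S1) : G) = 1 := hno _ ((hker _).1 (a * b).2) hab'
        refine Subtype.ext (Subtype.ext ?_)
        rw [eq_inv_of_mul_eq_one_left e, inv_eq_of_mul_eq_one_right (hsq _ (b : S1).2)]
    have := Nat.card_le_card_of_injective _ hinj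
    have h2 : Nat.card Bool = 2 := by simp
    omega
  exact hgS (hPH g (g' : (P : Subgroup G)).2
    (h.mem_H_of_comm ⟨haA, hsq _ a.2, ha1⟩ ha))

end Hyp2

end Cfsg.Agent.DGroup
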