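import Mathlib.GroupTheory.Perm.Sign
import Mathlib.GroupTheory.Perm.ViaEmbedding
import Mathlib.GroupTheory.GroupAction.Quotient
import Mathlib.GroupTheory.Index
import Mathlib.GroupTheory.OrderOfElement

/-!
# Groups with one class of involutions and a subgroup of index at most five
-/

set_option autoImplicit false
set_option linter.unusedSectionVars false
set_option linter.style.haveILetI false

namespace Cfsg.Agent.DGroup

open Equiv

set_option maxRecDepth 100000 in
theorem perm_five_key : ∀ z : Perm (Fin 5), z * z = 1 → Perm.sign z = 1 → z ≠ 1 →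
    ∀ y : Perm (Fin 5), z * y = y * z → y ^ 15 = 1 → y = 1 := by
  decide +kernel

/-- In a group acting faithfully on at most five points, an odd element centralising an involution
of a one-class four-group is trivial. -/
theorem false_of_index_le_five {G : Type*} [Group G] [Finite G] {K : Subgroup G} (hK : K.index ≤ 5)
    (hcore : K.normalCore = ⊥) {z v y : G} (hz : z * z = 1) (hz1 : z ≠ 1) (h1 : IsConj z v)
    (h2 : IsConj z (z * v)) (hy : Odd (orderOf y)) (hy1 : y ≠ 1) (hc : z * y = y * z) : False := by
  classical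
  haveI := Fintype.ofFinite (G ⧸ K)
  have hn : Fintype.card (G ⧸ K) ≤ 5 := by
    rwa [← Nat.card_eq_fintype_card, ← Subgroup.index_eq_card]
  set ι : G ⧸ K ↪ Fin 5 := (Fintype.equivFin (G ⧸ K)).toEmbedding.trans (Fin.castLEEmb hn)
  set φ : G →* Perm (Fin 5) :=
    (Perm.viaEmbeddingHom ι).comp (MulAction.toPermHom G (G ⧸ K)) with hφ
  have hinj : Function.Injective φ := by
    refine (Perm.viaEmbeddingHom_injective ι).comp ((MonoidHom.ker_eq_bot_iff _).1 ?_)
    rw [← Subgroup.normalCore_eq_ker, hcore]
  set σ := (Perm.sign).comp φ with hσ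
  have hconj : ∀ a b : G, IsConj a b → σ a = σ b := fun a b h =>
    isConj_iff_eq.1 (σ.map_isConj h)
  have hsign : σ z = 1 := by
    have e := hconj _ _ h2
    rw [map_mul, ← hconj _ _ h1] at e
    conv_rhs at e => rw [← map_mul, hz, map_one]
    exact e
  have h15 : φ y ^ 15 = 1 := by
    refine orderOf_dvd_iff_pow_eq_one.1 ?_
    have hd : orderOf (φ y) ∣ 120 := by
      have := orderOf_dvd_natCard (φ y)
      rwa [Nat.card_eq_fintype_card, Fintype.card_perm, Fintype.card_fin] at this
    have ho : Odd (orderOf (φ y)) := hy.of_dvd_nat (orderOf_map_dvd φ y)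
    have hco : Nat.Coprime (orderOf (φ y)) 8 :=
      (Nat.Coprime.pow_right 3 ((Nat.coprime_two_right).2 ho) : Nat.Coprime _ (2 ^ 3))
    exact hco.dvd_of_dvd_mul_left (show orderOf (φ y) ∣ 8 * 15 from hd)
  have hzy : φ z * φ y = φ y * φ z := by rw [← map_mul, hc, map_mul]
  have hzz : φ z * φ z = 1 := by rw [← map_mul, hz, map_one]
  have hzne : φ z ≠ 1 := fun e => hz1 (hinj (e.trans (map_one φ).symm))
  have hone := perm_five_key (φ z) hzz hsign hzne (φ y) hzy h15
  exact hy1 (hinj (hone.trans (map_one φ).symm))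

end Cfsg.Agent.DGroup
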