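import Cfsg.Agent.Lib.Solvable.Coprime

/-!
# A four-group acting without fixed points on a group of odd order

The elements `u, v, w` are the non-trivial elements of the four-group; the axes are the
fixed point subgroups of `u`, `v`, `w`.
-/

set_option autoImplicit false
set_option linter.unusedSectionVars false

namespace Cfsg.Agent.DGroup

variable {G : Type*} [Group G]

/-- `u, v, w` are the non-trivial elements of a four-group (possibly degenerate). -/
structure Four (u v w : G) : Prop where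
  uu : u * u = 1
  vv : v * v = 1
  comm : u * v = v * u
  uv : u * v = w

namespace Four

variable {u v w : G} (h : Four u v w)

include h

theorem ww : w * w = 1 := by
  rw [← h.uv]
  calc u * v * (u * v) = u * (v * u) * v := by group
    _ = u * (u * v) * v := by rw [h.comm]
    _ = (u * u) * (v * v) := by group
    _ = 1 := by rw [h.uu, h.vv, one_mul]

theorem u_inv : u⁻¹ = u := inv_eq_of_mul_eq_one_right h.uu
theorem v_inv : v⁻¹ = v := inv_eq_of_mul_eq_one_right h.vv
theorem w_inv : w⁻¹ = w := inv_eq_of_mul_eq_one_right h.ww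

theorem swap : Four v u w := ⟨h.vv, h.uu, h.comm.symm, h.comm.symm.trans h.uv⟩

theorem vw : v * w = u := by
  rw [← h.uv, h.comm, ← mul_assoc, h.vv, one_mul]

theorem wv : w * v = u := by
  rw [← h.uv, mul_assoc, h.vv, mul_one]

theorem rot : Four v w u := ⟨h.vv, h.ww, h.vw.trans h.wv.symm, h.vw⟩

theorem conj_mul {x : G} : w * x * w = u * (v * x * v) * u := by
  have e : w = v * u := h.comm ▸ h.uv.symm
  calc w * x * w = (u * v) * x * (v * u) := by rw [h.uv, ← e]
    _ = u * (v * x * v) * u := by group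

end Four

/-- A four-group acting without fixed points on the subgroup `X` of odd order. -/
structure Fpf (u v w : G) (X : Subgroup G) : Prop extends Four u v w where
  odd : Odd (Nat.card X)
  memu : ∀ x ∈ X, u * x * u ∈ X
  memv : ∀ x ∈ X, v * x * v ∈ X
  triv : ∀ x ∈ X, u * x = x * u → v * x = x * v → x = 1

/-- The fixed points of `u` in `X`. -/
def ax (X : Subgroup G) (u : G) : Subgroup G := X ⊓ Subgroup.centralizer ({u} : Set G)

theorem mem_ax {X : Subgroup G} {u x : G} : x ∈ ax X u ↔ x ∈ X ∧ u * x = x * u := by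
  rw [ax, Subgroup.mem_inf, Subgroup.mem_centralizer_singleton_iff, eq_comm (a := x * u)]

theorem ax_le (X : Subgroup G) (u : G) : ax X u ≤ X := inf_le_left

theorem ax_mono {X Y : Subgroup G} (hXY : X ≤ Y) (u : G) : ax X u ≤ ax Y u :=
  inf_le_inf_right _ hXY

theorem ax_eq_of_le {X Y : Subgroup G} (hXY : X ≤ Y) (u : G) : ax X u = X ⊓ ax Y u := by
  rw [ax, ax, ← inf_assoc, inf_eq_left.2 hXY]

theorem invol_conj_eq_iff {u x : G} (hu : u * u = 1) : u * x * u = x ↔ u * x = x * u := by
  constructor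
  · intro e
    calc u * x = u * x * (u * u) := by rw [hu, mul_one]
      _ = (u * x * u) * u := by group
      _ = x * u := by rw [e]
  · intro e
    rw [e, mul_assoc, hu, mul_one]

theorem mem_ax' {X : Subgroup G} {u x : G} (hu : u * u = 1) :
    x ∈ ax X u ↔ x ∈ X ∧ u * x * u = x := by
  rw [mem_ax, invol_conj_eq_iff hu]

/-- Conjugation by an involution. -/
theorem invol_conj_mul {u : G} (hu : u * u = 1) (x y : G) :
    u * (x * y) * u = (u * x * u) * (u * y * u) :=
  calc u * (x * y) * u = u * x * 1 * y * u := by group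
    _ = u * x * (u * u) * y * u := by rw [hu]
    _ = (u * x * u) * (u * y * u) := by group

theorem invol_conj_inv {u : G} (hu : u * u = 1) (x : G) : u * x⁻¹ * u = (u * x * u)⁻¹ := by
  have := inv_eq_of_mul_eq_one_right hu
  rw [mul_inv_rev, mul_inv_rev, this, mul_assoc]

theorem invol_conj_conj {u : G} (hu : u * u = 1) (x : G) : u * (u * x * u) * u = x :=
  calc u * (u * x * u) * u = (u * u) * x * (u * u) := by group
    _ = x := by rw [hu, one_mul, mul_one]

theorem invol_conj_pow {u : G} (hu : u * u = 1) (x : G) (k : ℕ) :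
    u * x ^ k * u = (u * x * u) ^ k := by
  induction k with
  | zero => simp [hu]
  | succ k ih => rw [pow_succ, pow_succ, invol_conj_mul hu, ih]

theorem invol_conj_eq_one {u x : G} (hu : u * u = 1) (h : u * x * u = 1) : x = 1 := by
  have := congrArg (fun y => u * y * u) h
  simpa [invol_conj_conj hu, hu] using this

/-- The square root in a group of odd order. -/
noncomputable def rt (X : Subgroup G) (x : G) : G := x ^ ((Nat.card X + 1) / 2)

theorem rt_mem {X : Subgroup G} {x : G} (hx : x ∈ X) : rt X x ∈ X := pow_mem hx _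

theorem invol_conj_rt {u : G} (hu : u * u = 1) (X : Subgroup G) (x : G) :
    u * rt X x * u = rt X (u * x * u) := invol_conj_pow hu x _

theorem rt_inv (X : Subgroup G) (x : G) : rt X x⁻¹ = (rt X x)⁻¹ := inv_pow _ _

variable [Finite G]

theorem rt_sq {X : Subgroup G} (ho : Odd (Nat.card X)) {x : G} (hx : x ∈ X) :
    rt X x * rt X x = x := by
  obtain ⟨k, hk⟩ := ho
  have h1 : x ^ Nat.card X = 1 := by
    exact congrArg Subtype.val (pow_card_eq_one' (x := (⟨x, hx⟩ : X)))
  rw [rt, ← pow_add, hk, show (2 * k + 1 + 1) / 2 + (2 * k + 1 + 1) / 2 = (2 * k + 1) + 1 by omega,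
    pow_succ, ← hk, h1, one_mul]

theorem sq_injective {X : Subgroup G} (ho : Odd (Nat.card X)) {x y : G} (hx : x ∈ X) (hy : y ∈ X)
    (h : x * x = y * y) : x = y := by
  have h' : (⟨x, hx⟩ : X) ^ 2 = (⟨y, hy⟩ : X) ^ 2 := Subtype.ext (by simpa [sq] using h)
  have := (powCoprime (G := X) (n := 2) (Nat.coprime_two_right.2 ho)).injective
    (by simpa only [powCoprime_apply] using h')
  exact congrArg Subtype.val this

theorem eq_one_of_sq {X : Subgroup G} (ho : Odd (Nat.card X)) {x : G} (hx : x ∈ X)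
    (h : x * x = 1) : x = 1 :=
  sq_injective ho hx (one_mem X) (by rw [h, one_mul])

theorem sq_mem_iff {Y : Subgroup G} {X : Subgroup G} (ho : Odd (Nat.card X)) {x : G} (hx : x ∈ X) :
    x * x ∈ Y ↔ x ∈ Y := by
  refine ⟨fun h => ?_, fun h => mul_mem h h⟩
  have e : rt X (x * x) = x :=
    sq_injective ho (rt_mem (mul_mem hx hx)) hx (rt_sq ho (mul_mem hx hx))
  rw [← e]
  exact pow_mem h _

namespace Fpf

variable {u v w : G} {X : Subgroup G} (h : Fpf u v w X)

include h

theorem memw {x : G} (hx : x ∈ X) : w * x * w ∈ X := by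
  rw [h.toFour.conj_mul]; exact h.memu _ (h.memv _ hx)

omit [Finite G] in
theorem swap : Fpf v u w X :=
  ⟨h.toFour.swap, h.odd, h.memv, h.memu, fun x hx a b => h.triv x hx b a⟩

theorem rot : Fpf v w u X where
  toFour := h.toFour.rot
  odd := h.odd
  memu := h.memv
  memv := fun _ hx => h.memw hx
  triv := fun x hx a b => h.triv x hx (by
    rw [← h.toFour.vw, mul_assoc, b, ← mul_assoc, a, mul_assoc]) a

theorem swap' : Fpf u w v X := h.swap.rot

/-- An element fixed by `u` is inverted by `v`. -/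
theorem inverts {c : G} (hc : c ∈ ax X u) : v * c * v = c⁻¹ := by
  classical
  have hu := h.toFour.uu
  have hv := h.toFour.vv
  let f : ax X u → ax X u := fun c => ⟨(c : G)⁻¹ * (v * c * v), by
    obtain ⟨hcX, hcu⟩ := (mem_ax' hu).1 c.2
    refine (mem_ax' hu).2 ⟨mul_mem (inv_mem hcX) (h.memv _ hcX), ?_⟩
    rw [invol_conj_mul hu, invol_conj_inv hu, hcu]
    congr 1
    calc u * (v * (c : G) * v) * u = (u * v) * c * (v * u) := by group
      _ = (v * u) * c * (u * v) := by rw [h.toFour.comm]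
      _ = v * (u * c * u) * v := by group
      _ = v * c * v := by rw [hcu]⟩
  have hinj : Function.Injective f := by
    intro a b hab
    have e : (a : G)⁻¹ * (v * a * v) = (b : G)⁻¹ * (v * b * v) := congrArg Subtype.val hab
    obtain ⟨haX, hau⟩ := mem_ax.1 a.2
    obtain ⟨hbX, hbu⟩ := mem_ax.1 b.2
    have e2 : v * ((b : G) * (a : G)⁻¹) * v = (b : G) * (a : G)⁻¹ := by
      rw [invol_conj_mul hv, invol_conj_inv hv]
      calc (v * (b : G) * v) * (v * (a : G) * v)⁻¹
          = (b : G) * ((b : G)⁻¹ * (v * b * v)) * ((a : G)⁻¹ * (v * a * v))⁻¹ * (a : G)⁻¹ := by group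
        _ = (b : G) * (a : G)⁻¹ := by rw [e, mul_inv_cancel_right]
    have e3 : Commute u ((b : G) * (a : G)⁻¹) :=
      (show Commute u b from hbu).mul_right (show Commute u a from hau).inv_right
    exact Subtype.ext (mul_inv_eq_one.1
      (h.triv _ (mul_mem hbX (inv_mem haX)) e3 ((invol_conj_eq_iff hv).1 e2))).symm
  obtain ⟨d, hd⟩ := (Finite.injective_iff_surjective.1 hinj) ⟨c, hc⟩
  have e : (d : G)⁻¹ * (v * d * v) = c := congrArg Subtype.val hd
  rw [← e, invol_conj_mul hv, invol_conj_conj hv, invol_conj_inv hv]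
  group

theorem inverts' {c : G} (hc : c ∈ ax X u) : w * c * w = c⁻¹ := by
  rw [h.toFour.conj_mul, h.inverts hc, invol_conj_inv h.toFour.uu, ((mem_ax' h.toFour.uu).1 hc).2]

theorem ax_comm {c d : G} (hc : c ∈ ax X u) (hd : d ∈ ax X u) : c * d = d * c := by
  have hv := h.toFour.vv
  have e := h.inverts (mul_mem hc hd)
  rw [invol_conj_mul hv, h.inverts hc, h.inverts hd, mul_inv_rev] at e
  have := congrArg (·⁻¹) e
  simpa using this.symm

theorem ax_isMulCommutative : IsMulCommutative (ax X u) :=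
  .of_setLike_mul_comm fun _ ha _ hb => h.ax_comm ha hb

/-- Every element is the product of a fixed element and an inverted element. -/
theorem exists_fixed_mul_inverted {x : G} (hx : x ∈ X) :
    ∃ c ∈ ax X w, ∃ i ∈ X, w * i * w = i⁻¹ ∧ x = c * i := by
  have hw := h.toFour.ww
  set d := x⁻¹ * (w * x * w) with hd
  have hdX : d ∈ X := mul_mem (inv_mem hx) (h.memw hx)
  have hdinv : w * d * w = d⁻¹ := by
    rw [hd, invol_conj_mul hw, invol_conj_inv hw, invol_conj_conj hw]; group
  have hiX : rt X d⁻¹ ∈ X := rt_mem (inv_mem hdX)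
  have hi2 := rt_sq h.odd (inv_mem hdX)
  set i := rt X d⁻¹ with hi
  have hinv : w * i * w = i⁻¹ := by
    rw [hi, invol_conj_rt hw, invol_conj_inv hw, hdinv, rt_inv, rt_inv]
  refine ⟨x * i⁻¹, (mem_ax' hw).2 ⟨mul_mem hx (inv_mem hiX), ?_⟩, i, hiX, hinv,
    (inv_mul_cancel_right x i).symm⟩
  rw [invol_conj_mul hw, invol_conj_inv hw, hinv, inv_inv]
  calc (w * x * w) * i = x * d * i := by rw [hd]; group
    _ = x * ((d⁻¹)⁻¹) * i := by rw [inv_inv]
    _ = x * (i * i)⁻¹ * i := by rw [hi2]
    _ = x * i⁻¹ := by group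

/-- An element inverted by `w` is `a * b * a`. -/
theorem exists_aba {i : G} (hi : i ∈ X) (hw : w * i * w = i⁻¹) :
    ∃ a ∈ ax X u, ∃ b ∈ ax X v, i = a * b * a := by
  have huu := h.toFour.uu
  have hvv := h.toFour.vv
  have hww := h.toFour.ww
  set m := v * i * v with hm
  have hmX : m ∈ X := h.memv _ hi
  set s := rt X m with hs
  have hsX : s ∈ X := rt_mem hmX
  have hs2 : s * s = m := rt_sq h.odd hmX
  set t := rt X (s * i * s) with ht
  have htX : t ∈ X := rt_mem (mul_mem (mul_mem hsX hi) hsX)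
  have ht2 : t * t = s * i * s := rt_sq h.odd (mul_mem (mul_mem hsX hi) hsX)
  set y := s⁻¹ * t * s⁻¹ with hy
  have hyX : y ∈ X := mul_mem (mul_mem (inv_mem hsX) htX) (inv_mem hsX)
  have hyeq : y * m * y = i := by
    calc y * m * y = y * (s * s) * y := by rw [hs2]
      _ = s⁻¹ * (t * t) * s⁻¹ := by rw [hy]; group
      _ = i := by rw [ht2]; group
  have huniq : ∀ z ∈ X, z * m * z = i → z = y := by
    intro z hz hzeq
    have e : (s * z * s) * (s * z * s) = t * t := by
      calc (s * z * s) * (s * z * s) = s * (z * (s * s) * z) * s := by group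
        _ = t * t := by rw [hs2, hzeq, ht2]
    rw [hy, ← sq_injective h.odd (mul_mem (mul_mem hsX hz) hsX) htX e]
    group
  have hvm : v * m * v = i := invol_conj_conj hvv i
  have hui : u * i * u = m⁻¹ := by
    rw [h.toFour.rot.conj_mul, hw, invol_conj_inv hvv]
  have hum : u * m * u = i⁻¹ := by
    rw [← inv_inv m, ← hui, invol_conj_inv huu, invol_conj_conj huu]
  have hwm : w * m * w = m⁻¹ := by
    rw [h.toFour.conj_mul, hvm, hui]
  have huy : u * y * u = y := by
    refine huniq _ (h.memu _ hyX) ?_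
    have e := congrArg (fun g => u * g * u) hyeq
    simp only [invol_conj_mul huu, hum, hui] at e
    have e2 := congrArg (·⁻¹) e
    simp only [mul_inv_rev, inv_inv] at e2
    rw [← e2]
    group
  have hwy : w * y * w = y⁻¹ := by
    have e := congrArg (fun g => w * g * w) hyeq
    simp only [invol_conj_mul hww, hwm, hw] at e
    rw [← inv_inv (w * y * w), huniq (w * y * w)⁻¹ (inv_mem (h.memw hyX)) (by
      have e2 := congrArg (·⁻¹) e
      simp only [mul_inv_rev, inv_inv] at e2
      rw [← e2]; group)]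
  set a := rt X y with ha
  have haX : a ∈ X := rt_mem hyX
  have hau : u * a * u = a := by rw [ha, invol_conj_rt huu, huy]
  have hwa : w * a * w = a⁻¹ := by rw [ha, invol_conj_rt hww, hwy, rt_inv]
  have hva : v * a * v = a⁻¹ := by
    rw [h.toFour.swap.rot.conj_mul (x := a), hwa, invol_conj_inv huu, hau]
  have haa : a * a = y := rt_sq h.odd hyX
  refine ⟨a, (mem_ax' huu).2 ⟨haX, hau⟩, a⁻¹ * i * a⁻¹,
    (mem_ax' hvv).2 ⟨mul_mem (mul_mem (inv_mem haX) hi) (inv_mem haX), ?_⟩, by group⟩
  rw [invol_conj_mul hvv, invol_conj_mul hvv, invol_conj_inv hvv, hva, inv_inv, ← hm]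
  calc a * m * a = a⁻¹ * (y * m * y) * a⁻¹ := by rw [← haa]; group
    _ = a⁻¹ * i * a⁻¹ := by rw [hyeq]

/-- Every element is `c * (a * b * a)`. -/
theorem exists_caba {x : G} (hx : x ∈ X) :
    ∃ c ∈ ax X w, ∃ a ∈ ax X u, ∃ b ∈ ax X v, x = c * (a * b * a) := by
  obtain ⟨c, hc, i, hi, hiw, rfl⟩ := h.exists_fixed_mul_inverted hx
  obtain ⟨a, ha, b, hb, rfl⟩ := h.exists_aba hi hiw
  exact ⟨c, hc, a, ha, b, hb, rfl⟩

/-- `X` is generated by its axes. -/
theorem le_of_axes {Y : Subgroup G} (hu : ax X u ≤ Y) (hv : ax X v ≤ Y) (hw : ax X w ≤ Y) :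
    X ≤ Y := by
  intro x hx
  obtain ⟨c, hc, a, ha, b, hb, rfl⟩ := h.exists_caba hx
  exact mul_mem (hw hc) (mul_mem (mul_mem (hu ha) (hv hb)) (hu ha))

theorem conj_aba_eq {a b : G} (ha : a ∈ ax X u) (hb : b ∈ ax X v) :
    u * (a * b * a) * u = a * b⁻¹ * a ∧ w * (a * b * a) * w = (a * b * a)⁻¹ := by
  refine ⟨?_, ?_⟩
  · rw [invol_conj_mul h.toFour.uu, invol_conj_mul h.toFour.uu, h.swap.inverts hb,
      ((mem_ax' h.toFour.uu).1 ha).2]
  · rw [invol_conj_mul h.toFour.ww, invol_conj_mul h.toFour.ww, h.inverts' ha,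
      h.swap.inverts' hb]
    group

/-- `|X| = |C_X(u)| |C_X(v)| |C_X(w)|`. -/
theorem card_eq : Nat.card X = Nat.card (ax X u) * Nat.card (ax X v) * Nat.card (ax X w) := by
  classical
  let f : ax X w × (ax X u × ax X v) → X := fun p =>
    ⟨(p.1 : G) * ((p.2.1 : G) * (p.2.2 : G) * (p.2.1 : G)),
      mul_mem (ax_le _ _ p.1.2)
        (mul_mem (mul_mem (ax_le _ _ p.2.1.2) (ax_le _ _ p.2.2.2)) (ax_le _ _ p.2.1.2))⟩
  have hbij : Function.Bijective f := by
    refine ⟨?_, fun x => ?_⟩
    · rintro ⟨c, a, b⟩ ⟨c', a', b'⟩ e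
      have e1 : (c : G) * ((a : G) * b * a) = (c' : G) * ((a' : G) * b' * a') :=
        congrArg Subtype.val e
      have hwi := (h.conj_aba_eq a.2 b.2).2
      have hwi' := (h.conj_aba_eq a'.2 b'.2).2
      have hwc := ((mem_ax' h.toFour.ww).1 c.2).2
      have hwc' := ((mem_ax' h.toFour.ww).1 c'.2).2
      have e2 : (c : G) * ((a : G) * b * a)⁻¹ = (c' : G) * ((a' : G) * b' * a')⁻¹ := by
        have e3 := congrArg (fun g => w * g * w) e1
        rw [invol_conj_mul h.toFour.ww (c : G), invol_conj_mul h.toFour.ww (c' : G), hwc, hwc', hwi,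
          hwi'] at e3
        exact e3
      have hm1 : (a : G) * b * a ∈ X :=
        mul_mem (mul_mem (ax_le _ _ a.2) (ax_le _ _ b.2)) (ax_le _ _ a.2)
      have hm2 : (a' : G) * b' * a' ∈ X :=
        mul_mem (mul_mem (ax_le _ _ a'.2) (ax_le _ _ b'.2)) (ax_le _ _ a'.2)
      have e4 : (a : G) * b * a = (a' : G) * b' * a' := by
        refine sq_injective h.odd hm1 hm2 ?_
        calc ((a : G) * b * a) * ((a : G) * b * a)
            = ((c : G) * ((a : G) * b * a)⁻¹)⁻¹ * ((c : G) * ((a : G) * b * a)) := by group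
          _ = ((c' : G) * ((a' : G) * b' * a')⁻¹)⁻¹ * ((c' : G) * ((a' : G) * b' * a')) := by rw [e2, e1]
          _ = _ := by group
      have ec : c = c' := Subtype.ext (by rw [e4] at e1; exact mul_right_cancel e1)
      have e5 : (a : G) * (b : G)⁻¹ * a = (a' : G) * (b' : G)⁻¹ * a' := by
        rw [← (h.conj_aba_eq a.2 b.2).1, ← (h.conj_aba_eq a'.2 b'.2).1, e4]
      have e6 : (a : G) * (b * b) * (a : G)⁻¹ = (a' : G) * (b' * b') * (a' : G)⁻¹ := by
        calc (a : G) * (b * b) * (a : G)⁻¹ = ((a : G) * b * a) * (a * (b : G)⁻¹ * a)⁻¹ := by group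
          _ = ((a' : G) * b' * a') * (a' * (b' : G)⁻¹ * a')⁻¹ := by rw [e4, e5]
          _ = _ := by group
      set z := (a' : G)⁻¹ * a with hz
      have hzu : z ∈ ax X u := mul_mem (inv_mem a'.2) a.2
      have hbX := ax_le _ _ b.2
      have e7 : z * (b * b) * z⁻¹ = (b' : G) * b' := by
        calc z * ((b : G) * b) * z⁻¹ = (a' : G)⁻¹ * ((a : G) * (b * b) * (a : G)⁻¹) * a' := by
              rw [hz]; group
          _ = _ := by rw [e6]; group
      have e8 : z⁻¹ * (b * b) * z = (b' : G) * b' := by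
        have e := congrArg (fun g => v * g * v) e7
        simp only [invol_conj_mul h.toFour.vv, invol_conj_inv h.toFour.vv, h.inverts hzu,
          ((mem_ax' h.toFour.vv).1 b.2).2, ((mem_ax' h.toFour.vv).1 b'.2).2, inv_inv] at e
        exact e
      have hcz : Commute (z * z) ((b : G) * b) := by
        show (z * z) * ((b : G) * b) = ((b : G) * b) * (z * z)
        calc (z * z) * ((b : G) * b) = z * (z * (b * b) * z⁻¹) * z := by group
          _ = z * (z⁻¹ * (b * b) * z) * z := by rw [e7, e8]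
          _ = _ := by group
      have hzb : Commute z (b : G) := by
        have h1 : Commute z ((b : G) * b) := by
          have := hcz.pow_left ((Nat.card X + 1) / 2)
          rwa [show (z * z) ^ ((Nat.card X + 1) / 2) = z from sq_injective h.odd
            (pow_mem (mul_mem (ax_le _ _ hzu) (ax_le _ _ hzu)) _) (ax_le _ _ hzu)
            (rt_sq h.odd (mul_mem (ax_le _ _ hzu) (ax_le _ _ hzu)))] at this
        have := h1.pow_right ((Nat.card X + 1) / 2)
        rwa [show ((b : G) * b) ^ ((Nat.card X + 1) / 2) = b from sq_injective h.odd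
          (pow_mem (mul_mem hbX hbX) _) hbX (rt_sq h.odd (mul_mem hbX hbX))] at this
      have ebb : b = b' := Subtype.ext (sq_injective h.odd hbX (ax_le _ _ b'.2) (by
        rw [← e7, (hzb.mul_right hzb).eq, mul_inv_cancel_right]))
      have ez : z = 1 := by
        refine eq_one_of_sq h.odd (ax_le _ _ hzu) ?_
        have e : z * (b : G) * z = b := by
          calc z * (b : G) * z = (a' : G)⁻¹ * ((a : G) * b * a) * (a : G)⁻¹ * z := by rw [hz]; group
            _ = (b' : G) * a' * (a : G)⁻¹ * z := by rw [e4]; group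
            _ = b := by
                rw [hz, ← ebb, mul_assoc (b : G), h.ax_comm a'.2 (inv_mem a.2)]; group
        rw [hzb.eq, mul_assoc] at e
        exact mul_eq_left.1 e
      have eaa : a = a' := Subtype.ext (inv_mul_eq_one.1 ez).symm
      simp [ec, eaa, ebb]
    · obtain ⟨c, hc, a, ha, b, hb, e⟩ := h.exists_caba x.2
      exact ⟨⟨⟨c, hc⟩, ⟨a, ha⟩, ⟨b, hb⟩⟩, Subtype.ext e.symm⟩
  rw [← Nat.card_eq_of_bijective f hbij, Nat.card_prod, Nat.card_prod, mul_comm]

theorem mono {Y : Subgroup G} (hY : Y ≤ X) (hu : ∀ x ∈ Y, u * x * u ∈ Y)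
    (hv : ∀ x ∈ Y, v * x * v ∈ Y) : Fpf u v w Y :=
  ⟨h.toFour, h.odd.of_dvd_nat (Subgroup.card_dvd_of_le hY), hu, hv,
    fun x hx => h.triv x (hY hx)⟩

/-- An element of the axis of `u` normalising `W` and centralising its axis of `v` centralises
`W`, if the orders are coprime. -/
theorem centralises_of_axis {W : Subgroup G} (hWX : W ≤ X) (hu : ∀ x ∈ W, u * x * u ∈ W)
    (hv : ∀ x ∈ W, v * x * v ∈ W) {c : G} (hc : c ∈ ax X u)
    (hn : ∀ x ∈ W, c * x * c⁻¹ ∈ W) (hcv : ∀ x ∈ ax W v, c * x = x * c)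
    (hco : (orderOf c).Coprime (Nat.card W)) : ∀ x ∈ W, c * x = x * c := by
  classical
  have hW : Fpf u v w W := h.mono hWX hu hv
  have hww := h.toFour.ww
  set D : Subgroup G := W ⊓ Subgroup.centralizer ({c} : Set G) with hD
  have memD : ∀ x, x ∈ D ↔ x ∈ W ∧ x * c = c * x := fun x => by
    rw [hD, Subgroup.mem_inf, Subgroup.mem_centralizer_singleton_iff]
  have hDu : ax W u ≤ D := fun x hx => (memD x).2
    ⟨ax_le _ _ hx, h.ax_comm (ax_mono hWX u hx) hc⟩
  have hDv : ax W v ≤ D := fun x hx => (memD x).2 ⟨ax_le _ _ hx, (hcv x hx).symm⟩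
  have hwc : w * c * w = c⁻¹ := h.inverts' hc
  have hDw : ∀ d ∈ D, w * d * w ∈ D := by
    intro d hd
    obtain ⟨hdW, hdc⟩ := (memD d).1 hd
    refine (memD _).2 ⟨hW.memw hdW, ?_⟩
    have e := congrArg (fun g => w * g * w) hdc
    simp only [invol_conj_mul hww, hwc] at e
    have : Commute (w * d * w) c⁻¹ := e
    exact (Commute.inv_right_iff.1 this).eq
  -- every element is a member of `C_W(w) D`
  have hdec : ∀ x ∈ W, ∃ y ∈ ax W w, ∃ d ∈ D, x = y * d := by
    intro x hx
    obtain ⟨y, hy, a, ha, b, hb, rfl⟩ := hW.exists_caba hx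
    exact ⟨y, hy, a * b * a, mul_mem (mul_mem (hDu ha) (hDv hb)) (hDu ha), rfl⟩
  -- `w` fixes every coset
  have hfix : ∀ x ∈ W, x⁻¹ * (w * x * w) ∈ D := by
    intro x hx
    obtain ⟨y, hy, d, hd, rfl⟩ := hdec x hx
    rw [invol_conj_mul hww, ((mem_ax' hww).1 hy).2]
    have : (y * d)⁻¹ * (y * (w * d * w)) = d⁻¹ * (w * d * w) := by group
    rw [this]
    exact mul_mem (inv_mem hd) (hDw d hd)
  have hn' : ∀ x ∈ W, c⁻¹ * x * c ∈ W := by
    intro x hx
    have := hW.memw (hn _ (hW.memw hx))
    rw [invol_conj_mul hww, invol_conj_mul hww, invol_conj_inv hww, invol_conj_conj hww, hwc,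
      inv_inv] at this
    exact this
  have key : ∀ y ∈ ax W w, y⁻¹ * (c * y * c⁻¹) ∈ D := by
    intro y hy
    obtain ⟨hyW, hyw⟩ := (mem_ax' hww).1 hy
    have hcy := hn y hyW
    -- `c y c⁻¹` and `c⁻¹ y c` are in the same coset
    have h1 : (c * y * c⁻¹)⁻¹ * (c⁻¹ * y * c) ∈ D := by
      have := hfix _ hcy
      rwa [invol_conj_mul hww, invol_conj_mul hww, invol_conj_inv hww, hwc, hyw, inv_inv] at this
    obtain ⟨hW1, hD1⟩ := (memD _).1 h1
    -- so `y` and `c⁻² y c²` are
    have h2 : y⁻¹ * ((c * c)⁻¹ * y * (c * c)) ∈ D := by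
      have e : c⁻¹ * ((c * y * c⁻¹)⁻¹ * (c⁻¹ * y * c)) * c = y⁻¹ * ((c * c)⁻¹ * y * (c * c)) := by
        group
      rw [← e]
      rw [mul_assoc c⁻¹, hD1, inv_mul_cancel_left]
      exact h1
    obtain ⟨hW2, hD2⟩ := (memD _).1 h2
    -- `c²` moves `y` by an element it commutes with, of order dividing its own
    set g := (c * c)⁻¹ with hg
    set d := y⁻¹ * (g * y * (c * c)) with hd
    have hgd : Commute g d := by
      have : Commute d c := hD2
      exact ((this.mul_right this).inv_right).symm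
    have hstep : ∀ k : ℕ, g ^ k * y * (g ^ k)⁻¹ = y * d ^ k := by
      intro k
      induction k with
      | zero => simp
      | succ k ih =>
        calc g ^ (k + 1) * y * (g ^ (k + 1))⁻¹
            = g * (g ^ k * y * (g ^ k)⁻¹) * g⁻¹ := by rw [pow_succ']; group
          _ = (g * y * g⁻¹) * (g * d ^ k * g⁻¹) := by rw [ih]; group
          _ = (y * d) * d ^ k := by
              rw [(hgd.pow_right k).eq, mul_inv_cancel_right]
              rw [hd, mul_inv_cancel_left, hg, inv_inv]
          _ = y * d ^ (k + 1) := by rw [pow_succ' d k, mul_assoc]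
    have hdn : d ^ orderOf c = 1 := by
      have e := hstep (orderOf c)
      have hgn : g ^ orderOf c = 1 := by
        rw [hg, inv_pow, (Commute.refl c).mul_pow, pow_orderOf_eq_one, one_mul, inv_one]
      rw [hgn] at e
      simpa using e.symm
    have hd1 : d = 1 := by
      rw [← orderOf_eq_one_iff]
      exact Nat.eq_one_of_dvd_coprimes hco (orderOf_dvd_of_pow_eq_one hdn)
        ((Subgroup.orderOf_dvd_natCard W hW2))
    -- hence `c²`, and so `c`, commutes with `y`
    have hcomm : Commute (c * c) y := by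
      show c * c * y = y * (c * c)
      have e : g * y * (c * c) = y := by
        have := hd1
        rw [hd, inv_mul_eq_one] at this
        exact this.symm
      calc c * c * y = c * c * (g * y * (c * c)) := by rw [e]
        _ = y * (c * c) := by rw [hg]; group
    have hc2 : Commute c y := by
      have := hcomm.pow_left ((Nat.card X + 1) / 2)
      rwa [show (c * c) ^ ((Nat.card X + 1) / 2) = c from sq_injective h.odd
        (pow_mem (mul_mem (ax_le _ _ hc) (ax_le _ _ hc)) _) (ax_le _ _ hc)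
        (rt_sq h.odd (mul_mem (ax_le _ _ hc) (ax_le _ _ hc)))] at this
    rw [hc2.eq, mul_inv_cancel_right, inv_mul_cancel]
    exact one_mem D
  -- so every element of the axis of `w` is fixed
  have hfinal : ∀ y ∈ ax W w, y ∈ D := by
    intro y hy
    obtain ⟨hdW, hdc⟩ := (memD _).1 (key y hy)
    set d := y⁻¹ * (c * y * c⁻¹) with hd
    have hcd : Commute c d := hdc.symm
    have hstep : ∀ k : ℕ, c ^ k * y * (c ^ k)⁻¹ = y * d ^ k := by
      intro k
      induction k with
      | zero => simp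
      | succ k ih =>
        calc c ^ (k + 1) * y * (c ^ (k + 1))⁻¹
            = c * (c ^ k * y * (c ^ k)⁻¹) * c⁻¹ := by rw [pow_succ']; group
          _ = (c * y * c⁻¹) * (c * d ^ k * c⁻¹) := by rw [ih]; group
          _ = (y * d) * d ^ k := by
              rw [(hcd.pow_right k).eq, mul_inv_cancel_right, hd]; group
          _ = y * d ^ (k + 1) := by rw [pow_succ' d k, mul_assoc]
    have hdn : d ^ orderOf c = 1 := by
      have e := hstep (orderOf c)
      rw [pow_orderOf_eq_one] at e
      simpa using e.symm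
    have hd1 : d = 1 := by
      rw [← orderOf_eq_one_iff]
      exact Nat.eq_one_of_dvd_coprimes hco (orderOf_dvd_of_pow_eq_one hdn)
        (Subgroup.orderOf_dvd_natCard W hdW)
    refine (memD y).2 ⟨ax_le _ _ hy, ?_⟩
    rw [hd, inv_mul_eq_one] at hd1
    calc y * c = (c * y * c⁻¹) * c := by rw [← hd1]
      _ = c * y := by group
  intro x hx
  exact ((memD x).1 (hW.le_of_axes hDu hDv hfinal hx)).2.symm

end Fpf

end Cfsg.Agent.DGroup
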