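import Cfsg.Agent.Lib.DGroup.FourInv
import Cfsg.Agent.Lib.Solvable.NilpotentFrattini
import Cfsg.Agent.Lib.Solvable.MinimalNonNilpotent
import Cfsg.Agent.Lib.FiniteGroup.OpFpf.Ward

/-!
# A solvable group with a fixed point free four-group has nilpotent derived subgroup
-/

set_option autoImplicit false
set_option linter.unusedSectionVars false
set_option linter.style.haveILetI false

namespace Cfsg.Agent.DGroup

open Cfsg (fittingOf pCoreOf)
open Cfsg.Agent.OddOrder
open scoped commutatorElement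

variable {G : Type*} [Group G] [Finite G]

/-- Two commuting involutions give an action of the Klein group. -/
def kleinHom {M : Type*} [Monoid M] (U V : M) (hU : U * U = 1) (hV : V * V = 1)
    (hc : U * V = V * U) : Multiplicative (ZMod 2) × Multiplicative (ZMod 2) →* M where
  toFun a := (if a.1 = 1 then 1 else U) * (if a.2 = 1 then 1 else V)
  map_one' := by simp
  map_mul' := by
    have two : ∀ x : Multiplicative (ZMod 2), x = 1 ∨ x = Multiplicative.ofAdd 1 := by decide
    have hne : ¬ (Multiplicative.ofAdd (1 : ZMod 2) = 1) := by decide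
    have hsq : Multiplicative.ofAdd (1 : ZMod 2) * Multiplicative.ofAdd 1 = 1 := by decide
    have hmul : ∀ (T : M), T * T = 1 → ∀ a c : Multiplicative (ZMod 2),
        (if a * c = 1 then 1 else T) = (if a = 1 then 1 else T) * (if c = 1 then 1 else T) := by
      intro T hT a c
      rcases two a with rfl | rfl <;> rcases two c with rfl | rfl <;>
        simp only [one_mul, mul_one, hsq, hne, if_false, if_true, hT]
    intro p q
    have hcm : Commute (if p.2 = 1 then 1 else V) (if q.1 = 1 then 1 else U) := by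
      split_ifs
      · exact Commute.one_left _
      · exact Commute.one_left _
      · exact Commute.one_right _
      · exact hc.symm
    show (if p.1 * q.1 = 1 then 1 else U) * (if p.2 * q.2 = 1 then 1 else V) = _
    rw [hmul U hU, hmul V hV, hcm.mul_mul_mul_comm]

namespace Fpf

variable {u v w : G} {X : Subgroup G}

theorem derived_core (h : Fpf u v w X) {Q W : Subgroup G} (hQX : Q ≤ X) (hWX : W ≤ X)
    (hQi : Inv u v Q) (hWi : Inv u v W) [IsMulCommutative W]
    (hn : Q ≤ Subgroup.normalizer (W : Set G)) (hco : (Nat.card Q).Coprime (Nat.card W))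
    {c : G} (hc : c ∈ ax Q u)
    (hcen : ∀ q ∈ Q, c * q * c⁻¹ * q⁻¹ ∈ Subgroup.centralizer (W : Set G))
    (hcW : c ∉ Subgroup.centralizer (W : Set G))
    (IH : ∀ W' : Subgroup G, W' < W → Inv u v W' → Q ≤ Subgroup.normalizer (W' : Set G) →
      ⁅Q, Q⁆ ≤ Subgroup.centralizer (W' : Set G)) :
    ⁅Q, Q⁆ ≤ Subgroup.centralizer (W : Set G) := by
  classical
  set C := Subgroup.zpowers c with hC
  have hcQ : c ∈ Q := ax_le _ _ hc
  have hCQ : C ≤ Q := Subgroup.zpowers_le.2 hcQ
  have hCn : C ≤ Subgroup.normalizer (W : Set G) := hCQ.trans hn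
  have hcoC : (Nat.card C).Coprime (Nat.card W) :=
    hco.coprime_dvd_left (Subgroup.card_dvd_of_le hCQ)
  set W0 := W ⊓ Subgroup.centralizer (C : Set G) with hW0
  set W1 := ⁅W, C⁆ with hW1
  have hsup : W0 ⊔ W1 = W := CoprimeAct.centralizer_sup_commutator hCn hcoC
  have hinf : W0 ⊓ W1 = ⊥ := CoprimeAct.centralizer_inf_commutator_eq_bot hCn hcoC
  have hW1W : W1 ≤ W := CoprimeAct.commutator_le_left hCn
  have huu := h.toFour.uu
  have hvv := h.toFour.vv
  have hcu : u * c * u = c := ((mem_ax' huu).1 hc).2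
  have hcv : v * c * v = c⁻¹ := h.inverts (ax_mono hQX u hc)
  have hCi : Inv u v C := by
    constructor <;>
    · intro x hx
      obtain ⟨k, rfl⟩ := Subgroup.mem_zpowers_iff.1 hx
      refine Subgroup.mem_zpowers_iff.2 ?_
      first
        | exact ⟨k, by
            rw [show u * c ^ k * u = (u * c * u⁻¹) ^ k by
              rw [conj_zpow, h.toFour.u_inv], h.toFour.u_inv, hcu]⟩
        | exact ⟨-k, by
            rw [show v * c ^ k * v = (v * c * v⁻¹) ^ k by
              rw [conj_zpow, h.toFour.v_inv], h.toFour.v_inv, hcv, inv_zpow, zpow_neg]⟩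
  have hW0i : Inv u v W0 := h.toFour.inv_inf hWi (h.toFour.inv_centralizer hCi)
  have hW1i : Inv u v W1 := h.toFour.inv_commutator hWi hCi
  have hck : ∀ q ∈ Q, ∃ k ∈ Subgroup.centralizer (W : Set G), q * c * q⁻¹ = k * c := by
    intro q hq
    refine ⟨(c * q * c⁻¹ * q⁻¹)⁻¹, inv_mem (hcen q hq), by group⟩
  have hW0n : Q ≤ Subgroup.normalizer (W0 : Set G) := by
    intro q hq
    have key : ∀ r ∈ Q, ∀ y ∈ W0, r * y * r⁻¹ ∈ W0 := by
      intro r hr y hy
      have hyW : r * y * r⁻¹ ∈ W := (Subgroup.mem_normalizer_iff.1 (hn hr) y).1 hy.1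
      refine ⟨hyW, Subgroup.mem_centralizer_iff.2 ?_⟩
      have hyc : y * c = c * y :=
        (Subgroup.mem_centralizer_iff.1 hy.2 c (Subgroup.mem_zpowers c)).symm
      obtain ⟨k, hk, e⟩ := hck r hr
      have e1 : Commute (r * y * r⁻¹) (k * c) := by
        rw [← e]
        calc r * y * r⁻¹ * (r * c * r⁻¹) = r * (y * c) * r⁻¹ := by group
          _ = r * (c * y) * r⁻¹ := by rw [hyc]
          _ = _ := by group
      have e2 : Commute (r * y * r⁻¹) k :=
        (Subgroup.mem_centralizer_iff.1 hk _ hyW : Commute _ k)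
      have e3 : Commute (r * y * r⁻¹) c := by
        simpa using e2.inv_right.mul_right e1
      rintro x hx
      obtain ⟨i, rfl⟩ := Subgroup.mem_zpowers_iff.1 hx
      exact ((e3.zpow_right i).eq).symm
    rw [Subgroup.mem_normalizer_iff]
    intro y
    refine ⟨key q hq y, fun hy => ?_⟩
    have := key q⁻¹ (inv_mem hq) _ hy
    simpa [mul_assoc] using this
  have hW1n : Q ≤ Subgroup.normalizer (W1 : Set G) := by
    intro q hq
    have key : ∀ r ∈ Q, ∀ z ∈ W1, r * z * r⁻¹ ∈ W1 := by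
      intro r hr z hz
      induction hz using Subgroup.closure_induction with
      | mem z hz =>
        obtain ⟨y, hy, t, ht, rfl⟩ := hz
        obtain ⟨i, rfl⟩ := Subgroup.mem_zpowers_iff.1 ht
        have hy' : r * y * r⁻¹ ∈ W := (Subgroup.mem_normalizer_iff.1 (hn hr) y).1 hy
        -- `r c^i r⁻¹` acts on `W` as `c^i`
        obtain ⟨k, hk, e⟩ := hck r hr
        have hki : ∃ k' ∈ Subgroup.centralizer (W : Set G), r * c ^ i * r⁻¹ = k' * c ^ i := by
          have hK : ∀ j : ℕ, ∃ k' ∈ Subgroup.centralizer (W : Set G),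
              r * c ^ j * r⁻¹ = k' * c ^ j := by
            intro j
            induction j with
            | zero => exact ⟨1, one_mem _, by simp⟩
            | succ j ih =>
              obtain ⟨k', hk', e'⟩ := ih
              refine ⟨k' * (c ^ j * k * (c ^ j)⁻¹), mul_mem hk' ?_, ?_⟩
              · exact (Subgroup.mem_normalizer_iff.1
                  (FitOf.normalizer_le_normalizer_centralizer W (hn (pow_mem hcQ j))) k).1 hk
              · calc r * c ^ (j + 1) * r⁻¹ = (r * c ^ j * r⁻¹) * (r * c * r⁻¹) := by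
                      rw [pow_succ]; group
                  _ = (k' * c ^ j) * (k * c) := by rw [e, e']
                  _ = _ := by rw [pow_succ]; group
          obtain ⟨j, hj⟩ := (mem_powers_iff_mem_zpowers (x := c) (y := c ^ i)).2 ⟨i, rfl⟩
          obtain ⟨k', hk', e'⟩ := hK j
          exact ⟨k', hk', by rw [← show c ^ j = c ^ i from hj]; exact e'⟩
        obtain ⟨k', hk', e'⟩ := hki
        have hz : (⁅r * y * r⁻¹, c ^ i⁆ : G) ∈ W :=
          hW1W (Subgroup.commutator_mem_commutator hy' (Subgroup.zpow_mem_zpowers c i))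
        have e2 : r * ⁅y, c ^ i⁆ * r⁻¹ = ⁅r * y * r⁻¹, c ^ i⁆ := by
          calc r * ⁅y, c ^ i⁆ * r⁻¹
              = ⁅r * y * r⁻¹, r * c ^ i * r⁻¹⁆ := by simp only [commutatorElement_def]; group
            _ = (r * y * r⁻¹ * k') * c ^ i * (r * y * r⁻¹)⁻¹ * (c ^ i)⁻¹ * k'⁻¹ := by
                rw [e', commutatorElement_def]; group
            _ = (k' * (r * y * r⁻¹)) * c ^ i * (r * y * r⁻¹)⁻¹ * (c ^ i)⁻¹ * k'⁻¹ := by
                rw [Subgroup.mem_centralizer_iff.1 hk' _ hy']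
            _ = k' * ⁅r * y * r⁻¹, c ^ i⁆ * k'⁻¹ := by rw [commutatorElement_def]; group
            _ = _ := by rw [← Subgroup.mem_centralizer_iff.1 hk' _ hz, mul_inv_cancel_right]
        rw [e2]
        exact Subgroup.commutator_mem_commutator hy' (Subgroup.zpow_mem_zpowers c i)
      | one => simp
      | mul a b _ _ ha hb =>
        rw [show r * (a * b) * r⁻¹ = (r * a * r⁻¹) * (r * b * r⁻¹) by group]
        exact mul_mem ha hb
      | inv a _ ha =>
        rw [show r * a⁻¹ * r⁻¹ = (r * a * r⁻¹)⁻¹ by group]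
        exact inv_mem ha
    rw [Subgroup.mem_normalizer_iff]
    intro y
    refine ⟨key q hq y, fun hy => ?_⟩
    have := key q⁻¹ (inv_mem hq) _ hy
    simpa [mul_assoc] using this
  have hW0ne : W0 ≠ W := by
    intro e
    refine hcW (Subgroup.mem_centralizer_iff.2 fun y hy => ?_)
    have hy0 : y ∈ W0 := e.symm ▸ hy
    exact (Subgroup.mem_centralizer_iff.1 hy0.2 c (Subgroup.mem_zpowers c)).symm
  by_cases h0 : W0 = ⊥
  · -- `u` inverts `W`
    have hW : Fpf u v w W := h.mono' hWX hWi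
    have hinvW : ∀ y ∈ W, u * y * u = y⁻¹ := by
      intro y hy
      obtain ⟨b, hb, i, hi, hiu, rfl⟩ := hW.rot.exists_fixed_mul_inverted hy
      have : b ∈ W0 := by
        refine ⟨ax_le _ _ hb, Subgroup.mem_centralizer_iff.2 ?_⟩
        intro x hx
        obtain ⟨j, rfl⟩ := Subgroup.mem_zpowers_iff.1 hx
        exact ((Commute.zpow_left (h.ax_comm (ax_mono hQX u hc) (ax_mono hWX u hb)) j).eq)
      rw [h0, Subgroup.mem_bot] at this
      rw [this, one_mul, hiu]
    have hu' : ∀ q ∈ Q, ∀ y ∈ W, (u * q * u) * y * (u * q * u)⁻¹ = q * y * q⁻¹ := by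
      intro q hq y hy
      have h1 : q * y⁻¹ * q⁻¹ ∈ W := (Subgroup.mem_normalizer_iff.1 (hn hq) _).1 (inv_mem hy)
      calc (u * q * u) * y * (u * q * u)⁻¹ = u * q * (u * y * u⁻¹) * q⁻¹ * u⁻¹ := by group
        _ = u * (q * y⁻¹ * q⁻¹) * u := by rw [h.toFour.u_inv, hinvW y hy]; group
        _ = q * y * q⁻¹ := by rw [hinvW _ h1]; group
    have hQ : Fpf u v w Q := h.mono' hQX hQi
    have hother : ∀ b ∈ Q, u * b * u = b⁻¹ → ∀ y ∈ W, b * y * b⁻¹ = y := by
      intro b hb hbu y hy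
      have h2 : Commute (b * b) y := by
        have := hu' b hb y hy
        rw [hbu] at this
        show b * b * y = y * (b * b)
        calc b * b * y = b * (b * y * b⁻¹) * b := by group
          _ = b * (b⁻¹ * y * (b⁻¹)⁻¹) * b := by rw [this]
          _ = _ := by group
      have := h2.pow_left ((Nat.card X + 1) / 2)
      rw [show (b * b) ^ ((Nat.card X + 1) / 2) = b from sq_injective h.odd
        (pow_mem (mul_mem (hQX hb) (hQX hb)) _) (hQX hb)
        (rt_sq h.odd (mul_mem (hQX hb) (hQX hb)))] at this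
      rw [this.eq, mul_inv_cancel_right]
    have hrep : ∀ x ∈ Q, ∃ a ∈ ax X u, ∀ y ∈ W, x * y * x⁻¹ = a * y * a⁻¹ := by
      intro x hx
      obtain ⟨g, hg, a, ha, b, hb, rfl⟩ := hQ.exists_caba hx
      refine ⟨a * a, mul_mem (ax_mono hQX u ha) (ax_mono hQX u ha), fun y hy => ?_⟩
      have hga : g ∈ Q := ax_le _ _ hg
      have hgu : u * g * u = g⁻¹ := hQ.rot.rot.inverts hg
      have hbu : u * b * u = b⁻¹ := hQ.swap.inverts hb
      have hay : a * y * a⁻¹ ∈ W := (Subgroup.mem_normalizer_iff.1 (hn (ax_le _ _ ha)) _).1 hy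
      have haay : a * (a * y * a⁻¹) * a⁻¹ ∈ W :=
        (Subgroup.mem_normalizer_iff.1 (hn (ax_le _ _ ha)) _).1 hay
      calc g * (a * b * a) * y * (g * (a * b * a))⁻¹
          = g * (a * (b * (a * y * a⁻¹) * b⁻¹) * a⁻¹) * g⁻¹ := by group
        _ = g * (a * (a * y * a⁻¹) * a⁻¹) * g⁻¹ := by
            rw [hother b (ax_le _ _ hb) hbu _ hay]
        _ = a * (a * y * a⁻¹) * a⁻¹ := hother g hga hgu _ haay
        _ = _ := by group
    rw [Subgroup.commutator_le]
    intro x hx z hz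
    rw [Subgroup.mem_centralizer_iff]
    intro y hy
    obtain ⟨a, ha, hxa⟩ := hrep x hx
    obtain ⟨b, hb, hzb⟩ := hrep z hz
    have hxi : ∀ y ∈ W, x⁻¹ * y * x = a⁻¹ * y * a := by
      intro y hy
      have hy' : x⁻¹ * y * x ∈ W := by
        have := (Subgroup.mem_normalizer_iff.1 (hn (inv_mem hx)) y).1 hy
        simpa using this
      have e := hxa _ hy'
      calc x⁻¹ * y * x = a⁻¹ * (a * (x⁻¹ * y * x) * a⁻¹) * a := by group
        _ = a⁻¹ * (x * (x⁻¹ * y * x) * x⁻¹) * a := by rw [e]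
        _ = _ := by group
    have hzi : ∀ y ∈ W, z⁻¹ * y * z = b⁻¹ * y * b := by
      intro y hy
      have hy' : z⁻¹ * y * z ∈ W := by
        have := (Subgroup.mem_normalizer_iff.1 (hn (inv_mem hz)) y).1 hy
        simpa using this
      have e := hzb _ hy'
      calc z⁻¹ * y * z = b⁻¹ * (b * (z⁻¹ * y * z) * b⁻¹) * b := by group
        _ = b⁻¹ * (z * (z⁻¹ * y * z) * z⁻¹) * b := by rw [e]
        _ = _ := by group
    have hab : a * b = b * a := h.ax_comm ha hb
    have m1 : z⁻¹ * y * z ∈ W := by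
      have := (Subgroup.mem_normalizer_iff.1 (hn (inv_mem hz)) y).1 hy
      simpa using this
    have m2 : x⁻¹ * (z⁻¹ * y * z) * x ∈ W := by
      have := (Subgroup.mem_normalizer_iff.1 (hn (inv_mem hx)) _).1 m1
      simpa using this
    have m3 : z * (x⁻¹ * (z⁻¹ * y * z) * x) * z⁻¹ ∈ W :=
      (Subgroup.mem_normalizer_iff.1 (hn hz) _).1 m2
    have key : ⁅x, z⁆ * y * ⁅x, z⁆⁻¹ = y := by
      calc ⁅x, z⁆ * y * ⁅x, z⁆⁻¹
          = x * (z * (x⁻¹ * (z⁻¹ * y * z) * x) * z⁻¹) * x⁻¹ := by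
            rw [commutatorElement_def]; group
        _ = a * (z * (x⁻¹ * (z⁻¹ * y * z) * x) * z⁻¹) * a⁻¹ := hxa _ m3
        _ = a * (b * (a⁻¹ * (b⁻¹ * y * b) * a) * b⁻¹) * a⁻¹ := by
            rw [hzb _ m2, hxi _ m1, hzi _ hy]
        _ = (a * b) * (b * a)⁻¹ * y * ((a * b) * (b * a)⁻¹)⁻¹ := by group
        _ = y := by rw [hab, mul_inv_cancel]; simp
    calc y * ⁅x, z⁆ = (⁅x, z⁆ * y * ⁅x, z⁆⁻¹) * ⁅x, z⁆ := by rw [key]
      _ = ⁅x, z⁆ * y := by group
  · have hW1ne : W1 ≠ W := by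
      intro e
      rw [e, inf_eq_left.2 inf_le_left] at hinf
      exact h0 hinf
    have e0 := IH W0 (lt_of_le_of_ne inf_le_left hW0ne) hW0i hW0n
    have e1 := IH W1 (lt_of_le_of_ne hW1W hW1ne) hW1i hW1n
    rw [Subgroup.le_centralizer_iff] at e0 e1 ⊢
    rw [← hsup]
    exact sup_le e0 e1

/-- The derived subgroup of an invariant `r`-group centralises an abelian coprime invariant
subgroup it normalises. -/
theorem derived_centralises_abelian (h : Fpf u v w X) {r : ℕ} [Fact r.Prime] {Q : Subgroup G}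
    (hQX : Q ≤ X) (hQr : IsPGroup r Q) (hQi : Inv u v Q) :
    ∀ W : Subgroup G, W ≤ X → Inv u v W → IsMulCommutative W →
      Q ≤ Subgroup.normalizer (W : Set G) → (Nat.card Q).Coprime (Nat.card W) →
      ⁅Q, Q⁆ ≤ Subgroup.centralizer (W : Set G) := by
  classical
  intro W
  induction W using WellFoundedLT.induction with
  | ind W IH =>
    intro hWX hWi hWc hn hco
    have IH' : ∀ W' : Subgroup G, W' < W → Inv u v W' → Q ≤ Subgroup.normalizer (W' : Set G) →
        ⁅Q, Q⁆ ≤ Subgroup.centralizer (W' : Set G) := fun W' hlt hi hn' =>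
      IH W' hlt (hlt.le.trans hWX) hi
        (.of_setLike_mul_comm fun a ha b hb => setLike_mul_comm (s := W) (hlt.le ha) (hlt.le hb))
        hn' (hco.coprime_dvd_right (Subgroup.card_dvd_of_le hlt.le))
    set C := Subgroup.centralizer (W : Set G) with hCdef
    have hCn : ∀ q ∈ Q, ∀ k ∈ C, q * k * q⁻¹ ∈ C := fun q hq k hk =>
      (Subgroup.mem_normalizer_iff.1 (FitOf.normalizer_le_normalizer_centralizer W (hn hq)) k).1 hk
    by_cases hQC : Q ≤ C
    · exact (Subgroup.commutator_le.2 fun a ha b hb => by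
        rw [commutatorElement_def]
        exact mul_mem (mul_mem (mul_mem (hQC ha) (hQC hb)) (inv_mem (hQC ha))) (inv_mem (hQC hb)))
    -- the preimage of the centre of `Q / C_Q(W)`
    haveI hNn : (C.subgroupOf Q).Normal := ⟨fun k hk q => hCn q q.2 k hk⟩
    haveI : Nontrivial (Q ⧸ C.subgroupOf Q) :=
      QuotientGroup.nontrivial_iff.2 fun e => hQC (Subgroup.subgroupOf_eq_top.1 e)
    haveI : Nontrivial (Subgroup.center (Q ⧸ C.subgroupOf Q)) :=
      (hQr.to_quotient _).center_nontrivial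
    obtain ⟨⟨ζ, hζ⟩, hζ1⟩ := exists_ne (1 : Subgroup.center (Q ⧸ C.subgroupOf Q))
    obtain ⟨q₀, rfl⟩ := QuotientGroup.mk_surjective ζ
    set Z : Subgroup G :=
      ((Subgroup.center (Q ⧸ C.subgroupOf Q)).comap (QuotientGroup.mk' _)).map Q.subtype with hZ
    have hmemZ : ∀ q, q ∈ Z → q ∈ Q ∧ ∀ y ∈ Q, q * y * q⁻¹ * y⁻¹ ∈ C := by
      rintro _ ⟨q, hq, rfl⟩
      refine ⟨q.2, fun y hy => ?_⟩
      have hq' := Subgroup.mem_center_iff.1 (Subgroup.mem_comap.1 hq) (QuotientGroup.mk' _ ⟨y, hy⟩)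
      rw [← map_mul, ← map_mul] at hq'
      have := (QuotientGroup.eq_iff_div_mem.1 hq'.symm)
      simpa [div_eq_mul_inv, mul_assoc, Subgroup.mem_subgroupOf] using this
    have hZi : Inv u v Z := by
      have key : ∀ a : G, a * a = 1 → (∀ x ∈ Q, a * x * a ∈ Q) → (∀ x ∈ C, a * x * a ∈ C) →
          ∀ x ∈ Z, a * x * a ∈ Z := by
        intro a ha hQa hCa x hx
        obtain ⟨hxQ, hxc⟩ := hmemZ x hx
        refine ⟨⟨a * x * a, hQa x hxQ⟩, ?_, rfl⟩
        rw [SetLike.mem_coe, Subgroup.mem_comap, Subgroup.mem_center_iff]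
        intro g
        obtain ⟨y, rfl⟩ := QuotientGroup.mk'_surjective (C.subgroupOf Q) g
        rw [← map_mul, ← map_mul]
        refine (QuotientGroup.eq_iff_div_mem.2 ?_).symm
        have e := hCa _ (hxc _ (hQa _ y.2))
        rw [invol_conj_mul ha, invol_conj_mul ha, invol_conj_mul ha, invol_conj_inv ha,
          invol_conj_inv ha, invol_conj_conj ha] at e
        simpa [div_eq_mul_inv, mul_assoc, Subgroup.mem_subgroupOf] using e
      have hCi := h.toFour.inv_centralizer hWi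
      exact ⟨key u h.toFour.uu hQi.1 hCi.1, key v h.toFour.vv hQi.2 hCi.2⟩
    have hZne : ¬ Z ≤ C := fun e => hζ1 (Subtype.ext ((QuotientGroup.eq_one_iff q₀).2
      (e ⟨q₀, Subgroup.mem_comap.2 hζ, rfl⟩)))
    have hZQ : Z ≤ Q := fun x hx => (hmemZ x hx).1
    have hZF : Fpf u v w Z := h.mono' (hZQ.trans hQX) hZi
    have hsome : ¬ (ax Z u ≤ C ∧ ax Z v ≤ C ∧ ax Z w ≤ C) := fun e =>
      hZne (hZF.le_of_axes e.1 e.2.1 e.2.2)
    have rot1 : ∀ {Y : Subgroup G}, Inv v w Y → Inv u v Y := fun {Y} hY =>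
      h.toFour.rot.rot.inv_rot (h.toFour.rot.inv_rot hY)
    have rot2 : ∀ {Y : Subgroup G}, Inv w u Y → Inv u v Y := fun {Y} hY =>
      h.toFour.rot.rot.inv_rot hY
    by_cases h1 : ax Z u ≤ C
    · by_cases h2 : ax Z v ≤ C
      · obtain ⟨c, hc, hcC⟩ := SetLike.not_le_iff_exists.1 fun h3 => hsome ⟨h1, h2, h3⟩
        exact h.rot.rot.derived_core hQX hWX (h.toFour.rot.inv_rot (h.toFour.inv_rot hQi))
          (h.toFour.rot.inv_rot (h.toFour.inv_rot hWi)) hn hco (ax_mono hZQ w hc)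
          (hmemZ c (ax_le _ _ hc)).2 hcC fun W' hlt hi => IH' W' hlt (rot2 hi)
      · obtain ⟨c, hc, hcC⟩ := SetLike.not_le_iff_exists.1 h2
        exact h.rot.derived_core hQX hWX (h.toFour.inv_rot hQi)
          (h.toFour.inv_rot hWi) hn hco (ax_mono hZQ v hc) (hmemZ c (ax_le _ _ hc)).2 hcC
          fun W' hlt hi => IH' W' hlt (rot1 hi)
    · obtain ⟨c, hc, hcC⟩ := SetLike.not_le_iff_exists.1 h1
      exact h.derived_core hQX hWX hQi hWi hn hco (ax_mono hZQ u hc) (hmemZ c (ax_le _ _ hc)).2 hcC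
        IH'

/-- The derived subgroup of an invariant `r`-group centralises an invariant `p`-group of coprime
order which it normalises. -/
theorem derived_centralises (h : Fpf u v w X) {r p : ℕ} [Fact r.Prime] [Fact p.Prime]
    (hrp : r ≠ p) {Q W : Subgroup G} (hQX : Q ≤ X) (hWX : W ≤ X) (hQr : IsPGroup r Q)
    (hWp : IsPGroup p W) (hQi : Inv u v Q) (hWi : Inv u v W)
    (hn : Q ≤ Subgroup.normalizer (W : Set G)) :
    ⁅Q, Q⁆ ≤ Subgroup.centralizer (W : Set G) := by
  classical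
  haveI := hWp.isNilpotent
  set N := (frattini W).map W.subtype with hN
  have hNW : N ≤ W := Subgroup.map_subtype_le _
  have hWN : W ≤ Subgroup.normalizer (N : Set G) :=
    AxB.le_normalizer_map_subtype inferInstance
  have hnN : Subgroup.normalizer (W : Set G) ≤ Subgroup.normalizer (N : Set G) := by
    intro m hm
    rw [Subgroup.mem_normalizer_iff_map_conj_eq, hN]
    let e : MulAut W := W.normalizerMonoidHom ⟨m, hm⟩
    have he := Subgroup.characteristic_iff_map_eq.1 (inferInstance : (frattini W).Characteristic) e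
    conv_rhs => rw [← he]
    rw [Subgroup.map_map, Subgroup.map_map]
    rfl
  set M := Subgroup.normalizer (N : Set G) with hM
  have hu : u ∈ M := hnN (mem_normalizer_invol h.toFour.uu hWi.1)
  have hv : v ∈ M := hnN (mem_normalizer_invol h.toFour.vv hWi.2)
  have hw : w ∈ M := h.toFour.uv ▸ mul_mem hu hv
  have hQM : Q ≤ M := hn.trans hnN
  haveI hNn : (N.subgroupOf M).Normal := Subgroup.normal_subgroupOf_of_le_normalizer le_rfl
  set f := QuotientGroup.mk' (N.subgroupOf M) with hf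
  have hXi : Fpf (⟨u, hu⟩ : M) ⟨v, hv⟩ ⟨w, hw⟩ ((Q ⊔ W).subgroupOf M) :=
    ((h.mono' (sup_le hQX hWX) (h.toFour.inv_sup hQi hWi))).subgroupOf hu hv hw
      (sup_le hQM hWN)
  have hF := hXi.map f
  have hQl : (Q.subgroupOf M).map f ≤ ((Q ⊔ W).subgroupOf M).map f :=
    Subgroup.map_mono fun x hx => Subgroup.mem_sup_left (S := Q) (T := W) hx
  have hWl : (W.subgroupOf M).map f ≤ ((Q ⊔ W).subgroupOf M).map f :=
    Subgroup.map_mono fun x hx => Subgroup.mem_sup_right (S := Q) (T := W) hx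
  have hinv : ∀ Y : Subgroup G, Inv u v Y → Inv (f ⟨u, hu⟩) (f ⟨v, hv⟩) ((Y.subgroupOf M).map f) := by
    intro Y hY
    constructor
    · rintro _ ⟨x, hx, rfl⟩
      exact ⟨⟨u, hu⟩ * x * ⟨u, hu⟩, hY.1 _ hx, by rw [map_mul, map_mul]⟩
    · rintro _ ⟨x, hx, rfl⟩
      exact ⟨⟨v, hv⟩ * x * ⟨v, hv⟩, hY.2 _ hx, by rw [map_mul, map_mul]⟩
  have hWc : IsMulCommutative ((W.subgroupOf M).map f) := by
    refine .of_setLike_mul_comm ?_
    rintro _ ⟨a, ha, rfl⟩ _ ⟨b, hb, rfl⟩
    rw [← map_mul, ← map_mul]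
    refine QuotientGroup.eq_iff_div_mem.2 ?_
    rw [Subgroup.mem_subgroupOf]
    have : ((a * b / (b * a) : M) : G) = ⁅(a : G), (b : G)⁆ := by
      simp [div_eq_mul_inv, commutatorElement_def, mul_assoc]
    rw [this]
    exact ⟨⁅(⟨a, ha⟩ : W), ⟨b, hb⟩⁆, SolvStruct.commutator_le_frattini W
      (Subgroup.commutator_mem_commutator (Subgroup.mem_top _) (Subgroup.mem_top _)), rfl⟩
  have hQbar : IsPGroup r ((Q.subgroupOf M).map f) := (hQr.comap_subtype (K := M)).map f
  have hWbar : IsPGroup p ((W.subgroupOf M).map f) := (hWp.comap_subtype (K := M)).map f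
  have hnbar : (Q.subgroupOf M).map f ≤
      Subgroup.normalizer (((W.subgroupOf M).map f : Subgroup _) : Set _) := by
    refine le_trans (Subgroup.map_mono ?_) (Subgroup.le_normalizer_map f)
    intro x hx
    rw [Subgroup.mem_normalizer_iff]
    intro y
    exact Subgroup.mem_normalizer_iff.1 (hn hx) y
  have key := hF.derived_centralises_abelian hQl hQbar (hinv Q hQi) _ hWl (hinv W hWi) hWc hnbar
    (IsPGroup.coprime_card_of_ne r p hrp _ _ hQbar hWbar)
  have hQQ : ⁅Q, Q⁆ ≤ Q := Subgroup.commutator_le.2 fun a ha b hb => by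
    rw [commutatorElement_def]
    exact mul_mem (mul_mem (mul_mem ha hb) (inv_mem ha)) (inv_mem hb)
  refine CoprimeAct.le_centralizer_of_frattini (hQQ.trans hn) ?_ ?_
  · refine (IsPGroup.coprime_card_of_ne r p hrp _ _ (hQr.to_le hQQ) ?_)
    exact hWp.to_subgroup _
  · intro a ha k hk
    have haM : a ∈ M := hQM (hQQ ha)
    have ha' : f ⟨a, haM⟩ ∈ ⁅(Q.subgroupOf M).map f, (Q.subgroupOf M).map f⁆ := by
      rw [← Subgroup.map_commutator]
      refine ⟨⟨a, haM⟩, ?_, rfl⟩
      have e : (⁅Q.subgroupOf M, Q.subgroupOf M⁆).map M.subtype = ⁅Q, Q⁆ := by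
        rw [Subgroup.map_commutator, Subgroup.map_subgroupOf_eq_of_le hQM]
      obtain ⟨y, hy, hye⟩ := (e.symm ▸ ha : a ∈ (⁅Q.subgroupOf M, Q.subgroupOf M⁆).map M.subtype)
      rwa [show (⟨a, haM⟩ : M) = y from Subtype.ext hye.symm]
    have hk' : f ⟨k, hWN hk⟩ ∈ (W.subgroupOf M).map f := ⟨_, hk, rfl⟩
    have e := Subgroup.mem_centralizer_iff.1 (key ha') _ hk'
    rw [← map_mul, ← map_mul] at e
    have e2 := QuotientGroup.eq_iff_div_mem.1 e.symm
    simpa [div_eq_mul_inv, mul_assoc, Subgroup.mem_subgroupOf, -Subgroup.mem_map] using e2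

/-- A solvable group with a fixed point free four-group is metanilpotent. -/
theorem isNilpotent_quotient_fitting (h : Fpf u v w X) [Group.IsSolvable X] :
    haveI := FittingCores.fitting_normal (G := X)
    Group.IsNilpotent (X ⧸ Cfsg.fittingSubgroup X) := by
  haveI := FittingCores.fitting_normal (G := X)
  have hun : u ∈ Subgroup.normalizer (X : Set G) := mem_normalizer_invol h.toFour.uu h.memu
  have hvn : v ∈ Subgroup.normalizer (X : Set G) := mem_normalizer_invol h.toFour.vv h.memv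
  let φ : Multiplicative (ZMod 2) × Multiplicative (ZMod 2) →* MulAut X :=
    X.normalizerMonoidHom.comp (kleinHom ⟨u, hun⟩ ⟨v, hvn⟩ (Subtype.ext h.toFour.uu)
      (Subtype.ext h.toFour.vv) (Subtype.ext h.toFour.comm))
  have hfpf : OpFpf.Fpf φ := by
    intro g hg
    have hu' := congrArg Subtype.val (hg (Multiplicative.ofAdd 1, 1))
    have hv' := congrArg Subtype.val (hg (1, Multiplicative.ofAdd 1))
    have hne : ¬ (Multiplicative.ofAdd (1 : ZMod 2) = 1) := by decide
    simp [φ, kleinHom, hne, h.toFour.u_inv] at hu'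
    simp [φ, kleinHom, hne, h.toFour.v_inv] at hv'
    exact Subtype.ext (h.triv g g.2 ((invol_conj_eq_iff h.toFour.uu).1 hu')
      ((invol_conj_eq_iff h.toFour.vv).1 hv'))
  have hexp : ∀ a : Multiplicative (ZMod 2) × Multiplicative (ZMod 2), a ^ 2 = 1 := by decide
  obtain ⟨k, -, hk⟩ := OpFpf.nilLcs_ward Nat.prime_two
    (by rw [Nat.card_eq_fintype_card]; rfl) hexp (fun a b => mul_comm a b) φ hfpf
  have hle : (⊤ : Subgroup X).lowerCentralSeries k ≤ Cfsg.fittingSubgroup X :=
    FittingCores.le_fitting inferInstance hk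
  refine Subgroup.nilpotent_iff_lowerCentralSeries.2 ⟨k, ?_⟩
  rw [← Subgroup.map_top_of_surjective _ (QuotientGroup.mk'_surjective (Cfsg.fittingSubgroup X)),
    ← Subgroup.map_lowerCentralSeries, Subgroup.map_eq_bot_iff, QuotientGroup.ker_mk']
  exact hle

/-- An `r`-element centralising the cores of the other primes lies in `O_r`. -/
theorem mem_pCoreOf_of_centralises (h : Fpf u v w X) [Group.IsSolvable X] {r : ℕ} [hr : Fact r.Prime]
    {P : Subgroup G} (hPX : P ≤ X) (hP : IsPGroup r P)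
    (hc : ∀ s : ℕ, s.Prime → s ≠ r → P ≤ Subgroup.centralizer (pCoreOf s X : Set G)) :
    P ≤ pCoreOf r X := by
  classical
  haveI := FittingCores.fitting_normal (G := X)
  haveI := h.isNilpotent_quotient_fitting
  obtain ⟨Q, hQ⟩ := (hP.comap_subtype (K := X)).exists_le_sylow
  set F := Cfsg.fittingSubgroup X with hFdef
  set Qb : Sylow r (X ⧸ F) := Q.mapSurjective (QuotientGroup.mk'_surjective F) with hQb
  have hQn : (Qb : Subgroup (X ⧸ F)).Normal :=
    ((Group.isNilpotent_of_finite_tfae (G := X ⧸ F)).out 0 3 rfl rfl).1 inferInstance r hr Qb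
  set R0 := ((Qb : Subgroup (X ⧸ F)).comap (QuotientGroup.mk' F)).map X.subtype with hR0
  have hR0n : X ≤ Subgroup.normalizer (R0 : Set G) :=
    AxB.le_normalizer_map_subtype (Subgroup.Normal.comap hQn _)
  set D := FitOf.coreCompl r X with hD
  have hDn : X ≤ Subgroup.normalizer (D : Set G) := by
    intro x hx
    rw [Subgroup.mem_normalizer_iff_map_conj_eq, hD, FitOf.coreCompl, Subgroup.map_iSup]
    refine iSup_congr fun s => ?_
    rw [Subgroup.map_iSup]
    refine iSup_congr fun _ => ?_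
    exact Subgroup.mem_normalizer_iff_map_conj_eq.1 (FitOf.le_normalizer_pCoreOf s X hx)
  set R := R0 ⊓ Subgroup.centralizer (D : Set G) with hR
  have hRn : X ≤ Subgroup.normalizer (R : Set G) :=
    FitOf.le_normalizer_inf hR0n (hDn.trans (FitOf.normalizer_le_normalizer_centralizer D))
  set Q' := (Q : Subgroup X).map X.subtype with hQ'
  have hQ'r : IsPGroup r Q' := Q.isPGroup'.map _
  have hQ'X : Q' ≤ X := Subgroup.map_subtype_le _
  have hFQ : pCoreOf r X ≤ Q' := Subgroup.map_mono (FittingCores.pCore_le_sylow Q)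
  have hR0eq : R0 ≤ Q' ⊔ D := by
    rintro _ ⟨x, hx, rfl⟩
    rw [SetLike.mem_coe, Subgroup.mem_comap, hQb, Sylow.coe_mapSurjective] at hx
    obtain ⟨q, hq, e⟩ := hx
    have hf : q⁻¹ * x ∈ F := (QuotientGroup.eq (s := F)).1 e
    have : ((q⁻¹ * x : X) : G) ∈ Q' ⊔ D := by
      have h1 : ((q⁻¹ * x : X) : G) ∈ pCoreOf r X ⊔ D := by
        rw [hD, ← FitOf.fittingOf_eq_sup hr.out X]
        exact ⟨_, hf, rfl⟩
      exact sup_le_sup_right hFQ D h1
    have h2 := mul_mem (Subgroup.mem_sup_left (T := D) (show (q : G) ∈ Q' from ⟨q, hq, rfl⟩)) this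
    simpa using h2
  have hcoD : (Nat.card Q').Coprime (Nat.card D) := by
    have hle : D ≤ (Cfsg.pPrimeCore r X).map X.subtype := FitOf.coreCompl_le_iff.2 fun s hs hne =>
      Subgroup.map_mono (FittingCores.pCore_le_pPrimeCore hr.out hs hne)
    refine Nat.Coprime.coprime_dvd_right (Subgroup.card_dvd_of_le hle) ?_
    have hcm : Nat.card ((Cfsg.pPrimeCore r X).map X.subtype) = Nat.card (Cfsg.pPrimeCore r X) :=
      Nat.card_congr ((Cfsg.pPrimeCore r X).equivMapOfInjective _ X.subtype_injective).symm.toEquiv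
    rw [hcm]
    obtain ⟨n, hn⟩ := IsPGroup.iff_card.1 hQ'r
    rw [hn]
    exact ((FittingCores.pPrimeCore_coprime (G := X) r).symm).pow_left n
  have hQD : Q' ≤ Subgroup.normalizer (D : Set G) := hQ'X.trans hDn
  -- every element of `R` is a product of an element of `S := Q' ⊓ R` and a central element of `D`
  set S := Q' ⊓ Subgroup.centralizer (D : Set G) with hS
  set k := Nat.card Q' with hk
  have hqk : ∀ q ∈ Q', q ^ k = 1 := fun q hq =>
    congrArg Subtype.val (pow_card_eq_one' (x := (⟨q, hq⟩ : Q')))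
  have hcop : ∀ d ∈ D, (orderOf d).Coprime k := fun d hd =>
    (hcoD.coprime_dvd_right (Subgroup.orderOf_dvd_natCard D hd)).symm
  have hdec : ∀ x ∈ R, ∃ q ∈ S, ∃ d ∈ D ⊓ Subgroup.centralizer (D : Set G), x = q * d := by
    rintro x ⟨hx0, hxc⟩
    have hx' := hR0eq hx0
    rw [← SetLike.mem_coe, Subgroup.coe_mul_of_left_le_normalizer_right Q' D hQD] at hx'
    obtain ⟨q, hq, d, hd, rfl⟩ := hx'
    -- conjugation by `q` on `D` is conjugation by `d⁻¹`
    have hstep : ∀ j : ℕ, ∀ y ∈ D, q ^ j * y * (q ^ j)⁻¹ = (d⁻¹) ^ j * y * ((d⁻¹) ^ j)⁻¹ := by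
      intro j
      induction j with
      | zero => intro y _; simp
      | succ j ih =>
        intro y hy
        have hy' : d⁻¹ * y * d ∈ D := mul_mem (mul_mem (inv_mem hd) hy) hd
        have e1 : q * y * q⁻¹ = d⁻¹ * y * d := by
          have e := Subgroup.mem_centralizer_iff.1 hxc (d⁻¹ * y * d) hy'
          calc q * y * q⁻¹ = (q * d) * (d⁻¹ * y * d) * (q * d)⁻¹ := by group
            _ = d⁻¹ * y * d := by rw [← e, mul_inv_cancel_right]
        calc q ^ (j + 1) * y * (q ^ (j + 1))⁻¹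
            = q ^ j * (q * y * q⁻¹) * (q ^ j)⁻¹ := by rw [pow_succ]; group
          _ = (d⁻¹) ^ j * (d⁻¹ * y * d) * ((d⁻¹) ^ j)⁻¹ := by rw [e1, ih _ hy']
          _ = _ := by rw [pow_succ (d⁻¹) j]; group
    have hdcen : d ∈ Subgroup.centralizer (D : Set G) := by
      obtain ⟨b, hb⟩ := exists_pow_eq_self_of_coprime (hcop d hd).symm
      rw [← hb]
      refine pow_mem ?_ b
      rw [Subgroup.mem_centralizer_iff]
      intro y hy
      have e := hstep k y hy
      rw [hqk q hq, one_mul, inv_one, mul_one, inv_pow, inv_inv] at e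
      calc y * d ^ k = d ^ k * ((d ^ k)⁻¹ * y * d ^ k) := by group
        _ = d ^ k * y := by rw [← e]
    refine ⟨q, ⟨hq, ?_⟩, d, ⟨hd, hdcen⟩, rfl⟩
    have := mul_mem (show q * d ∈ Subgroup.centralizer (D : Set G) from hxc) (inv_mem hdcen)
    simpa using this
  have hQR0 : Q' ≤ R0 := by
    rintro _ ⟨q, hq, rfl⟩
    refine ⟨q, ?_, rfl⟩
    rw [SetLike.mem_coe, Subgroup.mem_comap, hQb, Sylow.coe_mapSurjective]
    exact ⟨q, hq, rfl⟩
  have hSn : ∀ g ∈ X, ∀ a ∈ S, g * a * g⁻¹ ∈ S := by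
    intro g hg a ha
    have haR : a ∈ R := ⟨hQR0 ha.1, ha.2⟩
    obtain ⟨q, hq, d, hd, e⟩ := hdec _ ((Subgroup.mem_normalizer_iff.1 (hRn hg) a).1 haR)
    have hqd : Commute q d := (Subgroup.mem_centralizer_iff.1 hq.2 d hd.1).symm
    have e2 : (g * a * g⁻¹) ^ k = 1 := by
      rw [conj_pow, hqk a ha.1, mul_one, mul_inv_cancel]
    rw [e, hqd.mul_pow, hqk q hq.1, one_mul] at e2
    have hd1 : d = 1 := orderOf_eq_one_iff.1
      (Nat.eq_one_of_dvd_coprimes (hcop d hd.1) dvd_rfl (orderOf_dvd_of_pow_eq_one e2))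
    rw [e, hd1, mul_one]
    exact hq
  have hSX : S ≤ X := inf_le_left.trans hQ'X
  have hSnorm : X ≤ Subgroup.normalizer (S : Set G) := by
    intro g hg
    rw [Subgroup.mem_normalizer_iff]
    intro a
    refine ⟨hSn g hg a, fun ha => ?_⟩
    have := hSn g⁻¹ (inv_mem hg) _ ha
    simpa [mul_assoc] using this
  refine le_trans ?_ (AxB.le_pCoreOf hSX hSnorm (hQ'r.to_le inf_le_left))
  refine le_inf (fun x hx => ⟨⟨x, hPX hx⟩, hQ hx, rfl⟩) ?_
  rw [Subgroup.le_centralizer_iff, hD, FitOf.coreCompl_le_iff]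
  exact fun s hs hne => Subgroup.le_centralizer_iff.1 (hc s hs hne)

/-- A solvable group with a fixed point free four-group has nilpotent derived subgroup. -/
theorem derived_le_fitting (h : Fpf u v w X) [Group.IsSolvable X] : ⁅X, X⁆ ≤ fittingOf X := by
  classical
  haveI := FittingCores.fitting_normal (G := X)
  haveI := h.isNilpotent_quotient_fitting
  set F := Cfsg.fittingSubgroup X with hFdef
  have hcomm : IsMulCommutative (X ⧸ F) := by
    refine SolvMinNN.commutative_of_sylows fun r hr P => ?_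
    obtain ⟨Q, hQX, hQr, hQi, hQc⟩ := h.exists_sylow r
    obtain ⟨Q0, hQ0⟩ := CoprimeAct.exists_sylow_of_card hQX hQc
    have hP : P = Q0.mapSurjective (QuotientGroup.mk'_surjective F) := by
      haveI : (P : Subgroup (X ⧸ F)).Normal :=
        ((Group.isNilpotent_of_finite_tfae (G := X ⧸ F)).out 0 3 rfl rfl).1 inferInstance r hr P
      haveI := Sylow.unique_of_normal P inferInstance
      exact Subsingleton.elim _ _
    have hQQ : ⁅Q, Q⁆ ≤ pCoreOf r X := by
      have hle : ⁅Q, Q⁆ ≤ Q := Subgroup.commutator_le.2 fun a ha b hb => by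
        rw [commutatorElement_def]
        exact mul_mem (mul_mem (mul_mem ha hb) (inv_mem ha)) (inv_mem hb)
      refine h.mem_pCoreOf_of_centralises (hle.trans hQX) (hQr.to_le hle) fun s hs hne => ?_
      haveI := Fact.mk hs
      exact h.derived_centralises hne.symm hQX (FitOf.pCoreOf_le s X) hQr
        (FitOf.isPGroup_pCoreOf s X) hQi (h.toFour.inv_pCoreOf h.inv s)
        (hQX.trans (FitOf.le_normalizer_pCoreOf s X))
    refine .of_setLike_mul_comm ?_
    rw [hP, Sylow.coe_mapSurjective]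
    rintro _ ⟨a, ha, rfl⟩ _ ⟨b, hb, rfl⟩
    rw [← map_mul, ← map_mul]
    refine QuotientGroup.eq_iff_div_mem.2 ?_
    have e : (((a * b) / (b * a) : X) : G) = ⁅(a : G), (b : G)⁆ := by
      simp [div_eq_mul_inv, commutatorElement_def, mul_assoc]
    have hm : ((a * b / (b * a) : X) : G) ∈ pCoreOf r X := e ▸ hQQ
      (Subgroup.commutator_mem_commutator (hQ0 ▸ ⟨a, ha, rfl⟩) (hQ0 ▸ ⟨b, hb, rfl⟩))
    obtain ⟨y, hy, hye⟩ := FitOf.pCoreOf_le_fittingOf hr.out X hm
    rwa [show a * b / (b * a) = y from Subtype.ext hye.symm]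
  rw [Subgroup.commutator_le]
  intro a ha b hb
  refine ⟨⁅(⟨a, ha⟩ : X), ⟨b, hb⟩⁆, ?_, rfl⟩
  show _ ∈ F
  rw [← QuotientGroup.ker_mk' F, MonoidHom.mem_ker, map_commutatorElement,
    commutatorElement_eq_one_iff_mul_comm]
  exact mul_comm' _ _

end Fpf

end Cfsg.Agent.DGroup
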