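import Cfsg.Agent.Lib.DGroup.Four
import Cfsg.Agent.Lib.OddOrder.FittingOf

/-!
# Subgroups invariant under a four-group
-/

set_option autoImplicit false
set_option linter.unusedSectionVars false

namespace Cfsg.Agent.DGroup

open scoped commutatorElement
open Cfsg (fittingOf pCoreOf)
open Cfsg.Agent.OddOrder

variable {G : Type*} [Group G]

/-- Invariance under conjugation by the elements `u` and `v`. -/
def Inv (u v : G) (Y : Subgroup G) : Prop :=
  (∀ x ∈ Y, u * x * u ∈ Y) ∧ ∀ x ∈ Y, v * x * v ∈ Y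

theorem mem_normalizer_invol {u : G} (hu : u * u = 1) {Y : Subgroup G}
    (h : ∀ x ∈ Y, u * x * u ∈ Y) : u ∈ Subgroup.normalizer (Y : Set G) := by
  have hui : u⁻¹ = u := inv_eq_of_mul_eq_one_right hu
  rw [Subgroup.mem_normalizer_iff]
  intro x
  rw [hui]
  refine ⟨h x, fun hx => ?_⟩
  have := h _ hx
  rwa [invol_conj_conj hu] at this

theorem invol_conj_mem {u : G} (hu : u * u = 1) {Y : Subgroup G}
    (h : u ∈ Subgroup.normalizer (Y : Set G)) {x : G} (hx : x ∈ Y) : u * x * u ∈ Y := by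
  have := (Subgroup.mem_normalizer_iff.1 h x).1 hx
  rwa [inv_eq_of_mul_eq_one_right hu] at this

namespace Four

variable {u v w : G} (h : Four u v w)

include h

theorem u_comm_w : u * w = w * u := by
  have e := h.uv
  rw [← e]
  calc u * (u * v) = u * (v * u) := by rw [h.comm]
    _ = u * v * u := by group

/-- The four-group. -/
def group : Subgroup G where
  carrier := {x | x = 1 ∨ x = u ∨ x = v ∨ x = w}
  one_mem' := Or.inl rfl
  mul_mem' := by
    have e1 := h.uu
    have e2 := h.vv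
    have e3 := h.ww
    have e4 := h.uv
    have e5 : v * u = w := h.swap.uv
    have e6 := h.vw
    have e7 := h.wv
    have e8 : u * w = v := h.swap.vw
    have e9 : w * u = v := h.swap.wv
    rintro a b (rfl | rfl | rfl | rfl) (rfl | rfl | rfl | rfl) <;>
      simp only [Set.mem_ofPred_eq, one_mul, mul_one, e1, e2, e3, e4, e5, e6, e7, e8, e9,
        true_or, or_true]
  inv_mem' := by
    rintro a (rfl | rfl | rfl | rfl)
    · exact Or.inl inv_one
    · exact Or.inr (Or.inl h.u_inv)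
    · exact Or.inr (Or.inr (Or.inl h.v_inv))
    · exact Or.inr (Or.inr (Or.inr h.w_inv))

theorem u_mem : u ∈ h.group := Or.inr (Or.inl rfl)
theorem v_mem : v ∈ h.group := Or.inr (Or.inr (Or.inl rfl))
theorem w_mem : w ∈ h.group := Or.inr (Or.inr (Or.inr rfl))

theorem isPGroup : IsPGroup 2 h.group := by
  intro x
  refine ⟨1, Subtype.ext ?_⟩
  rw [pow_one, Subgroup.coe_pow, sq, Subgroup.coe_one]
  rcases x.2 with e | e | e | e <;> rw [e]
  · rw [one_mul]
  · exact h.uu
  · exact h.vv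
  · exact h.ww

theorem isSolvable [Finite G] : Group.IsSolvable h.group :=
  haveI := h.isPGroup.isNilpotent
  inferInstance

theorem coprime [Finite G] {X : Subgroup G} (ho : Odd (Nat.card X)) :
    (Nat.card h.group).Coprime (Nat.card X) := by
  haveI := Fact.mk Nat.prime_two
  obtain ⟨n, hn⟩ := IsPGroup.iff_card.1 h.isPGroup
  rw [hn]
  exact ((Nat.coprime_two_left).2 ho).pow_left n

theorem mem_centralizer_group {x : G} (a : u * x = x * u) (b : v * x = x * v) :
    x ∈ Subgroup.centralizer (h.group : Set G) := by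
  rw [Subgroup.mem_centralizer_iff]
  rintro y (rfl | rfl | rfl | rfl)
  · rw [one_mul, mul_one]
  · exact a
  · exact b
  · rw [← h.uv, mul_assoc, b, ← mul_assoc, a, mul_assoc]

theorem inv_iff {Y : Subgroup G} :
    Inv u v Y ↔ h.group ≤ Subgroup.normalizer (Y : Set G) := by
  constructor
  · rintro ⟨hu, hv⟩ x (rfl | rfl | rfl | rfl)
    · exact one_mem _
    · exact mem_normalizer_invol h.uu hu
    · exact mem_normalizer_invol h.vv hv
    · rw [← h.uv]
      exact mul_mem (mem_normalizer_invol h.uu hu) (mem_normalizer_invol h.vv hv)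
  · intro hn
    exact ⟨fun x hx => invol_conj_mem h.uu (hn h.u_mem) hx,
      fun x hx => invol_conj_mem h.vv (hn h.v_mem) hx⟩

theorem inv_rot {Y : Subgroup G} (hY : Inv u v Y) : Inv v w Y :=
  h.rot.inv_iff.2 fun x hx => by
    refine h.inv_iff.1 hY ?_
    rcases hx with e | e | e | e
    · exact Or.inl e
    · exact Or.inr (Or.inr (Or.inl e))
    · exact Or.inr (Or.inr (Or.inr e))
    · exact Or.inr (Or.inl e)

theorem inv_inf {Y Z : Subgroup G} (hY : Inv u v Y) (hZ : Inv u v Z) : Inv u v (Y ⊓ Z) :=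
  ⟨fun x hx => ⟨hY.1 x hx.1, hZ.1 x hx.2⟩, fun x hx => ⟨hY.2 x hx.1, hZ.2 x hx.2⟩⟩

theorem inv_sup {Y Z : Subgroup G} (hY : Inv u v Y) (hZ : Inv u v Z) : Inv u v (Y ⊔ Z) :=
  h.inv_iff.2 fun x hx => by
    have h1 := Subgroup.mem_normalizer_iff_map_conj_eq.1 (h.inv_iff.1 hY hx)
    have h2 := Subgroup.mem_normalizer_iff_map_conj_eq.1 (h.inv_iff.1 hZ hx)
    rw [Subgroup.mem_normalizer_iff_map_conj_eq, Subgroup.map_sup, h1, h2]

theorem inv_normalizer {Y : Subgroup G} (hY : Inv u v Y) :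
    Inv u v (Subgroup.normalizer (Y : Set G)) :=
  h.inv_iff.2 ((h.inv_iff.1 hY).trans Subgroup.le_normalizer)

theorem inv_centralizer [Finite G] {Y : Subgroup G} (hY : Inv u v Y) :
    Inv u v (Subgroup.centralizer (Y : Set G)) :=
  h.inv_iff.2 ((h.inv_iff.1 hY).trans (FitOf.normalizer_le_normalizer_centralizer Y))

theorem inv_of_characteristic {Y : Subgroup G} (hY : Inv u v Y) (K : Subgroup Y)
    [hK : K.Characteristic] : Inv u v (K.map Y.subtype) := by
  refine h.inv_iff.2 ((h.inv_iff.1 hY).trans ?_)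
  intro m hm
  rw [Subgroup.mem_normalizer_iff_map_conj_eq]
  let e : MulAut Y := Y.normalizerMonoidHom ⟨m, hm⟩
  have he := Subgroup.characteristic_iff_map_eq.1 hK e
  conv_rhs => rw [← he]
  rw [Subgroup.map_map, Subgroup.map_map]
  rfl

theorem inv_pCoreOf [Finite G] {Y : Subgroup G} (hY : Inv u v Y) (p : ℕ) : Inv u v (pCoreOf p Y) :=
  haveI := FittingCores.pCore_characteristic (G := Y) p
  h.inv_of_characteristic hY _

theorem inv_fittingOf [Finite G] {Y : Subgroup G} (hY : Inv u v Y) : Inv u v (fittingOf Y) :=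
  haveI := FittingCores.fitting_characteristic (G := Y)
  h.inv_of_characteristic hY _

theorem inv_commutator {Y Z : Subgroup G} (hY : Inv u v Y) (hZ : Inv u v Z) :
    Inv u v ⁅Y, Z⁆ := by
  have key : ∀ a : G, a * a = 1 → (∀ x ∈ Y, a * x * a ∈ Y) → (∀ x ∈ Z, a * x * a ∈ Z) →
      ∀ x ∈ ⁅Y, Z⁆, a * x * a ∈ ⁅Y, Z⁆ := by
    intro a ha h1 h2 x hx
    induction hx using Subgroup.closure_induction with
    | mem z hz =>
      obtain ⟨y, hy, t, ht, rfl⟩ := hz
      have e : a * ⁅y, t⁆ * a = ⁅a * y * a, a * t * a⁆ := by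
        simp only [commutatorElement_def, invol_conj_mul ha, invol_conj_inv ha]
      rw [e]
      exact Subgroup.commutator_mem_commutator (h1 y hy) (h2 t ht)
    | one => rw [mul_one, ha]; exact one_mem _
    | mul p q _ _ hp hq => rw [invol_conj_mul ha]; exact mul_mem hp hq
    | inv p _ hp => rw [invol_conj_inv ha]; exact inv_mem hp
  exact ⟨key u h.uu hY.1 hZ.1, key v h.vv hY.2 hZ.2⟩

/-- The image under a homomorphism. -/
theorem map {G' : Type*} [Group G'] (f : G →* G') : Four (f u) (f v) (f w) :=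
  ⟨by rw [← map_mul, h.uu, map_one], by rw [← map_mul, h.vv, map_one],
    by rw [← map_mul, h.comm, map_mul], by rw [← map_mul, h.uv]⟩

theorem group_map {G' : Type*} [Group G'] (f : G →* G') :
    h.group.map f = (h.map f).group := by
  ext y
  constructor
  · rintro ⟨x, rfl | rfl | rfl | rfl, rfl⟩
    · exact Or.inl (map_one f)
    · exact Or.inr (Or.inl rfl)
    · exact Or.inr (Or.inr (Or.inl rfl))
    · exact Or.inr (Or.inr (Or.inr rfl))
  · rintro (rfl | rfl | rfl | rfl)
    · exact one_mem _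
    · exact ⟨u, h.u_mem, rfl⟩
    · exact ⟨v, h.v_mem, rfl⟩
    · exact ⟨w, h.w_mem, rfl⟩

end Four

namespace Fpf

variable [Finite G] {u v w : G} {X : Subgroup G} (h : Fpf u v w X)

include h

theorem inv : Inv u v X := ⟨h.memu, h.memv⟩

theorem mono' {Y : Subgroup G} (hY : Y ≤ X) (hi : Inv u v Y) : Fpf u v w Y := h.mono hY hi.1 hi.2

theorem inf_centralizer_eq_bot :
    X ⊓ Subgroup.centralizer (h.toFour.group : Set G) = ⊥ := by
  rw [eq_bot_iff]
  rintro x ⟨hx, hc⟩
  exact h.triv x hx (Subgroup.mem_centralizer_iff.1 hc u h.toFour.u_mem)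
    (Subgroup.mem_centralizer_iff.1 hc v h.toFour.v_mem)

/-- The image under a homomorphism. -/
theorem map {G' : Type*} [Group G'] [Finite G'] (f : G →* G') :
    Fpf (f u) (f v) (f w) (X.map f) := by
  have hF := h.toFour
  refine ⟨hF.map f, h.odd.of_dvd_nat (Subgroup.card_map_dvd (H := X) f), ?_, ?_, ?_⟩
  · rintro _ ⟨x, hx, rfl⟩
    exact ⟨u * x * u, h.memu x hx, by rw [map_mul, map_mul]⟩
  · rintro _ ⟨x, hx, rfl⟩
    exact ⟨v * x * v, h.memv x hx, by rw [map_mul, map_mul]⟩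
  · intro y hy a b
    have e := CoprimeAct.map_inf_centralizer f (hF.inv_iff.1 h.inv) (hF.coprime h.odd)
      (Or.inl hF.isSolvable)
    rw [h.inf_centralizer_eq_bot, Subgroup.map_bot, hF.group_map f] at e
    exact Subgroup.mem_bot.1 (e ▸ Subgroup.mem_inf.2 ⟨hy, (hF.map f).mem_centralizer_group a b⟩)

/-- Restriction to a subgroup containing the four-group. -/
theorem subgroupOf {M : Subgroup G} (hu : u ∈ M) (hv : v ∈ M) (hw : w ∈ M) (hXM : X ≤ M) :
    Fpf (⟨u, hu⟩ : M) ⟨v, hv⟩ ⟨w, hw⟩ (X.subgroupOf M) where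
  uu := Subtype.ext h.toFour.uu
  vv := Subtype.ext h.toFour.vv
  comm := Subtype.ext h.toFour.comm
  uv := Subtype.ext h.toFour.uv
  odd := by rw [Nat.card_congr (Subgroup.subgroupOfEquivOfLe hXM).toEquiv]; exact h.odd
  memu := fun x hx => h.memu x hx
  memv := fun x hx => h.memv x hx
  triv := fun x hx a b => Subtype.ext (h.triv x hx (congrArg Subtype.val a) (congrArg Subtype.val b))

/-- An invariant `p`-subgroup lies in an invariant Sylow subgroup. -/
theorem exists_sylow_ge {p : ℕ} [Fact p.Prime] {U : Subgroup G} (hUX : U ≤ X)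
    (hU : IsPGroup p U) (hi : Inv u v U) :
    ∃ P : Subgroup G, U ≤ P ∧ P ≤ X ∧ IsPGroup p P ∧ Inv u v P ∧
      Nat.card P = p ^ (Nat.card X).factorization p := by
  have hF := h.toFour
  obtain ⟨P, hUP, hP⟩ := CoprimeAct.exists_invariant_sylow_ge (hF.inv_iff.1 h.inv)
    (hF.coprime h.odd) (Or.inl hF.isSolvable) hUX hU (hF.inv_iff.1 hi)
  exact ⟨_, hUP, Subgroup.map_subtype_le _, P.isPGroup'.map _, hF.inv_iff.2 hP,
    CoprimeAct.card_map_sylow P⟩

theorem exists_sylow (p : ℕ) [Fact p.Prime] :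
    ∃ P : Subgroup G, P ≤ X ∧ IsPGroup p P ∧ Inv u v P ∧
      Nat.card P = p ^ (Nat.card X).factorization p := by
  obtain ⟨P, -, h1, h2, h3, h4⟩ := h.exists_sylow_ge (p := p) (U := ⊥) bot_le IsPGroup.of_bot
    ⟨fun x hx => by
      rw [Subgroup.mem_bot] at hx ⊢
      rw [hx, mul_one, h.toFour.uu],
     fun x hx => by
      rw [Subgroup.mem_bot] at hx ⊢
      rw [hx, mul_one, h.toFour.vv]⟩
  exact ⟨P, h1, h2, h3, h4⟩

/-- The invariant Sylow subgroup is unique. -/
theorem sylow_unique {p : ℕ} [Fact p.Prime] {P Q : Subgroup G} (hP : P ≤ X) (hQ : Q ≤ X)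
    (hPi : Inv u v P) (hQi : Inv u v Q) (hPc : Nat.card P = p ^ (Nat.card X).factorization p)
    (hQc : Nat.card Q = p ^ (Nat.card X).factorization p) : P = Q := by
  have hF := h.toFour
  obtain ⟨P', rfl⟩ := CoprimeAct.exists_sylow_of_card hP hPc
  obtain ⟨Q', rfl⟩ := CoprimeAct.exists_sylow_of_card hQ hQc
  obtain ⟨c, hc, hcPQ⟩ := CoprimeAct.invariant_sylow_conj (hF.inv_iff.1 h.inv)
    (hF.coprime h.odd) (Or.inl hF.isSolvable) P' Q' (hF.inv_iff.1 hPi) (hF.inv_iff.1 hQi)
  have : (c : G) = 1 := Subgroup.mem_bot.1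
    (h.inf_centralizer_eq_bot ▸ Subgroup.mem_inf.2 ⟨c.2, hc⟩)
  have hc1 : c = 1 := Subtype.ext this
  rw [hc1, map_one, one_smul] at hcPQ
  rw [hcPQ]

/-- An invariant `p`-subgroup lies in the invariant Sylow subgroup. -/
theorem le_sylow {p : ℕ} [Fact p.Prime] {U P : Subgroup G} (hUX : U ≤ X)
    (hU : IsPGroup p U) (hi : Inv u v U) (hP : P ≤ X) (hPi : Inv u v P)
    (hPc : Nat.card P = p ^ (Nat.card X).factorization p) : U ≤ P := by
  obtain ⟨P', hUP, hP'X, -, hP'i, hP'c⟩ := h.exists_sylow_ge hUX hU hi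
  rwa [h.sylow_unique hP hP'X hPi hP'i hPc hP'c]

end Fpf

end Cfsg.Agent.DGroup
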