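import Cfsg.Agent.Lib.DGroup.FourDerived
import Cfsg.Agent.Lib.PStable.FusionControl
import Cfsg.Agent.Lib.Transfer.Fusion
import Cfsg.Agent.S0047

/-!
# The minimal counterexample: a fixed point free four-group on a non-solvable group
-/

set_option autoImplicit false
set_option linter.unusedSectionVars false
set_option linter.style.haveILetI false

namespace Cfsg.Agent.DGroup

open Cfsg (fittingOf pCoreOf)
open Cfsg.Agent.OddOrder
open scoped commutatorElement

variable {G : Type*} [Group G] [Finite G]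

theorem commutator_self_le (Q : Subgroup G) : ⁅Q, Q⁆ ≤ Q :=
  Subgroup.commutator_le.2 fun a ha b hb => by
    rw [commutatorElement_def]
    exact mul_mem (mul_mem (mul_mem ha hb) (inv_mem ha)) (inv_mem hb)

namespace Four

variable {u v w : G} (h : Four u v w)

include h

theorem inv_rot' {Y : Subgroup G} (hY : Inv v w Y) : Inv u v Y :=
  h.rot.rot.inv_rot (h.rot.inv_rot hY)

theorem inv_swap {Y : Subgroup G} (hY : Inv u v Y) : Inv v u Y := ⟨hY.2, hY.1⟩

end Four

namespace Fpf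

variable {u v w : G} {X : Subgroup G}

theorem inv_centralizer_axis (h : Fpf u v w X) {z : G} (hz : z ∈ ax X u) :
    Inv u v (X ⊓ Subgroup.centralizer ({z} : Set G)) := by
  have huu := h.toFour.uu
  have hvv := h.toFour.vv
  have hzu : u * z * u = z := ((mem_ax' huu).1 hz).2
  have hzv : v * z * v = z⁻¹ := h.inverts hz
  constructor
  · rintro x ⟨hx, hc⟩
    refine ⟨h.memu x hx, Subgroup.mem_centralizer_singleton_iff.2 ?_⟩
    have e := congrArg (fun g => u * g * u) (Subgroup.mem_centralizer_singleton_iff.1 hc)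
    simp only [invol_conj_mul huu, hzu] at e
    exact e
  · rintro x ⟨hx, hc⟩
    refine ⟨h.memv x hx, Subgroup.mem_centralizer_singleton_iff.2 ?_⟩
    have e := congrArg (fun g => v * g * v) (Subgroup.mem_centralizer_singleton_iff.1 hc)
    simp only [invol_conj_mul hvv, hzv] at e
    exact (Commute.inv_right_iff.1 (show Commute (v * x * v) z⁻¹ from e)).eq

theorem ax_inter (h : Fpf u v w X) {x : G} (hu : x ∈ ax X u) (hv : x ∈ ax X v) : x = 1 :=
  h.triv x (ax_le _ _ hu) (mem_ax.1 hu).2 (mem_ax.1 hv).2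

end Fpf

/-- A minimal non-solvable group with a fixed point free four-group. -/
structure Min (u v w : G) (X : Subgroup G) : Prop where
  fpf : Fpf u v w X
  solv : ∀ Y : Subgroup G, Inv u v Y → Y < X → Group.IsSolvable Y
  simple : ∀ N : Subgroup G, Inv u v N → N < X → X ≤ Subgroup.normalizer (N : Set G) → N = ⊥
  ns : ¬ Group.IsSolvable X

/-- A maximal invariant proper subgroup. -/
def IsMaxI (u v : G) (X M : Subgroup G) : Prop :=
  Inv u v M ∧ M < X ∧ ∀ Y : Subgroup G, Inv u v Y → M ≤ Y → Y < X → Y = M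

/-- The invariant Sylow subgroup. -/
def ISyl (u v : G) (X : Subgroup G) (t : ℕ) (P : Subgroup G) : Prop :=
  P ≤ X ∧ IsPGroup t P ∧ Inv u v P ∧ Nat.card P = t ^ (Nat.card X).factorization t

/-- The centre of a subgroup, in the ambient group. -/
def zc (P : Subgroup G) : Subgroup G := P ⊓ Subgroup.centralizer (P : Set G)

namespace Min

variable {u v w : G} {X : Subgroup G} (h : Min u v w X)

include h

theorem rot : Min v w u X where
  fpf := h.fpf.rot
  solv Y hY := h.solv Y (h.fpf.toFour.inv_rot' hY)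
  simple N hN := h.simple N (h.fpf.toFour.inv_rot' hN)
  ns := h.ns

theorem swap : Min v u w X where
  fpf := h.fpf.swap
  solv Y hY := h.solv Y (h.fpf.toFour.swap.inv_swap hY)
  simple N hN := h.simple N (h.fpf.toFour.swap.inv_swap hN)
  ns := h.ns

theorem swap' : Min u w v X := h.swap.rot

omit h in
theorem isMaxI_rot (hF : Four u v w) {M : Subgroup G} (hM : IsMaxI u v X M) : IsMaxI v w X M :=
  ⟨hF.inv_rot hM.1, hM.2.1, fun Y hY => hM.2.2 Y (hF.inv_rot' hY)⟩

theorem ne_bot : X ≠ ⊥ := fun e => h.ns (by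
  haveI : Subsingleton X := by rw [e]; infer_instance
  infer_instance)

theorem not_comm : ¬ IsMulCommutative X := fun hc => h.ns
  (Group.isSolvable_of_comm fun a b => mul_comm' a b)

theorem perfect : ⁅X, X⁆ = X := by
  by_contra hne
  have hle := commutator_self_le X
  have e := h.simple _ (h.fpf.toFour.inv_commutator h.fpf.inv h.fpf.inv)
    (lt_of_le_of_ne hle hne)
    (fun x hx => by
      rw [Subgroup.mem_normalizer_iff_map_conj_eq, Subgroup.map_commutator,
        Subgroup.mem_normalizer_iff_map_conj_eq.1 (Subgroup.le_normalizer hx)])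
  rw [Subgroup.commutator_eq_bot_iff_le_centralizer] at e
  exact h.not_comm (.of_setLike_mul_comm fun a ha b hb =>
    (Subgroup.mem_centralizer_iff.1 (e ha) b hb).symm)

theorem centre_eq_bot {z : G} (hz : z ∈ X) (hc : ∀ x ∈ X, x * z = z * x) : z = 1 := by
  have hn : X ≤ Subgroup.normalizer ((zc X : Subgroup G) : Set G) :=
    FitOf.le_normalizer_inf Subgroup.le_normalizer
      (Subgroup.le_normalizer.trans (FitOf.normalizer_le_normalizer_centralizer X))
  have hlt : zc X < X := lt_of_le_of_ne inf_le_left fun e => h.not_comm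
    (.of_setLike_mul_comm fun a ha b hb =>
      (Subgroup.mem_centralizer_iff.1 (inf_eq_left.1 e ha) b hb).symm)
  have e := h.simple _ (h.fpf.toFour.inv_inf h.fpf.inv (h.fpf.toFour.inv_centralizer h.fpf.inv))
    hlt hn
  have : z ∈ X ⊓ Subgroup.centralizer (X : Set G) := ⟨hz, Subgroup.mem_centralizer_iff.2 hc⟩
  rwa [e, Subgroup.mem_bot] at this

theorem exists_max {Y : Subgroup G} (hi : Inv u v Y) (hY : Y < X) :
    ∃ M, Y ≤ M ∧ IsMaxI u v X M := by
  obtain ⟨M, hYM, ⟨hMi, hMX⟩, hmax⟩ := Finite.exists_le_maximal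
    (p := fun S : Subgroup G => Inv u v S ∧ S < X) ⟨hi, hY⟩
  exact ⟨M, hYM, hMi, hMX, fun Z hZ hMZ hZX => le_antisymm (hmax ⟨hZ, hZX⟩ hMZ) hMZ⟩

theorem inf_normalizer_lt {Q : Subgroup G} (hQi : Inv u v Q) (hQX : Q < X) (hQ : Q ≠ ⊥) :
    X ⊓ Subgroup.normalizer (Q : Set G) < X :=
  lt_of_le_of_ne inf_le_left fun e => hQ (h.simple Q hQi hQX (inf_eq_left.1 e))

theorem centralizer_lt {z : G} (hz : z ∈ X) (hz1 : z ≠ 1) :
    X ⊓ Subgroup.centralizer ({z} : Set G) < X :=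
  lt_of_le_of_ne inf_le_left fun e => hz1 (h.centre_eq_bot hz fun x hx =>
    Subgroup.mem_centralizer_singleton_iff.1 (inf_eq_left.1 e hx))

theorem ax_ne_bot : ax X u ≠ ⊥ := by
  intro e
  have key : ∀ x ∈ X, u * x * u = x⁻¹ := by
    intro x hx
    obtain ⟨c, hc, i, hi, hiu, rfl⟩ := h.fpf.rot.exists_fixed_mul_inverted hx
    rw [e, Subgroup.mem_bot] at hc
    rw [hc, one_mul, hiu]
  refine h.not_comm (.of_setLike_mul_comm fun a ha b hb => ?_)
  have e2 := key _ (mul_mem ha hb)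
  rw [invol_conj_mul h.fpf.toFour.uu, key a ha, key b hb, mul_inv_rev] at e2
  simpa using (congrArg (·⁻¹) e2).symm

/-- No invariant proper subgroup contains two axes. -/
theorem two_axes {M : Subgroup G} (hi : Inv u v M) (hM : M < X) :
    ¬ (ax X u ≤ M ∧ ax X v ≤ M) := by
  classical
  rintro ⟨hu, hv⟩
  have hF := h.fpf
  have hww := hF.toFour.ww
  have hMF : Fpf u v w M := hF.mono' hM.le hi
  have hdec : ∀ x ∈ X, ∃ c ∈ ax X w, ∃ m ∈ M, x = c * m := by
    intro x hx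
    obtain ⟨c, hc, a, ha, b, hb, rfl⟩ := hF.exists_caba hx
    exact ⟨c, hc, a * b * a, mul_mem (mul_mem (hu ha) (hv hb)) (hu ha), rfl⟩
  set S : Set G := {g | ∃ x ∈ X, ∃ b ∈ ax M w, g = x⁻¹ * b * x}
  set N := Subgroup.closure S with hN
  have hNM : N ≤ M := by
    rw [hN, Subgroup.closure_le]
    rintro _ ⟨x, hx, b, hb, rfl⟩
    obtain ⟨c, hc, m, hm, rfl⟩ := hdec x hx
    have e : c⁻¹ * b * c = b := by
      have := hF.rot.rot.ax_comm (ax_mono hM.le w hb) hc
      rw [mul_assoc, this, inv_mul_cancel_left]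
    have e' : (c * m)⁻¹ * b * (c * m) = m⁻¹ * (c⁻¹ * b * c) * m := by group
    rw [SetLike.mem_coe, e', e]
    exact mul_mem (mul_mem (inv_mem hm) (ax_le _ _ hb)) hm
  have hconj : ∀ a : G, a * a = 1 → (∀ x ∈ X, a * x * a ∈ X) →
      (∀ b ∈ ax M w, a * b * a ∈ ax M w) → ∀ g ∈ N, a * g * a ∈ N := by
    intro a ha h1 h2 g hg
    induction hg using Subgroup.closure_induction with
    | mem z hz =>
      obtain ⟨x, hx, b, hb, rfl⟩ := hz
      exact Subgroup.subset_closure ⟨a * x * a, h1 x hx, a * b * a, h2 b hb, by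
        rw [invol_conj_mul ha, invol_conj_mul ha, invol_conj_inv ha]⟩
    | one => rw [mul_one, ha]; exact one_mem _
    | mul p q _ _ hp hq => rw [invol_conj_mul ha]; exact mul_mem hp hq
    | inv p _ hp => rw [invol_conj_inv ha]; exact inv_mem hp
  have hNi : Inv u v N := by
    refine ⟨hconj u hF.toFour.uu hF.memu fun b hb => ?_,
      hconj v hF.toFour.vv hF.memv fun b hb => ?_⟩
    · rw [hMF.rot.rot.inverts hb]; exact inv_mem hb
    · rw [hMF.rot.rot.inverts' hb]; exact inv_mem hb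
  have hXN : X ≤ Subgroup.normalizer (N : Set G) := by
    intro g hg
    have key : ∀ r ∈ X, ∀ z ∈ N, r * z * r⁻¹ ∈ N := by
      intro r hr z hz
      induction hz using Subgroup.closure_induction with
      | mem z hz =>
        obtain ⟨x, hx, b, hb, rfl⟩ := hz
        exact Subgroup.subset_closure ⟨x * r⁻¹, mul_mem hx (inv_mem hr), b, hb, by group⟩
      | one => simp
      | mul a b _ _ ha hb =>
        rw [show r * (a * b) * r⁻¹ = (r * a * r⁻¹) * (r * b * r⁻¹) by group]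
        exact mul_mem ha hb
      | inv a _ ha =>
        rw [show r * a⁻¹ * r⁻¹ = (r * a * r⁻¹)⁻¹ by group]
        exact inv_mem ha
    rw [Subgroup.mem_normalizer_iff]
    intro y
    refine ⟨key g hg y, fun hy => ?_⟩
    have := key g⁻¹ (inv_mem hg) _ hy
    simpa [mul_assoc] using this
  have hN1 := h.simple N hNi (lt_of_le_of_lt hNM hM) hXN
  have hMw : ∀ m ∈ M, w * m * w = m⁻¹ := by
    intro m hm
    obtain ⟨c, hc, i, hi', hiw, rfl⟩ := hMF.exists_fixed_mul_inverted hm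
    have hc1 : c ∈ N := Subgroup.subset_closure ⟨1, one_mem _, c, hc, by group⟩
    rw [hN1, Subgroup.mem_bot] at hc1
    rw [hc1, one_mul, hiw]
  haveI : IsMulCommutative (M.subgroupOf X) := by
    refine .of_setLike_mul_comm fun a ha b hb => ?_
    have e2 := hMw _ (mul_mem (Subgroup.mem_subgroupOf.1 ha) (Subgroup.mem_subgroupOf.1 hb))
    rw [invol_conj_mul hww, hMw _ (Subgroup.mem_subgroupOf.1 ha),
      hMw _ (Subgroup.mem_subgroupOf.1 hb), mul_inv_rev] at e2
    exact Subtype.ext (by simpa using (congrArg (·⁻¹) e2).symm)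
  haveI : IsMulCommutative ((ax X w).subgroupOf X) :=
    .of_setLike_mul_comm fun a ha b hb => Subtype.ext
      (hF.rot.rot.ax_comm (Subgroup.mem_subgroupOf.1 ha) (Subgroup.mem_subgroupOf.1 hb))
  refine h.ns (S0047.result ((ax X w).subgroupOf X) (M.subgroupOf X) fun g => ?_)
  obtain ⟨c, hc, m, hm, e⟩ := hdec g g.2
  exact ⟨⟨c, ax_le _ _ hc⟩, hc, ⟨m, hM.le hm⟩, hm, Subtype.ext e⟩

end Min

namespace Min

variable {u v w : G} {X : Subgroup G} {t : ℕ} [Fact t.Prime] {P : Subgroup G}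

theorem syl_le (h : Min u v w X) (hP : ISyl u v X t P) {U : Subgroup G} (hUX : U ≤ X)
    (hU : IsPGroup t U) (hi : Inv u v U) : U ≤ P :=
  h.fpf.le_sylow hUX hU hi hP.1 hP.2.2.1 hP.2.2.2

theorem syl_lt (h : Min u v w X) (hP : ISyl u v X t P) : P < X :=
  lt_of_le_of_ne hP.1 fun e => h.ns (by
    haveI := hP.2.1.isNilpotent
    subst e
    infer_instance)

theorem syl_rot (hF : Four u v w) (hP : ISyl u v X t P) : ISyl v w X t P :=
  ⟨hP.1, hP.2.1, hF.inv_rot hP.2.2.1, hP.2.2.2⟩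

theorem syl_swap (hP : ISyl u v X t P) : ISyl v u X t P :=
  ⟨hP.1, hP.2.1, ⟨hP.2.2.1.2, hP.2.2.1.1⟩, hP.2.2.2⟩

/-- The normalizer of the invariant Sylow subgroup controls its fusion. -/
theorem fusion (h : Min u v w X) (hP : ISyl u v X t P) (hP1 : P ≠ ⊥) :
    P ≤ ⁅X ⊓ Subgroup.normalizer (P : Set G), X ⊓ Subgroup.normalizer (P : Set G)⁆ ∧
    IsMaxI u v X (X ⊓ Subgroup.normalizer (P : Set G)) ∧
    ∀ a ∈ P, ∀ g ∈ X, g * a * g⁻¹ ∈ P →
      ∃ n ∈ X ⊓ Subgroup.normalizer (P : Set G), n * a * n⁻¹ = g * a * g⁻¹ := by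
  classical
  have hF := h.fpf
  set NP := X ⊓ Subgroup.normalizer (P : Set G) with hNP
  set J := ZJ.zJ t True P with hJ
  set NJ := X ⊓ Subgroup.normalizer (J : Set G) with hNJ
  obtain ⟨P', hP'⟩ := CoprimeAct.exists_sylow_of_card hP.1 hP.2.2.2
  have ht2 : t ≠ 2 := by
    intro e
    obtain ⟨n, hn⟩ := IsPGroup.iff_card.1 hP.2.1
    rcases n with _ | n
    · exact hP1 (Subgroup.card_eq_one.1 (by simpa using hn))
    · have h1 : t ∣ Nat.card X := (hn ▸ dvd_pow_self t n.succ_ne_zero).trans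
        (Subgroup.card_dvd_of_le hP.1)
      rw [e] at h1
      exact (Nat.not_even_iff_odd.2 hF.odd) (even_iff_two_dvd.2 h1)
  have hsl : ¬ Cfsg.Involves (Matrix.SpecialLinearGroup (Fin 2) (ZMod t)) X := by
    rintro ⟨K, R, hR, ⟨e⟩⟩
    have hneg : orderOf (-1 : Matrix.SpecialLinearGroup (Fin 2) (ZMod t)) = 2 := by
      haveI : Fact (2 < t) := ⟨lt_of_le_of_ne (Fact.out : t.Prime).two_le (Ne.symm ht2)⟩
      refine orderOf_eq_prime (by simp) fun e1 => ?_
      have := congrArg (fun m : Matrix.SpecialLinearGroup (Fin 2) (ZMod t) =>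
        (m : Matrix (Fin 2) (Fin 2) (ZMod t)) 0 0) e1
      simp at this
      exact ZMod.neg_one_ne_one this
    have h2 : 2 ∣ Nat.card (Matrix.SpecialLinearGroup (Fin 2) (ZMod t)) :=
      (dvd_of_eq hneg.symm).trans (orderOf_dvd_natCard _)
    rw [← Nat.card_congr e.toEquiv] at h2
    have h3 := h2.trans (Subgroup.card_quotient_dvd_card _)
    have h4 : 2 ∣ Nat.card X := h3.trans (Subgroup.card_subgroup_dvd_card K)
    exact (Nat.not_even_iff_odd.2 hF.odd) (even_iff_two_dvd.2 h4)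
  have hJmap : (ZJ.zJ t True (P' : Subgroup X)).map X.subtype = J := by
    rw [ZJ.zJ_map X.subtype X.subtype_injective.injOn, hP', hJ]
  -- fusion is controlled by the normalizer of `ZJ`
  have hfus : ∀ a ∈ P, ∀ g ∈ X, g * a * g⁻¹ ∈ P → ∃ n ∈ NJ, n * a * n⁻¹ = g * a * g⁻¹ := by
    intro a ha g hg hga
    obtain ⟨a', ha', e1⟩ : ∃ a' ∈ (P' : Subgroup X), (a' : G) = a := by
      have : a ∈ (P' : Subgroup X).map X.subtype := hP'.symm ▸ ha
      exact this
    have hga' : (⟨g, hg⟩ : X) * a' * (⟨g, hg⟩ : X)⁻¹ ∈ (P' : Subgroup X) := by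
      have : g * a * g⁻¹ ∈ (P' : Subgroup X).map X.subtype := hP'.symm ▸ hga
      obtain ⟨b, hb, hbe⟩ := this
      rwa [show (⟨g, hg⟩ : X) * a' * (⟨g, hg⟩ : X)⁻¹ = b from Subtype.ext (by
        simp [e1, ← hbe])]
    obtain ⟨n, hn, hna⟩ := PStable.exists_mem_normalizer_zJ (e := True) ht2
      (fun Y _ _ hY _ => PStable.isQuad_of_not_involves_sl2 ht2
        (PStable.not_involves_section hsl hY))
      P' (A := {a'}) (g := ⟨g, hg⟩) (Set.singleton_subset_iff.2 ha')
      (by rw [Set.image_singleton, Set.singleton_subset_iff]; exact hga')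
    refine ⟨n, ⟨n.2, ?_⟩, ?_⟩
    · show (n : G) ∈ Subgroup.normalizer (J : Set G)
      rw [← hJmap, Subgroup.mem_normalizer_iff_map_conj_eq, Subgroup.map_map]
      conv_rhs => rw [← Subgroup.mem_normalizer_iff_map_conj_eq.1 hn]
      rw [Subgroup.map_map]
      rfl
    · have := congrArg Subtype.val (hna a' (Set.mem_singleton _))
      simpa [e1] using this
  have hPNJ : P ≤ NJ := le_inf hP.1 (ZJ.le_normalizer_zJ P)
  -- so `P` lies in the derived subgroup
  have hPder : P ≤ ⁅NJ, NJ⁆ := by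
    have e := Fusion.commutator_inf_eq_of_controlsFusion P' (NJ.subgroupOf X)
      (fun x hx => hPNJ (hP' ▸ ⟨x, hx, rfl⟩))
      (fun x hx g hg => by
        obtain ⟨n, hn, hne⟩ := hfus x (hP' ▸ ⟨x, hx, rfl⟩) g g.2 (by
          rw [← hP']; exact ⟨g * x * g⁻¹, hg, by simp⟩)
        exact ⟨⟨n, hn.1⟩, hn, Subtype.ext (by simpa using hne)⟩)
    have hXc : commutator X = ⊤ := by
      rw [commutator_def]
      apply Subgroup.map_injective X.subtype_injective
      rw [Subgroup.map_commutator, ← MonoidHom.range_eq_map, Subgroup.range_subtype]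
      exact h.perfect
    rw [hXc, top_inf_eq] at e
    intro x hx
    obtain ⟨x', hx', rfl⟩ : x ∈ (P' : Subgroup X).map X.subtype := hP'.symm ▸ hx
    have hm : x' ∈ ⁅NJ.subgroupOf X, NJ.subgroupOf X⁆ := (e.le hx').1
    have hcm : (⁅NJ.subgroupOf X, NJ.subgroupOf X⁆).map X.subtype = ⁅NJ, NJ⁆ := by
      rw [Subgroup.map_commutator,
        Subgroup.map_subgroupOf_eq_of_le (inf_le_left : NJ ≤ X)]
    rw [← hcm]
    exact ⟨x', hm, rfl⟩
  have hJi : Inv u v J := hF.toFour.inv_iff.2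
    ((hF.toFour.inv_iff.1 hP.2.2.1).trans (ZJ.normalizer_le_normalizer_zJ P))
  have hJ1 : J ≠ ⊥ := fun e => ZJ.zCore_ne_bot hP.2.1 hP1
    (eq_bot_mono (ZJ.zCore_le_zJ P) e)
  have hJX : J < X := lt_of_le_of_lt (ZJ.zJ_le P) (h.syl_lt hP)
  have hNJi : Inv u v NJ := hF.toFour.inv_inf hF.inv (hF.toFour.inv_normalizer hJi)
  have hNJlt : NJ < X := h.inf_normalizer_lt hJi hJX hJ1
  -- a proper invariant subgroup with `P` in its derived subgroup normalises `P`
  have key : ∀ M : Subgroup G, Inv u v M → M < X → P ≤ ⁅M, M⁆ →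
      M ≤ Subgroup.normalizer (P : Set G) := by
    intro M hMi hMX hPM
    haveI := h.solv M hMi hMX
    have hMF := hF.mono' hMX.le hMi
    have hPF : P ≤ fittingOf M := hPM.trans hMF.derived_le_fitting
    have hPc : P ≤ pCoreOf t M := by
      refine hMF.mem_pCoreOf_of_centralises (hPM.trans (commutator_self_le M)) hP.2.1
        fun s hs hne => ?_
      haveI := Fact.mk hs
      intro x hx
      have hx' := hPF hx
      rw [Subgroup.mem_centralizer_iff]
      intro y hy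
      haveI := FitOf.fittingOf_nilpotent M
      exact (Subgroup.mem_centralizer_iff.1 (SolvMinNN.le_centralizer_of_nilpotent
        (W := fittingOf M) (A := P) (B := pCoreOf s M) hPF (FitOf.pCoreOf_le_fittingOf hs M)
        (Fact.out : t.Prime) hs hne.symm hP.2.1 (FitOf.isPGroup_pCoreOf s M) hx) y hy)
    have e : pCoreOf t M = P := le_antisymm
      (h.syl_le hP ((FitOf.pCoreOf_le t M).trans hMX.le) (FitOf.isPGroup_pCoreOf t M)
        (hF.toFour.inv_pCoreOf hMi t)) hPc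
    calc M ≤ Subgroup.normalizer (pCoreOf t M : Set G) := FitOf.le_normalizer_pCoreOf t M
      _ = _ := by rw [e]
  have hJP : NJ ≤ NP := le_inf inf_le_left (key NJ hNJi hNJlt hPder)
  have hPJ : NP ≤ NJ := inf_le_inf_left _ (ZJ.normalizer_le_normalizer_zJ P)
  have heq : NJ = NP := le_antisymm hJP hPJ
  refine ⟨heq ▸ hPder, ⟨heq ▸ hNJi, heq ▸ hNJlt, fun Y hY hle hlt => ?_⟩, heq ▸ hfus⟩
  refine le_antisymm (le_inf hlt.le (key Y hY hlt ?_)) hle
  exact hPder.trans (Subgroup.commutator_mono (heq ▸ hle) (heq ▸ hle))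

theorem exists_isyl (h : Min u v w X) (t : ℕ) [Fact t.Prime] : ∃ P, ISyl u v X t P :=
  h.fpf.exists_sylow t

theorem ne_bot_of_core (h : Min u v w X) (hP : ISyl u v X t P) {M : Subgroup G}
    (hMi : Inv u v M) (hM : M ≤ X) (hQ : pCoreOf t M ≠ ⊥) : P ≠ ⊥ := fun e => hQ
  (le_bot_iff.1 (e ▸ h.syl_le hP ((FitOf.pCoreOf_le t M).trans hM) (FitOf.isPGroup_pCoreOf t M)
    (h.fpf.toFour.inv_pCoreOf hMi t)))

theorem zc_inv (h : Min u v w X) (hP : ISyl u v X t P) : Inv u v (zc P) :=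
  h.fpf.toFour.inv_inf hP.2.2.1 (h.fpf.toFour.inv_centralizer hP.2.2.1)

theorem zc_ne_bot (hP : ISyl u v X t P) (hP1 : P ≠ ⊥) : zc P ≠ ⊥ := by
  haveI : Nontrivial P := (Subgroup.nontrivial_iff_ne_bot P).2 hP1
  haveI := hP.2.1.center_nontrivial
  obtain ⟨⟨z, hz⟩, hz1⟩ := exists_ne (1 : Subgroup.center P)
  intro e
  have : (z : G) ∈ zc P := ⟨z.2, Subgroup.mem_centralizer_iff.2 fun y hy =>
    congrArg Subtype.val (Subgroup.mem_center_iff.1 hz ⟨y, hy⟩)⟩
  rw [e, Subgroup.mem_bot] at this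
  exact hz1 (Subtype.ext (Subtype.ext this))

/-- When the centre of `P` lies on one axis, the normalizer of `P` centralises it. -/
theorem norm_centralises (h : Min u v w X) (hP : ISyl u v X t P) (hZ : zc P ≤ ax X u) {z : G}
    (hz : z ∈ zc P) : ∀ y ∈ X ⊓ Subgroup.normalizer (P : Set G), y * z = z * y := by
  have hF := h.fpf
  set NP := X ⊓ Subgroup.normalizer (P : Set G) with hNP
  have hNi : Inv u v NP := hF.toFour.inv_inf hF.inv (hF.toFour.inv_normalizer hP.2.2.1)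
  have hNF : Fpf u v w NP := hF.mono' inf_le_left hNi
  have hNz : NP ≤ Subgroup.normalizer (zc P : Set G) :=
    FitOf.le_normalizer_inf inf_le_right
      (inf_le_right.trans (FitOf.normalizer_le_normalizer_centralizer P))
  have hax : ∀ y ∈ NP, u * y * u = y⁻¹ → Commute y z := by
    intro y hy hyu
    have hy' : y * z * y⁻¹ ∈ ax X u := hZ ((Subgroup.mem_normalizer_iff.1 (hNz hy) z).1 hz)
    have e := ((mem_ax' hF.toFour.uu).1 hy').2
    rw [invol_conj_mul hF.toFour.uu, invol_conj_mul hF.toFour.uu, invol_conj_inv hF.toFour.uu,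
      hyu, ((mem_ax' hF.toFour.uu).1 (hZ hz)).2, inv_inv] at e
    have h2 : Commute (y * y) z := by
      show y * y * z = z * (y * y)
      calc y * y * z = y * (y * z * y⁻¹) * y := by group
        _ = y * (y⁻¹ * z * y) * y := by rw [e]
        _ = _ := by group
    have := h2.pow_left ((Nat.card X + 1) / 2)
    rwa [show (y * y) ^ ((Nat.card X + 1) / 2) = y from sq_injective hF.odd
      (pow_mem (mul_mem hy.1 hy.1) _) hy.1 (rt_sq hF.odd (mul_mem hy.1 hy.1))] at this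
  intro y hy
  obtain ⟨c, hc, a, ha, b, hb, rfl⟩ := hNF.exists_caba hy
  have h1 : Commute c z := hax c (ax_le _ _ hc) (hNF.rot.rot.inverts hc)
  have h2 : Commute a z := hF.ax_comm (ax_mono inf_le_left u ha) (hZ hz)
  have h3 : Commute b z := hax b (ax_le _ _ hb) (hNF.swap.inverts hb)
  exact h1.mul_left ((h2.mul_left h3).mul_left h2)

theorem centralizer_eq (h : Min u v w X) (hP : ISyl u v X t P) (hP1 : P ≠ ⊥)
    (hZ : zc P ≤ ax X u) {z : G} (hz : z ∈ zc P) (hz1 : z ≠ 1) :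
    X ⊓ Subgroup.centralizer ({z} : Set G) = X ⊓ Subgroup.normalizer (P : Set G) := by
  refine (h.fusion hP hP1).2.1.2.2 _ (h.fpf.inv_centralizer_axis (hZ hz)) (le_inf inf_le_left ?_)
    (h.centralizer_lt (hP.1 hz.1) hz1)
  intro y hy
  exact Subgroup.mem_centralizer_singleton_iff.2 (h.norm_centralises hP hZ hz y hy)

theorem ax_le_norm (h : Min u v w X) (hP : ISyl u v X t P) (hP1 : P ≠ ⊥)
    (hZ : zc P ≤ ax X u) : ax X u ≤ X ⊓ Subgroup.normalizer (P : Set G) := by
  obtain ⟨z, hz, hz1⟩ := (Subgroup.ne_bot_iff_exists_ne_one.1 (zc_ne_bot hP hP1)) |>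
    fun ⟨⟨z, hz⟩, e⟩ => (⟨z, hz, fun h1 => e (Subtype.ext h1)⟩ : ∃ z ∈ zc P, z ≠ 1)
  rw [← h.centralizer_eq hP hP1 hZ hz hz1]
  exact fun x hx => ⟨ax_le _ _ hx, Subgroup.mem_centralizer_singleton_iff.2
    (h.fpf.ax_comm hx (hZ hz))⟩

/-- A central element of `P` in `O_t(M)` on one axis puts `M` in the normalizer of `P`. -/
theorem le_norm_of_core (h : Min u v w X) (hP : ISyl u v X t P) (hP1 : P ≠ ⊥)
    (hZ : zc P ≤ ax X u) {M : Subgroup G} (hMi : Inv u v M) (hM : M ≤ X) {z : G}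
    (hz : z ∈ zc P) (hzQ : z ∈ pCoreOf t M) (hz1 : z ≠ 1) :
    M ≤ X ⊓ Subgroup.normalizer (P : Set G) := by
  rw [← h.centralizer_eq hP hP1 hZ hz hz1]
  intro m hm
  refine ⟨hM hm, Subgroup.mem_centralizer_singleton_iff.2 ?_⟩
  have hQP : pCoreOf t M ≤ P := h.syl_le hP ((FitOf.pCoreOf_le t M).trans hM)
    (FitOf.isPGroup_pCoreOf t M) (h.fpf.toFour.inv_pCoreOf hMi t)
  have hmz := hQP ((Subgroup.mem_normalizer_iff.1 (FitOf.le_normalizer_pCoreOf t M hm) z).1 hzQ)
  obtain ⟨n, hn, e⟩ := (h.fusion hP hP1).2.2 z hz.1 m (hM hm) hmz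
  rw [h.norm_centralises hP hZ hz n hn, mul_inv_cancel_right] at e
  calc m * z = (m * z * m⁻¹) * m := by group
    _ = z * m := by rw [← e]

/-- The invariant subgroups of order prime to `t` normalised by `P`. -/
def fam (u v : G) (X : Subgroup G) (t : ℕ) (P : Subgroup G) : Set G :=
  {x | ∃ U : Subgroup G, U ≤ X ∧ Inv u v U ∧ (∃ s : ℕ, s.Prime ∧ s ≠ t ∧ IsPGroup s U) ∧
    P ≤ Subgroup.normalizer (U : Set G) ∧ x ∈ U}

/-- The elements of `P` centralising that family. -/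
def zz (u v : G) (X : Subgroup G) (t : ℕ) (P : Subgroup G) : Subgroup G :=
  P ⊓ Subgroup.centralizer (fam u v X t P)

theorem zz_rot (hF : Four u v w) : zz v w X t P = zz u v X t P := by
  have : fam v w X t P = fam u v X t P := by
    ext x
    exact ⟨fun ⟨U, h1, h2, h3⟩ => ⟨U, h1, hF.inv_rot' h2, h3⟩,
      fun ⟨U, h1, h2, h3⟩ => ⟨U, h1, hF.inv_rot h2, h3⟩⟩
  rw [zz, zz, this]

theorem zz_swap : zz v u X t P = zz u v X t P := by
  have : fam v u X t P = fam u v X t P := by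
    ext x
    exact ⟨fun ⟨U, h1, h2, h3⟩ => ⟨U, h1, ⟨h2.2, h2.1⟩, h3⟩,
      fun ⟨U, h1, h2, h3⟩ => ⟨U, h1, ⟨h2.2, h2.1⟩, h3⟩⟩
  rw [zz, zz, this]

theorem zz_inv (h : Min u v w X) (hP : ISyl u v X t P) : Inv u v (zz u v X t P) := by
  have key : ∀ a : G, a * a = 1 → (∀ x ∈ P, a * x * a ∈ P) →
      (∀ U : Subgroup G, Inv u v U → ∀ x ∈ U, a * x * a ∈ U) →
      ∀ x ∈ zz u v X t P, a * x * a ∈ zz u v X t P := by
    intro a ha h1 h2 x hx
    refine ⟨h1 x hx.1, Subgroup.mem_centralizer_iff.2 ?_⟩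
    rintro y ⟨U, hU1, hU2, hU3, hU4, hy⟩
    have e := Subgroup.mem_centralizer_iff.1 hx.2 (a * y * a)
      ⟨U, hU1, hU2, hU3, hU4, h2 U hU2 y hy⟩
    have e2 := congrArg (fun g => a * g * a) e
    simp only [invol_conj_mul ha] at e2
    rw [← invol_conj_mul ha a y, ← invol_conj_mul ha (a * y) a, invol_conj_conj ha] at e2
    exact e2
  exact ⟨key u h.fpf.toFour.uu hP.2.2.1.1 fun U hU => hU.1,
    key v h.fpf.toFour.vv hP.2.2.1.2 fun U hU => hU.2⟩

/-- Off-axis elements of the core centralise the family. -/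
theorem core_axis_mem_zz (h : Min u v w X) (hP : ISyl u v X t P) {M : Subgroup G}
    (hMi : Inv u v M) (hM : M ≤ X) (hu : ax X u ≤ M) (hPM : P ≤ M) {c : G}
    (hc : c ∈ ax (pCoreOf t M) v) : c ∈ zz u v X t P := by
  have hF := h.fpf
  set Q := pCoreOf t M with hQ
  have hQM : Q ≤ M := FitOf.pCoreOf_le t M
  have hQP : Q ≤ P := h.syl_le hP (hQM.trans hM) (FitOf.isPGroup_pCoreOf t M)
    (hF.toFour.inv_pCoreOf hMi t)
  have hcP : c ∈ P := hQP (ax_le _ _ hc)
  refine ⟨hcP, Subgroup.mem_centralizer_iff.2 ?_⟩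
  rintro y ⟨U, hUX, hUi, ⟨s, hs, hne, hUs⟩, hPU, hy⟩
  haveI := Fact.mk hs
  have hcU : ∀ x ∈ U, c * x * c⁻¹ ∈ U := fun x hx => (Subgroup.mem_normalizer_iff.1 (hPU hcP) x).1 hx
  have hTQ : U ⊓ M ≤ Subgroup.centralizer (Q : Set G) := fun a ha =>
    Subgroup.mem_centralizer_iff.2 fun b hb => (AxB.commute_of_coprime (H := U ⊓ M) (K := Q)
      (inf_le_right.trans (FitOf.le_normalizer_pCoreOf t M))
      (FitOf.le_normalizer_inf (hQP.trans hPU) (hQM.trans Subgroup.le_normalizer))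
      (IsPGroup.coprime_card_of_ne s t hne _ _ (hUs.to_le inf_le_left)
        (FitOf.isPGroup_pCoreOf t M)) ha hb).symm
  have hcu : ∀ x ∈ ax U u, c * x = x * c := fun x hx => Subgroup.mem_centralizer_iff.1
    (hTQ ⟨ax_le _ _ hx, hu (ax_mono hUX u hx)⟩) c (ax_le _ _ hc)
  obtain ⟨n, hn⟩ := IsPGroup.iff_card.1 hUs
  obtain ⟨m, hm⟩ := IsPGroup.iff_orderOf.1 hP.2.1 ⟨c, hcP⟩
  rw [Subgroup.orderOf_mk] at hm
  have hco : (orderOf c).Coprime (Nat.card U) := by
    rw [hm, hn]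
    exact ((Nat.coprime_primes (Fact.out : t.Prime) hs).2 hne.symm).pow _ _
  exact (hF.swap.centralises_of_axis hUX hUi.2 hUi.1 (ax_mono (hQM.trans hM) v hc) hcU hcu hco
    y hy).symm

theorem zz_le_core (h : Min u v w X) (hP : ISyl u v X t P) {M : Subgroup G}
    (hMi : Inv u v M) (hM : M < X) (hPM : P ≤ M) : zz u v X t P ≤ pCoreOf t M := by
  haveI := h.solv M hMi hM
  refine (h.fpf.mono' hM.le hMi).mem_pCoreOf_of_centralises (inf_le_left.trans hPM)
    (hP.2.1.to_le inf_le_left) fun s hs hne x hx => Subgroup.mem_centralizer_iff.2 fun y hy =>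
      Subgroup.mem_centralizer_iff.1 hx.2 y ⟨pCoreOf s M, (FitOf.pCoreOf_le s M).trans hM.le,
        h.fpf.toFour.inv_pCoreOf hMi s, ⟨s, hs, hne, FitOf.isPGroup_pCoreOf s M⟩,
        hPM.trans (FitOf.le_normalizer_pCoreOf s M), hy⟩

theorem core_off_axis (h : Min u v w X) (hP : ISyl u v X t P) {M : Subgroup G}
    (hMi : Inv u v M) (hM : M ≤ X) (hu : ax X u ≤ M) (hPM : P ≤ M) :
    ax (pCoreOf t M) v ≤ zz u v X t P ∧ ax (pCoreOf t M) w ≤ zz u v X t P := by
  refine ⟨fun c hc => h.core_axis_mem_zz hP hMi hM hu hPM hc, fun c hc => ?_⟩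
  have e := h.swap'.core_axis_mem_zz (t := t) (P := P)
    ⟨hP.1, hP.2.1, ⟨hP.2.2.1.1, fun x hx => (h.fpf.mono' hP.1 hP.2.2.1).memw hx⟩, hP.2.2.2⟩
    ⟨hMi.1, fun x hx => (h.fpf.mono' hM hMi).memw hx⟩
    hM hu hPM hc
  have e2 : zz u w X t P = zz u v X t P := by
    rw [← zz_swap (u := u) (v := v), ← zz_rot (w := w) h.fpf.toFour.swap]
  rwa [e2] at e

theorem ax_le_normalizer_zz (h : Min u v w X) (hP : ISyl u v X t P) {M : Subgroup G}
    (hMi : Inv u v M) (hM : M < X) (hu : ax X u ≤ M) (hPM : P ≤ M) :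
    ax X u ≤ Subgroup.normalizer (zz u v X t P : Set G) := by
  have hF := h.fpf
  have huu := hF.toFour.uu
  set Z := zz u v X t P with hZ
  set Q := pCoreOf t M with hQ
  have hQX : Q ≤ X := (FitOf.pCoreOf_le t M).trans hM.le
  have hQi : Inv u v Q := hF.toFour.inv_pCoreOf hMi t
  have hQF := hF.mono' hQX hQi
  obtain ⟨hv, hw⟩ := h.core_off_axis hP hMi hM.le hu hPM
  have hZQ : Z ≤ Q := h.zz_le_core hP hMi hM hPM
  have hZi := h.zz_inv hP
  have hZF := hF.mono' (hZQ.trans hQX) hZi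
  have key : ∀ r ∈ ax X u, ∀ x ∈ Z, r * x * r⁻¹ ∈ Z := by
    intro r hr x hx
    have hru : u * r * u = r := ((mem_ax' huu).1 hr).2
    have hoff : ∀ c ∈ Z, u * c * u = c⁻¹ → r * c * r⁻¹ ∈ Z := by
      intro c hc hcu
      have hQc : r * c * r⁻¹ ∈ Q :=
        (Subgroup.mem_normalizer_iff.1 (FitOf.le_normalizer_pCoreOf t M (hu hr)) c).1 (hZQ hc)
      have e : u * (r * c * r⁻¹) * u = (r * c * r⁻¹)⁻¹ := by
        rw [invol_conj_mul huu, invol_conj_mul huu, invol_conj_inv huu, hru, hcu]; group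
      obtain ⟨a, ha, b, hb, e2⟩ := hQF.rot.exists_aba hQc e
      rw [e2]
      exact mul_mem (mul_mem (hv ha) (hw hb)) (hv ha)
    obtain ⟨c, hc, a, ha, b, hb, rfl⟩ := hZF.rot.exists_caba hx
    have h1 : r * c * r⁻¹ = c := by
      rw [hF.ax_comm hr (ax_mono (hZQ.trans hQX) u hc), mul_inv_cancel_right]
    have h2 := hoff a (ax_le _ _ ha) (hZF.swap.inverts ha)
    have h3 := hoff b (ax_le _ _ hb) (hZF.rot.rot.inverts hb)
    have e : r * (c * (a * b * a)) * r⁻¹
        = (r * c * r⁻¹) * ((r * a * r⁻¹) * (r * b * r⁻¹) * (r * a * r⁻¹)) := by group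
    rw [e, h1]
    exact mul_mem (ax_le _ _ hc) (mul_mem (mul_mem h2 h3) h2)
  intro g hg
  rw [Subgroup.mem_normalizer_iff]
  intro y
  refine ⟨key g hg y, fun hy => ?_⟩
  have := key g⁻¹ (inv_mem hg) _ hy
  simpa [mul_assoc] using this

/-- Two axes meet the centre of `P`: the family is centralised only by the identity. -/
theorem zz_eq_bot (h : Min u v w X) (hP : ISyl u v X t P) {a b : G} (ha : a ∈ zc P)
    (hau : a ∈ ax X u) (ha1 : a ≠ 1) (hb : b ∈ zc P) (hbv : b ∈ ax X v) (hb1 : b ≠ 1) :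
    zz u v X t P = ⊥ ∧ IsMulCommutative P := by
  have hF := h.fpf
  set Ma := X ⊓ Subgroup.centralizer ({a} : Set G) with hMa
  set Mb := X ⊓ Subgroup.centralizer ({b} : Set G) with hMb
  have hMai : Inv u v Ma := hF.inv_centralizer_axis hau
  have hMbi : Inv u v Mb := by
    have := hF.swap.inv_centralizer_axis hbv
    exact ⟨this.2, this.1⟩
  have hMalt : Ma < X := h.centralizer_lt (hP.1 ha.1) ha1
  have hMblt : Mb < X := h.centralizer_lt (hP.1 hb.1) hb1
  have hPa : P ≤ Ma := le_inf hP.1 fun x hx => Subgroup.mem_centralizer_singleton_iff.2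
    (Subgroup.mem_centralizer_iff.1 ha.2 x hx)
  have hPb : P ≤ Mb := le_inf hP.1 fun x hx => Subgroup.mem_centralizer_singleton_iff.2
    (Subgroup.mem_centralizer_iff.1 hb.2 x hx)
  have hua : ax X u ≤ Ma := fun x hx =>
    ⟨ax_le _ _ hx, Subgroup.mem_centralizer_singleton_iff.2 (hF.ax_comm hx hau)⟩
  have hvb : ax X v ≤ Mb := fun x hx =>
    ⟨ax_le _ _ hx, Subgroup.mem_centralizer_singleton_iff.2 (hF.swap.ax_comm hx hbv)⟩
  have hz : zz u v X t P = ⊥ := by
    by_contra hne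
    have hZi := h.zz_inv hP
    have hZX : zz u v X t P < X := lt_of_le_of_lt inf_le_left (h.syl_lt hP)
    have h2 := h.swap.ax_le_normalizer_zz (syl_swap hP) ⟨hMbi.2, hMbi.1⟩ hMblt hvb hPb
    rw [zz_swap] at h2
    exact h.two_axes (hF.toFour.inv_inf hF.inv (hF.toFour.inv_normalizer hZi))
      (h.inf_normalizer_lt hZi hZX hne)
      ⟨le_inf (ax_le _ _) (h.ax_le_normalizer_zz hP hMai hMalt hua hPa), le_inf (ax_le _ _) h2⟩
  refine ⟨hz, ?_⟩
  obtain ⟨ha2, ha3⟩ := h.core_off_axis hP hMai hMalt.le hua hPa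
  obtain ⟨hb2, hb3⟩ := h.swap.core_off_axis (syl_swap hP) ⟨hMbi.2, hMbi.1⟩ hMblt.le hvb hPb
  rw [hz] at ha2 ha3
  rw [zz_swap, hz] at hb2 hb3
  have hQa : pCoreOf t Ma ≤ ax X u :=
    (hF.mono' ((FitOf.pCoreOf_le t Ma).trans hMalt.le) (hF.toFour.inv_pCoreOf hMai t)).le_of_axes
      (ax_mono ((FitOf.pCoreOf_le t Ma).trans hMalt.le) u) (ha2.trans bot_le) (ha3.trans bot_le)
  have hQb : pCoreOf t Mb ≤ ax X v :=
    (hF.mono' ((FitOf.pCoreOf_le t Mb).trans hMblt.le) (hF.toFour.inv_pCoreOf hMbi t)).le_of_axes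
      (hb2.trans bot_le) (ax_mono ((FitOf.pCoreOf_le t Mb).trans hMblt.le) v) (hb3.trans bot_le)
  have hder : ∀ M : Subgroup G, Inv u v M → M < X → P ≤ M → ⁅P, P⁆ ≤ pCoreOf t M := by
    intro M hMi hMX hPM
    haveI := h.solv M hMi hMX
    have hMF := hF.mono' hMX.le hMi
    have hPP : IsPGroup t ↥⁅P, P⁆ := hP.2.1.to_le (commutator_self_le P)
    refine hMF.mem_pCoreOf_of_centralises ((commutator_self_le P).trans hPM) hPP fun s hs hne => ?_
    haveI := Fact.mk hs
    haveI := FitOf.fittingOf_nilpotent M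
    exact SolvMinNN.le_centralizer_of_nilpotent (W := fittingOf M) (A := ⁅P, P⁆)
      (B := pCoreOf s M) ((Subgroup.commutator_mono hPM hPM).trans hMF.derived_le_fitting)
      (FitOf.pCoreOf_le_fittingOf hs M)
      (Fact.out : t.Prime) hs hne.symm hPP (FitOf.isPGroup_pCoreOf s M)
  refine .of_setLike_mul_comm fun x hx y hy => ?_
  rw [← commutatorElement_eq_one_iff_mul_comm]
  have hc := Subgroup.commutator_mem_commutator hx hy
  exact hF.ax_inter (hQa (hder Ma hMai hMalt hPa hc)) (hQb (hder Mb hMbi hMblt hPb hc))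

end Min

end Cfsg.Agent.DGroup
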