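import Cfsg.Agent.S0111
import Cfsg.Agent.S3277
import Cfsg.Agent.Lib.Char.Burnside
import Cfsg.Agent.Lib.TwoGroups.FusionData
import Mathlib.GroupTheory.FixedPointFree
import Mathlib.GroupTheory.SpecificGroups.Alternating

/-!
# An involution with a centraliser of order at most four outside a subgroup of index two
-/

set_option autoImplicit false
set_option linter.unusedSectionVars false
set_option linter.style.haveILetI false

namespace Cfsg.Agent.DGroup

universe u

theorem mul_self_of_two {G : Type*} [Group G] {x : G} (h : orderOf x = 2) : x * x = 1 := by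
  rw [← pow_two, ← h, pow_orderOf_eq_one]

/-- A normal subgroup on which an involution has no fixed points is abelian. -/
theorem comm_of_no_fixed {G : Type*} [Group G] [Finite G] (N : Subgroup G) [N.Normal] {x : G}
    (hxx : x * x = 1) (hfix : ∀ y ∈ N, x * y = y * x → y = 1) : ∀ a ∈ N, ∀ b ∈ N, a * b = b * a := by
  intro a ha b hb
  have hinvol : Function.Involutive (MulAut.conjNormal (H := N) x : N → N) := fun y => by
    show MulAut.conjNormal x (MulAut.conjNormal x y) = y
    rw [← MulAut.mul_apply, ← map_mul, hxx, map_one, MulAut.one_apply]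
  have hfpf : MonoidHom.FixedPointFree (MulAut.conjNormal (H := N) x : N → N) := fun y hy => by
    refine Subtype.ext (hfix y y.2 ?_)
    have := congrArg Subtype.val hy
    rw [MulAut.conjNormal_apply, mul_inv_eq_iff_eq_mul] at this
    exact this
  exact congrArg Subtype.val (hfpf.commute_all_of_involutive hinvol ⟨a, ha⟩ ⟨b, hb⟩).eq

theorem solvable_of_normal_comm {G : Type*} [Group G] [Finite G] (N : Subgroup G) [N.Normal]
    (hc : ∀ a ∈ N, ∀ b ∈ N, a * b = b * a) (hq : Group.IsSolvable (G ⧸ N)) :
    Group.IsSolvable G := by
  haveI := hq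
  haveI : Group.IsSolvable N := Group.isSolvable_of_comm fun a b => Subtype.ext (hc a a.2 b b.2)
  exact Group.isSolvable_of_ker_le_range N.subtype (QuotientGroup.mk' N)
    (by rw [QuotientGroup.ker_mk', Subgroup.range_subtype])

theorem solvable_two_group {Q : Type*} [Group Q] [Finite Q] {k : ℕ} (h : Nat.card Q = 2 ^ k) :
    Group.IsSolvable Q := by
  haveI := Fact.mk Nat.prime_two
  haveI := (IsPGroup.of_card h).isNilpotent
  infer_instance

/-- An involution which is alone with `1` in its centraliser forces solvability. -/
theorem solvable_of_cent_two {M : Type*} [Group M] [Finite M] {y : M} (hy : orderOf y = 2)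
    (hC : ∀ g, g * y = y * g → g = 1 ∨ g = y) : Group.IsSolvable M := by
  haveI := Fact.mk Nat.prime_two
  have hyy := mul_self_of_two hy
  obtain ⟨T, hT⟩ := (IsPGroup.of_card (p := 2) (n := 1) (G := Subgroup.zpowers y)
    (by rw [Nat.card_zpowers, hy, pow_one])).exists_le_sylow
  have hyT : y ∈ (T : Subgroup M) := hT (Subgroup.mem_zpowers y)
  haveI : Nontrivial (T : Subgroup M) := (Subgroup.nontrivial_iff_ne_bot _).2 fun e => by
    rw [e, Subgroup.mem_bot] at hyT
    rw [hyT, orderOf_one] at hy; omega
  haveI := T.isPGroup'.center_nontrivial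
  obtain ⟨⟨⟨c, hc⟩, hcZ⟩, hc1⟩ := exists_ne (1 : Subgroup.center (T : Subgroup M))
  have hcomm : ∀ t ∈ (T : Subgroup M), t * c = c * t := fun t ht =>
    congrArg Subtype.val (Subgroup.mem_center_iff.1 hcZ ⟨t, ht⟩)
  have hcy : c = y := (hC c (hcomm y hyT).symm).resolve_left fun e =>
    hc1 (Subtype.ext (Subtype.ext e))
  have hTy : (T : Subgroup M) = Subgroup.zpowers y := le_antisymm (fun t ht => by
    rcases hC t (hcy ▸ hcomm t ht) with e | e <;> rw [e]
    exacts [one_mem _, Subgroup.mem_zpowers y]) hT
  have hrel : (⊥ : Subgroup M).relIndex (T : Subgroup M) = 2 := by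
    rw [Subgroup.relIndex_bot_left, hTy, Nat.card_zpowers, hy]
  rcases S0111.result T ⊥ bot_le hrel y hy hyT (fun e => by
      rw [Subgroup.mem_bot] at e
      rw [e, orderOf_one] at hy; omega) with ⟨N, hN, hi, hyN⟩ | ⟨g, hg⟩
  · haveI := hN
    refine solvable_of_normal_comm N (comm_of_no_fixed N hyy fun a ha e => ?_)
      (solvable_two_group (k := 1) (by rw [← Subgroup.index_eq_card, hi, pow_one]))
    exact (hC a e.symm).resolve_right fun e' => hyN (e' ▸ ha)
  · exfalso
    rw [Subgroup.mem_bot, conj_eq_one_iff] at hg
    rw [hg, orderOf_one] at hy; omega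

/-- An involution outside a subgroup of index two with centraliser of order at most four. -/
theorem solvable_of_small_cent : ∀ (G : Type u) [Group G] [Finite G] (M : Subgroup G) (x : G),
    M.index = 2 → orderOf x = 2 → x ∉ M →
    Nat.card (Subgroup.centralizer ({x} : Set G)) ≤ 4 → Group.IsSolvable G := by
  intro G _ _
  induction hn : Nat.card G using Nat.strong_induction_on generalizing G with
  | _ n ih =>
  subst hn
  intro M x hi hx hxM hC
  classical
  haveI := Fact.mk Nat.prime_two
  haveI : M.Normal := Subgroup.normal_of_index_eq_two hi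
  have hxx := mul_self_of_two hx
  set C := Subgroup.centralizer ({x} : Set G) with hCdef
  have hxC : x ∈ C := Subgroup.mem_centralizer_singleton_iff.2 rfl
  have h2C : 2 ∣ Nat.card C := hx ▸ Subgroup.orderOf_dvd_natCard C hxC
  have hqM : Group.IsSolvable (G ⧸ M) :=
    solvable_two_group (k := 1) (by rw [← Subgroup.index_eq_card, hi, pow_one])
  by_cases hC2 : Nat.card C = 2
  · refine solvable_of_normal_comm M (comm_of_no_fixed M hxx fun a ha e => ?_) hqM
    have haC : a ∈ C := Subgroup.mem_centralizer_singleton_iff.2 e.symm
    have hle : Subgroup.zpowers x = C := Subgroup.eq_of_le_of_card_ge (Subgroup.zpowers_le.2 hxC)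
      (by rw [hC2, Nat.card_zpowers, hx])
    rw [← hle] at haC
    obtain ⟨i, hi'⟩ := haC
    rcases Int.even_or_odd' i with ⟨l, rfl | rfl⟩
    · rw [← hi']
      show x ^ (2 * l) = 1
      rw [zpow_mul, zpow_two, hxx, one_zpow]
    · exfalso
      apply hxM
      have : x = a := by
        rw [← hi']
        show x = x ^ (2 * l + 1)
        rw [zpow_add, zpow_mul, zpow_two, hxx, one_zpow, one_mul, zpow_one]
      exact this ▸ ha
  have hC4 : Nat.card C = 4 := by
    have := Nat.card_pos (α := C)
    rcases h2C with ⟨k, hk⟩
    omega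
  have hCe : ∀ c ∈ C, c ^ 2 = 1 := by
    intro c hc
    have hd : orderOf c ∣ 2 ^ 2 := by
      have := Subgroup.orderOf_dvd_natCard C hc
      rwa [hC4] at this
    obtain ⟨k, hk2, hk⟩ := (Nat.dvd_prime_pow Nat.prime_two).1 hd
    by_cases hk1 : k ≤ 1
    · exact orderOf_dvd_iff_pow_eq_one.1 (by rw [hk]; exact (pow_dvd_pow 2 hk1).trans (by norm_num))
    exfalso
    have hk' : k = 2 := by omega
    rw [hk'] at hk
    have heq : Subgroup.zpowers c = C := Subgroup.eq_of_le_of_card_ge (Subgroup.zpowers_le.2 hc)
      (by rw [hC4, Nat.card_zpowers, hk]; norm_num)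
    have hx' : x ∈ Subgroup.zpowers c := heq.symm ▸ hxC
    obtain ⟨i, hi'⟩ := hx'
    rcases Int.even_or_odd' i with ⟨l, rfl | rfl⟩
    · apply hxM
      rw [← hi']
      show c ^ (2 * l) ∈ M
      rw [zpow_mul, zpow_two]
      exact zpow_mem (Subgroup.mul_self_mem_of_index_two hi c) l
    · have e : c ^ (2 * l + 1) = x := hi'
      have h2 : c ^ (2 * (2 * l + 1)) = 1 := by
        rw [mul_comm, zpow_mul, e, zpow_two, hxx]
      rw [← orderOf_dvd_iff_zpow_eq_one, hk] at h2
      push_cast at h2
      omega
  by_cases hnc : Cfsg.HasNormalPComplement 2 G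
  · obtain ⟨P, N, hN, hcp⟩ := hnc
    haveI := hN
    obtain ⟨k, hk⟩ := IsPGroup.iff_card.1 P.isPGroup'
    have hidx : N.index = 2 ^ k := by
      rw [← hk]; exact hcp.symm.index_eq_card
    have hNo : Odd (Nat.card N) := by
      refine Nat.not_even_iff_odd.1 fun he => P.not_dvd_index' ?_ (even_iff_two_dvd.1 ?_)
      · exact Subgroup.index_ne_zero_of_finite
      · rw [hcp.index_eq_card]; exact he
    refine solvable_of_normal_comm N (comm_of_no_fixed N hxx fun a ha e => ?_)
      (solvable_two_group (k := k) (by rw [← Subgroup.index_eq_card, hidx]))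
    have hsq := hCe a (Subgroup.mem_centralizer_singleton_iff.2 e.symm)
    refine orderOf_eq_one_iff.1 (Nat.eq_one_of_dvd_coprimes ((Nat.coprime_two_left).2 hNo)
      (orderOf_dvd_of_pow_eq_one hsq) (Subgroup.orderOf_dvd_natCard N ha))
  by_cases hne : ∀ E : Subgroup G, E.Normal → Cfsg.IsElementaryAbelian 2 E →
      Nat.card ↥E ≠ 2 ∧ Nat.card ↥E ≠ 4
  · -- the alternating group is simple
    exfalso
    obtain ⟨e⟩ := S3277.result x hx hC4 hCe hnc hne
    haveI : IsSimpleGroup G := by
      haveI : IsSimpleGroup (alternatingGroup (Fin 5)) := alternatingGroup.isSimpleGroup_five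
      haveI := e.toEquiv.nontrivial
      exact IsSimpleGroup.isSimpleGroup_of_surjective e.symm.toMonoidHom e.symm.surjective
    rcases Subgroup.Normal.eq_bot_or_eq_top ‹M.Normal› with e' | e'
    · rw [e', Subgroup.index_bot] at hi
      have := Subgroup.card_le_card_group C
      omega
    · exact hxM (e' ▸ Subgroup.mem_top x)
  push Not at hne
  obtain ⟨E, hE, hEe, hEc⟩ := hne
  haveI := hE
  by_cases hEM : E ⊓ M = ⊥
  · -- a central involution outside `M`
    obtain ⟨e, he, he1⟩ : ∃ e ∈ E, e ≠ 1 := by
      by_contra hh
      push Not at hh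
      have : E = ⊥ := (Subgroup.eq_bot_iff_forall _).2 hh
      have h1 : Nat.card E = 1 := by rw [this, Subgroup.card_bot]
      omega
    have hee : e * e = 1 := by rw [← pow_two]; exact hEe.2 e he
    have huniq : ∀ f ∈ E, f = 1 ∨ f = e := fun f hf => by
      by_cases hfM : f ∈ M
      · exact Or.inl (Subgroup.mem_bot.1 (hEM ▸ ⟨hf, hfM⟩))
      · refine Or.inr ?_
        have heM : e ∉ M := fun h' => he1 (Subgroup.mem_bot.1 (hEM ▸ ⟨he, h'⟩))
        have h1 : f * e ∈ E ⊓ M := ⟨mul_mem hf he,
          (Subgroup.mul_mem_iff_of_index_two hi).2 (iff_of_false hfM heM)⟩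
        rw [hEM, Subgroup.mem_bot] at h1
        rw [eq_inv_of_mul_eq_one_left h1, inv_eq_of_mul_eq_one_right hee]
    have hec : ∀ g : G, g * e = e * g := fun g => by
      rcases huniq _ (hE.conj_mem e he g) with e' | e'
      · exact absurd (conj_eq_one_iff.1 e') he1
      · exact mul_inv_eq_iff_eq_mul.1 e'
    have heM : e ∉ M := fun h' => he1 (Subgroup.mem_bot.1 (hEM ▸ ⟨he, h'⟩))
    have hyM : x * e ∈ M := (Subgroup.mul_mem_iff_of_index_two hi).2 (iff_of_false hxM heM)
    haveI : Group.IsSolvable M := by
      by_cases hy1 : x * e = 1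
      · -- the involution is central
        have hxe : x = e := by rw [eq_inv_of_mul_eq_one_left hy1, inv_eq_of_mul_eq_one_right hee]
        have hall : ∀ g : G, g ∈ C := fun g => Subgroup.mem_centralizer_singleton_iff.2 (hxe ▸ hec g)
        have hG : Nat.card G ≤ 4 := by
          rw [← Subgroup.card_top, show (⊤ : Subgroup G) = C from (eq_top_iff.2 fun g _ => hall g).symm]
          exact hC
        have hM4 := Subgroup.card_mul_index M
        rw [hi] at hM4
        haveI : Group.IsSolvable M := by
          have h1 : Nat.card M = 1 ∨ Nat.card M = 2 := by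
            have := Nat.card_pos (α := M)
            omega
          rcases h1 with h1 | h1
          · exact solvable_two_group (k := 0) (by simpa using h1)
          · exact solvable_two_group (k := 1) (by simpa using h1)
        infer_instance
      · refine solvable_of_cent_two (y := (⟨x * e, hyM⟩ : M)) ?_ fun g hg => ?_
        · haveI := Fact.mk Nat.prime_two
          refine orderOf_eq_prime ?_ fun h' => hy1 (congrArg Subtype.val h')
          refine Subtype.ext ?_
          rw [Subgroup.coe_pow, Subgroup.coe_one, pow_two,
            show x * e * (x * e) = x * (e * x) * e by group, ← hec x,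
            show x * (x * e) * e = (x * x) * (e * e) by group, hxx, hee, one_mul]
        · have hg' : (g : G) * (x * e) = x * e * g := congrArg Subtype.val hg
          have hgx : (g : G) * x = x * g := by
            rw [mul_assoc x e, ← hec g, ← mul_assoc, ← mul_assoc] at hg'
            exact mul_right_cancel hg'
          have hgC : (g : G) ∈ C := Subgroup.mem_centralizer_singleton_iff.2 hgx
          have hsub : ∀ c ∈ C, c = 1 ∨ c = x ∨ c = e ∨ c = x * e := by
            intro c hc
            by_contra hh
            push Not at hh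
            obtain ⟨q1, q2, q3, q4⟩ := hh
            have hxe' : x ≠ e := fun h' => hy1 (by rw [h', hee])
            have hx1 : x ≠ 1 := fun h' => hxM (h' ▸ one_mem M)
            have heC : e ∈ C := Subgroup.mem_centralizer_singleton_iff.2 (hec x).symm
            have hxeC : x * e ∈ C := mul_mem hxC heC
            have hinj : Function.Injective (![⟨1, one_mem C⟩, ⟨x, hxC⟩, ⟨e, heC⟩, ⟨x * e, hxeC⟩,
                ⟨c, hc⟩] : Fin 5 → C) := by
              intro a b hab
              have := congrArg Subtype.val hab
              fin_cases a <;> fin_cases b <;> simp at this ⊢ <;>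
                first
                  | exact absurd this hx1 | exact absurd this.symm hx1
                  | exact absurd this he1 | exact absurd this.symm he1
                  | exact absurd this hxe' | exact absurd this.symm hxe'
                  | exact absurd this hy1 | exact absurd this.symm hy1
                  | exact absurd this q1 | exact absurd this.symm q1
                  | exact absurd this q2 | exact absurd this.symm q2
                  | exact absurd this q3 | exact absurd this.symm q3
                  | exact absurd this q4 | exact absurd this.symm q4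
            have := Nat.card_le_card_of_injective _ hinj
            rw [Nat.card_fin] at this
            omega
          rcases hsub g hgC with h' | h' | h' | h'
          · exact Or.inl (Subtype.ext h')
          · exact absurd (h' ▸ g.2) hxM
          · exact absurd (h' ▸ g.2) heM
          · exact Or.inr (Subtype.ext h')
    haveI := hqM
    exact Group.isSolvable_of_ker_le_range M.subtype (QuotientGroup.mk' M)
      (by rw [QuotientGroup.ker_mk', Subgroup.range_subtype])
  · -- pass to the quotient by `E ∩ M`
    set D := E ⊓ M with hD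
    set f := QuotientGroup.mk' D with hf
    haveI : Group.IsSolvable D := Group.isSolvable_of_comm fun a b =>
      Subtype.ext ((congrArg Subtype.val (hEe.1.is_comm.comm (⟨a, a.2.1⟩ : E) ⟨b, b.2.1⟩) :) :)
    have hlt : Nat.card (G ⧸ D) < Nat.card G := by
      rw [Subgroup.card_eq_card_quotient_mul_card_subgroup D]
      exact lt_mul_of_one_lt_right Nat.card_pos ((Subgroup.one_lt_card_iff_ne_bot _).2 hEM)
    have hMle : D ≤ M := inf_le_right
    have hfM : ∀ g, f g ∈ M.map f → g ∈ M := fun g hg => by
      obtain ⟨m, hm, e⟩ := hg
      have h1 : m⁻¹ * g ∈ D := QuotientGroup.eq.1 e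
      have := mul_mem hm (hMle h1)
      rwa [mul_inv_cancel_left] at this
    have hfx : orderOf (f x) = 2 := by
      haveI := Fact.mk Nat.prime_two
      refine orderOf_eq_prime (by rw [← map_pow, pow_two, hxx, map_one]) fun e => hxM ?_
      exact hMle ((QuotientGroup.eq_one_iff x).1 e)
    have hcard : Nat.card (Subgroup.centralizer ({f x} : Set (G ⧸ D))) ≤ 4 := by
      -- the commutator with `x` separates the cosets of `C`
      set P := (Subgroup.centralizer ({f x} : Set (G ⧸ D))).comap f with hP
      have hCP : C ≤ P := fun c hc => by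
        rw [hP, Subgroup.mem_comap, Subgroup.mem_centralizer_singleton_iff, ← map_mul, ← map_mul,
          Subgroup.mem_centralizer_singleton_iff.1 hc]
      have hcom : ∀ g ∈ P, g * x * g⁻¹ * x⁻¹ ∈ D := fun g hg => by
        rw [hP, Subgroup.mem_comap, Subgroup.mem_centralizer_singleton_iff, ← map_mul, ← map_mul] at hg
        refine (QuotientGroup.eq_one_iff _).1 ?_
        show f (g * x * g⁻¹ * x⁻¹) = 1
        rw [map_mul, map_mul, hg, ← map_mul, ← map_mul]
        simp [mul_assoc]
      have hidx : (C.subgroupOf P).index ≤ Nat.card D := by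
        rw [Subgroup.index_eq_card]
        refine Nat.card_le_card_of_injective
          (fun q => ⟨((q.out : P) : G) * x * ((q.out : P) : G)⁻¹ * x⁻¹, hcom _ q.out.2⟩) fun q r e => ?_
        have e1 := mul_right_cancel (congrArg Subtype.val e)
        rw [← QuotientGroup.out_eq' q, ← QuotientGroup.out_eq' r, QuotientGroup.eq,
          Subgroup.mem_subgroupOf, Subgroup.coe_mul, Subgroup.coe_inv,
          Subgroup.mem_centralizer_singleton_iff]
        calc ((q.out : P) : G)⁻¹ * (r.out : P) * x
            = ((q.out : P) : G)⁻¹ * (((r.out : P) : G) * x * ((r.out : P) : G)⁻¹) * (r.out : P) := by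
              group
          _ = ((q.out : P) : G)⁻¹ * (((q.out : P) : G) * x * ((q.out : P) : G)⁻¹) * (r.out : P) := by
              rw [e1]
          _ = x * (((q.out : P) : G)⁻¹ * (r.out : P)) := by group
      have h1 := Subgroup.card_mul_index (C.subgroupOf P)
      rw [Nat.card_congr (Subgroup.subgroupOfEquivOfLe hCP).toEquiv, hC4] at h1
      have hDP : D ≤ P := fun d hd => by
        rw [hP, Subgroup.mem_comap, show f d = 1 from (QuotientGroup.eq_one_iff d).2 hd]
        exact one_mem _
      have h2 : Nat.card P = Nat.card D * Nat.card (Subgroup.centralizer ({f x} : Set (G ⧸ D))) := by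
        have hmap : P.map f = Subgroup.centralizer ({f x} : Set (G ⧸ D)) :=
          Subgroup.map_comap_eq_self_of_surjective (QuotientGroup.mk'_surjective D) _
        have := Subgroup.card_mul_index ((f.comp P.subtype).ker)
        rw [Subgroup.index_ker, MonoidHom.range_comp, Subgroup.range_subtype, hmap] at this
        have hk : (f.comp P.subtype).ker = D.subgroupOf P := by
          rw [← MonoidHom.comap_ker, hf, QuotientGroup.ker_mk']
          rfl
        rw [hk, Nat.card_congr (Subgroup.subgroupOfEquivOfLe hDP).toEquiv] at this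
        exact this.symm
      refine Nat.le_of_mul_le_mul_left ?_ (Nat.card_pos (α := D))
      rw [← h2, ← h1, mul_comm]
      exact Nat.mul_le_mul_right 4 hidx
    haveI := ih _ hlt (G ⧸ D) rfl (M.map f) (f x)
      (by rw [Subgroup.index_map_eq M (QuotientGroup.mk'_surjective D)
        (by rw [QuotientGroup.ker_mk']; exact hMle), hi])
      hfx (fun hh => hxM (hfM x hh)) hcard
    exact Group.isSolvable_of_ker_le_range D.subtype f
      (by rw [hf, QuotientGroup.ker_mk', Subgroup.range_subtype])

end Cfsg.Agent.DGroup
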