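import Cfsg.Agent.Lib.DGroup.MainPSL
import Cfsg.Agent.Lib.DGroup.SmallCent
import Cfsg.Agent.Lib.TwoGroups.Lifts
import Cfsg.Agent.S3224
import Cfsg.Agent.S0514

/-!
# One involution in `A`
-/

set_option autoImplicit false
set_option linter.unusedSectionVars false
set_option linter.style.haveILetI false

namespace Cfsg.Agent.DGroup

universe u

variable {G : Type u} [Group G] [Finite G]

/-- The Sylow subgroup of a normal subgroup cut out by one of the whole group. -/
theorem exists_sylow_inf (P : Sylow 2 G) (K : Subgroup G) (hKn : K.Normal) :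
    ∃ T : Sylow 2 K, (T : Subgroup K) = (P : Subgroup G).comap K.subtype := by
  haveI := Fact.mk Nat.prime_two
  obtain ⟨T, hT⟩ := (P.isPGroup'.comap_subtype (K := K)).exists_le_sylow
  refine ⟨T, (Subgroup.eq_of_le_of_card_ge hT ?_).symm⟩
  obtain ⟨Q, hQ⟩ := (T.isPGroup'.map K.subtype).exists_le_sylow
  obtain ⟨g, hg⟩ := MulAction.exists_smul_eq G Q P
  refine Nat.card_le_card_of_injective
    (fun x => ⟨⟨g * ((x : K) : G) * g⁻¹, hKn.conj_mem _ (x : K).2 g⟩, ?_⟩) fun x y e =>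
    Subtype.ext (Subtype.ext (mul_left_cancel (mul_right_cancel
      (Subtype.ext_iff.1 (Subtype.ext_iff.1 e)))))
  show g * ((x : K) : G) * g⁻¹ ∈ (P : Subgroup G)
  rw [← hg, Sylow.coe_subgroup_smul]
  exact Subgroup.smul_mem_pointwise_smul _ (MulAut.conj g) _ (hQ ⟨x, x.2, rfl⟩)

/-- A cyclic 2-group has one involution. -/
theorem invol_cyclic_unique {c x z : G} (hx : x ∈ Subgroup.zpowers c) (hz : z ∈ Subgroup.zpowers c)
    (hxx : x * x = 1) (hx1 : x ≠ 1) (hzz : z * z = 1) (hz1 : z ≠ 1) : x = z := by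
  obtain ⟨a, rfl⟩ := hx
  obtain ⟨b, rfl⟩ := hz
  simp only [← zpow_add, ← orderOf_dvd_iff_zpow_eq_one] at hxx hzz hx1 hz1 ⊢
  show c ^ a = c ^ b
  rw [← mul_inv_eq_one, ← zpow_neg, ← zpow_add, ← orderOf_dvd_iff_zpow_eq_one]
  obtain ⟨p, hp⟩ := hxx
  obtain ⟨q, hq⟩ := hzz
  have hx1' : ¬ (orderOf c : ℤ) ∣ a := fun h => hx1 (orderOf_dvd_iff_zpow_eq_one.1 h)
  have hz1' : ¬ (orderOf c : ℤ) ∣ b := fun h => hz1 (orderOf_dvd_iff_zpow_eq_one.1 h)
  rcases Int.even_or_odd' p with ⟨p', rfl | rfl⟩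
  · exact absurd ⟨p', by linarith⟩ hx1'
  rcases Int.even_or_odd' q with ⟨q', rfl | rfl⟩
  · exact absurd ⟨q', by linarith⟩ hz1'
  exact ⟨p' - q', by linarith⟩

namespace R1

variable {A : Subgroup G} {s j : G}

/-- With a Sylow subgroup in `H` the quotient is found. -/
theorem concl (h : R1 A s j) (hO : NoOdd G) (hns : ¬ Group.IsSolvable G) : Concl G := by
  have hf : ∃ v, v * s ∈ A ∧ IsConj j v := by
    by_contra hc
    exact hns (h.solvable_of_none hO fun v hv hvc => hc ⟨v, hv, hvc⟩)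
  obtain ⟨K, a₀, v, hjK, hvK, hKn, ha₀, hcov, hv, hK, hKt⟩ := h.exists_index_two hO hf
  haveI := hKn
  have hnsK : ¬ Group.IsSolvable K := by
    intro hs
    haveI := hs
    haveI : Group.IsSolvable (G ⧸ K) := by
      rcases hKt with e | ⟨hi, -, -⟩
      · exact solvable_two_group (k := 0) (by rw [← Subgroup.index_eq_card, e, Subgroup.index_top, pow_zero])
      · exact solvable_two_group (k := 1) (by rw [← Subgroup.index_eq_card, hi, pow_one])
    exact hns (Group.isSolvable_of_ker_le_range K.subtype (QuotientGroup.mk' K)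
      (by rw [QuotientGroup.ker_mk', Subgroup.range_subtype]))
  obtain ⟨F, hFf, hFt, hodd, h3, ⟨e⟩⟩ := hK.psl hnsK
  rcases hKt with e' | ⟨hi, ha₀K, -⟩
  · exact concl_of_equiv h3 ((Subgroup.topEquiv.symm.trans (MulEquiv.subgroupCongr e'.symm)).trans e)
  · obtain ⟨e'⟩ := h.pgl hKn hjK hvK ha₀ hv hK hi ha₀K hodd e
    exact concl_of_equiv_pgl h3 e'

end R1

/-- With an element of order four in `A` a Sylow subgroup lies in `H`. -/
theorem Hyp2.R1_of_four {A : Subgroup G} {s j : G} (h : Hyp2 A s) (hj : IsInner A j)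
    (huq : ∀ e, IsInner A e → e = j) (ha : ∃ a ∈ A, a * a = j) : R1 A s j := by
  haveI := Fact.mk Nat.prime_two
  obtain ⟨a, ha, haa⟩ := ha
  have ha4 : a ^ (2 ^ 2) = 1 := by
    rw [show (2 : ℕ) ^ 2 = 2 * 2 from rfl, pow_mul, pow_two a, haa, pow_two, hj.2.1]
  obtain ⟨k, -, hk⟩ := (Nat.dvd_prime_pow Nat.prime_two).1 (orderOf_dvd_of_pow_eq_one ha4)
  obtain ⟨P, hP⟩ := (IsPGroup.of_card (p := 2) (n := k) (G := Subgroup.zpowers a)
    (by rw [Nat.card_zpowers, hk])).exists_le_sylow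
  have haP : a ∈ (P : Subgroup G) := hP (Subgroup.mem_zpowers a)
  have hjP : j ∈ (P : Subgroup G) := haa ▸ mul_mem haP haP
  refine ⟨h, hj, huq, P, fun x hx => h.mem_H_of_comm hj ?_⟩
  haveI : Nontrivial (P : Subgroup G) := (Subgroup.nontrivial_iff_ne_bot _).2 fun e => hj.2.2 (by
    rwa [e, Subgroup.mem_bot] at hjP)
  haveI := P.isPGroup'.center_nontrivial
  obtain ⟨c', hc'⟩ := exists_prime_orderOf_dvd_card' (G := Subgroup.center (P : Subgroup G)) 2 (by
    obtain ⟨n, hn0, hn⟩ := (IsPGroup.nontrivial_iff_card (P.isPGroup'.to_subgroup _)).1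
      (inferInstance : Nontrivial (Subgroup.center (P : Subgroup G)))
    rw [hn]; exact dvd_pow_self 2 hn0.ne')
  set c : G := ((c' : (P : Subgroup G)) : G) with hcdef
  have hco : orderOf c = 2 := by rw [hcdef, Subgroup.orderOf_coe, Subgroup.orderOf_coe, hc']
  have hcc : ∀ y ∈ (P : Subgroup G), y * c = c * y := fun y hy =>
    congrArg Subtype.val (Subgroup.mem_center_iff.1 c'.2 ⟨y, hy⟩)
  have hcH := h.mem_H_of_comm hj (hcc j hjP).symm
  have hcA : c ∈ A := by
    refine hcH.resolve_right fun hout => hj.2.2 ?_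
    have e := h.out_conj hout ha
    rw [← hcc a haP, mul_inv_cancel_right] at e
    rw [← haa]
    exact mul_eq_one_iff_eq_inv.2 e
  have hcj : c = j := huq c ⟨hcA, mul_self_of_orderOf hco, fun e => by
    rw [e, orderOf_one] at hco; omega⟩
  exact hcj ▸ hcc x hx

namespace Hyp2

variable {A : Subgroup G} {z j : G}

/-- `z` is not central. -/
theorem false_of_central (h : Hyp2 A z) (hj : IsInner A j) (huq : ∀ e, IsInner A e → e = j)
    (hns : ¬ Group.IsSolvable G) {M : Subgroup G} (hi : M.index = 2) (hjM : j ∉ M)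
    (hz : ∀ g : G, g * z = z * g) : False := by
  classical
  refine hns (solvable_of_small_cent G M j hi (orderOf_two hj.2.1 hj.2.2) hjM ?_)
  have hA : ∀ a ∈ A, a = 1 ∨ a = j := by
    intro a ha
    by_cases ha1 : a = 1
    · exact Or.inl ha1
    refine Or.inr (huq a ⟨ha, ?_, ha1⟩)
    have e := h.inv a ha
    rw [← hz a, mul_assoc, h.ss, mul_one] at e
    exact mul_eq_one_iff_eq_inv.2 e
  have hA2 : Nat.card A ≤ 2 := by
    have hinj : Function.Injective (fun x : A => decide ((x : G) = 1)) := by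
      intro x y hxy
      simp only [decide_eq_decide] at hxy
      refine Subtype.ext ?_
      rcases hA x x.2 with e | e <;> rcases hA y y.2 with e' | e'
      · rw [e, e']
      · exact absurd (hxy.1 e) (e' ▸ hj.2.2)
      · exact absurd (hxy.2 e') (e ▸ hj.2.2)
      · rw [e, e']
    simpa using Nat.card_le_card_of_injective _ hinj
  rw [h.centralizer_eq hj, h.card_H]
  omega

/-- The Sylow subgroup is not inside `H`. -/
theorem concl_of_outside (h : Hyp2 A z) (hj : IsInner A j) (huq : ∀ e, IsInner A e → e = j)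
    (hO : NoOdd G) (hns : ¬ Group.IsSolvable G) (hA2 : ¬ ∃ a ∈ A, a * a = j) (P : Sylow 2 G)
    (hjP : j ∈ (P : Subgroup G)) (hzP : z ∈ (P : Subgroup G))
    (hzc : ∀ x ∈ (P : Subgroup G), x * z = z * x) (hPH : ¬ (P : Subgroup G) ≤ h.H) : Concl G := by
  classical
  haveI := Fact.mk Nat.prime_two
  have hjj := hj.2.1
  have hzz := h.ss
  have hzA := h.sA
  have hz1 : z ≠ 1 := h.s_ne
  have hjz : j ≠ z := fun e => hzA (e ▸ hj.1)
  have hzjc : z * j = j * z := h.inner_comm hj h.s_mem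
  -- the centraliser of the four-group
  have hCfour : ∀ g : G, g * j = j * g → g * z = z * g → g = 1 ∨ g = j ∨ g = z ∨ g = j * z := by
    intro g hgj hgz
    have key : ∀ a ∈ A, a * z = z * a → a = 1 ∨ a = j := by
      intro a ha haz
      by_cases ha1 : a = 1
      · exact Or.inl ha1
      refine Or.inr (huq a ⟨ha, ?_, ha1⟩)
      have e := h.inv a ha
      rw [← haz, mul_assoc, hzz, mul_one] at e
      exact mul_eq_one_iff_eq_inv.2 e
    rcases h.mem_H_of_comm hj hgj with hA | hA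
    · rcases key g hA hgz with e | e
      · exact Or.inl e
      · exact Or.inr (Or.inl e)
    · have e : g = g * z * z := by rw [mul_assoc, hzz, mul_one]
      rcases key _ hA (by rw [mul_assoc g z z, hzz, mul_one, hgz, ← mul_assoc, hzz, one_mul]) with e' | e'
      · exact Or.inr (Or.inr (Or.inl (by rw [e, e', one_mul])))
      · exact Or.inr (Or.inr (Or.inr (by rw [e, e'])))
  have hsq4 : ∀ g : G, g * j = j * g → g * z = z * g → g * g = 1 := by
    intro g hgj hgz
    rcases hCfour g hgj hgz with e | e | e | e <;> rw [e]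
    exacts [one_mul 1, hjj, hzz, by
      rw [mul_assoc, ← mul_assoc z j, hzjc, mul_assoc, hzz, mul_one, hjj]]
  -- the cyclic subgroup of index two
  set j' : (P : Subgroup G) := ⟨j, hjP⟩ with hj'
  have hC4 : Nat.card (Subgroup.centralizer ({j'} : Set (P : Subgroup G))) = 4 := by
    have hmem : ∀ x : (P : Subgroup G), x ∈ Subgroup.centralizer ({j'} : Set (P : Subgroup G)) ↔
        (x : G) = 1 ∨ (x : G) = j ∨ (x : G) = z ∨ (x : G) = j * z := fun x => by
      rw [Subgroup.mem_centralizer_singleton_iff]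
      refine ⟨fun e => hCfour x (congrArg Subtype.val e) (hzc x x.2), fun e => Subtype.ext ?_⟩
      show (x : G) * j = j * x
      rcases e with e | e | e | e <;> rw [e]
      · rw [one_mul, mul_one]
      · exact hzjc
      · rw [mul_assoc, hzjc]
    set f : Fin 4 → Subgroup.centralizer ({j'} : Set (P : Subgroup G)) :=
      ![⟨1, one_mem _⟩, ⟨⟨j, hjP⟩, (hmem _).2 (Or.inr (Or.inl rfl))⟩,
        ⟨⟨z, hzP⟩, (hmem _).2 (Or.inr (Or.inr (Or.inl rfl)))⟩,
        ⟨⟨j * z, mul_mem hjP hzP⟩, (hmem _).2 (Or.inr (Or.inr (Or.inr rfl)))⟩] with hf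
    have hbij : Function.Bijective f := by
      refine ⟨?_, fun x => ?_⟩
      · have q1 : j ≠ 1 := hj.2.2
        have q4 : j * z ≠ 1 := fun e => hjz (by
          rw [eq_inv_of_mul_eq_one_left e, inv_eq_of_mul_eq_one_right hzz])
        have q5 : j * z ≠ j := fun e => hz1 (mul_left_cancel (e.trans (mul_one j).symm))
        have q6 : j * z ≠ z := fun e => q1 (mul_right_cancel (e.trans (one_mul z).symm))
        intro a b hab
        have := congrArg (fun y : Subgroup.centralizer ({j'} : Set (P : Subgroup G)) =>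
          ((y : (P : Subgroup G)) : G)) hab
        fin_cases a <;> fin_cases b <;> simp [hf] at this ⊢ <;>
          first
            | exact absurd this q1 | exact absurd this.symm q1
            | exact absurd this hz1 | exact absurd this.symm hz1
            | exact absurd this hjz | exact absurd this.symm hjz
            | exact absurd this q4 | exact absurd this.symm q4
            | exact absurd this q5 | exact absurd this.symm q5
            | exact absurd this q6 | exact absurd this.symm q6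
      · rcases (hmem x).1 x.2 with e | e | e | e
        · exact ⟨0, Subtype.ext (Subtype.ext e.symm)⟩
        · exact ⟨1, Subtype.ext (Subtype.ext e.symm)⟩
        · exact ⟨2, Subtype.ext (Subtype.ext e.symm)⟩
        · exact ⟨3, Subtype.ext (Subtype.ext e.symm)⟩
    rw [← Nat.card_eq_of_bijective f hbij, Nat.card_fin]
  have hbig : 4 < Nat.card (P : Subgroup G) := by
    refine lt_of_le_of_ne (hC4 ▸ Subgroup.card_le_card_group _) fun e => hPH fun x hx => ?_
    have htop := Subgroup.eq_top_of_card_eq _ (hC4.trans e)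
    have : (⟨x, hx⟩ : (P : Subgroup G)) ∈ Subgroup.centralizer ({j'} : Set (P : Subgroup G)) :=
      htop ▸ Subgroup.mem_top _
    exact h.mem_H_of_comm hj (congrArg Subtype.val (Subgroup.mem_centralizer_singleton_iff.1 this))
  obtain ⟨c, hcP, hcard⟩ : ∃ c ∈ (P : Subgroup G), Nat.card (P : Subgroup G) = 2 * orderOf c := by
    rcases S3224.result P.isPGroup' j' (by rw [Subgroup.orderOf_mk, orderOf_two hjj hj.2.2]) hC4 with
      ⟨n, ⟨e⟩⟩ | hq | h4
    · refine ⟨e.symm (.r 1), (e.symm (.r 1)).2, ?_⟩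
      rw [Subgroup.orderOf_coe, MulEquiv.orderOf_eq, DihedralGroup.orderOf_r_one,
        Nat.card_congr e.toEquiv, DihedralGroup.nat_card]
    · obtain ⟨n, -, hn, x, -, hx, -, -⟩ := hq
      exact ⟨x, x.2, by rw [Subgroup.orderOf_coe, hx, hn, pow_succ, mul_comm]⟩
    · omega
  obtain ⟨k, hk⟩ := isPGroup_orderOf P.isPGroup' hcP
  have hk2 : 2 ≤ k := by
    by_contra hh
    have : orderOf c ≤ 2 := by
      rw [hk]; exact le_trans (Nat.pow_le_pow_right two_pos (show k ≤ 1 by omega)) le_rfl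
    omega
  have hc2ne : c * c ≠ 1 := fun e => by
    have := Nat.le_of_dvd two_pos (orderOf_dvd_of_pow_eq_one (by rw [pow_two]; exact e : c ^ 2 = 1))
    rw [hk] at this
    have h4 := Nat.pow_le_pow_right (n := 2) two_pos hk2
    omega
  have hjc : j ∉ Subgroup.zpowers c := fun hh => hc2ne (by
    obtain ⟨i, hi⟩ := hh
    refine hsq4 c ?_ (hzc c hcP)
    rw [← hi]
    exact ((Commute.refl c).zpow_right i).eq)
  have hcPle : Subgroup.zpowers c ≤ (P : Subgroup G) := Subgroup.zpowers_le.2 hcP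
  have hrelc : (Subgroup.zpowers c).relIndex (P : Subgroup G) = 2 := by
    have := Subgroup.card_mul_index ((Subgroup.zpowers c).subgroupOf (P : Subgroup G))
    rw [Nat.card_congr (Subgroup.subgroupOfEquivOfLe hcPle).toEquiv, Nat.card_zpowers, hcard,
      mul_comm 2] at this
    exact Nat.eq_of_mul_eq_mul_left (orderOf_pos c) this
  have hcases : ∀ x ∈ (P : Subgroup G), (∃ i : ℤ, x = c ^ i) ∨ ∃ i : ℤ, x = c ^ i * j := by
    intro x hx
    by_cases hxc : x ∈ Subgroup.zpowers c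
    · obtain ⟨i, hi⟩ := hxc
      exact Or.inl ⟨i, hi.symm⟩
    · have := (Subgroup.mul_mem_iff_of_index_two (H := (Subgroup.zpowers c).subgroupOf (P : Subgroup G))
        hrelc (a := (⟨x, hx⟩ : (P : Subgroup G))) (b := j')).2 (iff_of_false hxc hjc)
      obtain ⟨i, hi⟩ := this
      have hi' : c ^ i = x * j := by simpa using hi
      exact Or.inr ⟨i, by rw [hi', mul_assoc, hjj, mul_one]⟩
  have hzc' : z ∈ Subgroup.zpowers c := by
    rcases hcases z hzP with ⟨i, hi⟩ | ⟨i, hi⟩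
    · exact ⟨i, hi.symm⟩
    · exfalso
      refine hc2ne (hsq4 c ?_ (hzc c hcP))
      have e : j = (c ^ i)⁻¹ * z := by rw [hi]; group
      rw [e]
      exact (((Commute.refl c).zpow_right i).inv_right.mul_right (hzc c hcP)).eq
  have hzuniq : ∀ x ∈ Subgroup.zpowers c, x * x = 1 → x ≠ 1 → x = z := fun x hx hxx hx1 =>
    invol_cyclic_unique hx hzc' hxx hx1 hzz hz1
  have hzpow : z = c ^ (2 ^ (k - 1)) := (hzuniq _ (Subgroup.npow_mem_zpowers _ _) (by
    rw [← pow_add, ← two_mul, ← pow_succ', show k - 1 + 1 = k by omega, ← hk, pow_orderOf_eq_one])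
    fun e => by
      have := Nat.le_of_dvd (Nat.two_pow_pos _) (orderOf_dvd_of_pow_eq_one e)
      rw [hk] at this
      have := (Nat.pow_le_pow_iff_right (a := 2) (by norm_num)).1 this
      omega).symm
  -- `z` is not conjugate to `j`
  have hnc : ∀ g : G, g * z * g⁻¹ ≠ j := by
    intro g e
    apply hA2
    have hd : (g * c * g⁻¹) * j = j * (g * c * g⁻¹) := by
      have := conj_comm (g := g) (hzc c hcP)
      rwa [e] at this
    have hdo : orderOf (g * c * g⁻¹) = 2 ^ k := by rw [Invol.order_conj, hk]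
    have hdA : g * c * g⁻¹ ∈ A := by
      refine (h.mem_H_of_comm hj hd).resolve_right fun hout => hc2ne ?_
      have := h.out_sq hout
      rw [show g * c * g⁻¹ * (g * c * g⁻¹) = g * (c * c) * g⁻¹ by group] at this
      exact conj_eq_one_iff.1 this
    refine ⟨(g * c * g⁻¹) ^ (2 ^ (k - 2)), pow_mem hdA _, huq _ ⟨mul_mem (pow_mem hdA _) (pow_mem hdA _), ?_, ?_⟩⟩
    · rw [← pow_add, ← pow_add, show 2 ^ (k - 2) + 2 ^ (k - 2) + (2 ^ (k - 2) + 2 ^ (k - 2)) = 2 ^ k by
        conv_rhs => rw [show k = k - 2 + 2 by omega]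
        ring, ← hdo, pow_orderOf_eq_one]
    · intro e'
      rw [← pow_add] at e'
      have := Nat.le_of_dvd (by positivity) (orderOf_dvd_of_pow_eq_one e')
      rw [hdo, show 2 ^ k = 4 * 2 ^ (k - 2) by
        conv_lhs => rw [show k = 2 + (k - 2) by omega, pow_add]
        norm_num] at this
      have := Nat.two_pow_pos (k - 2)
      omega
  -- a subgroup of index two without `j`
  rcases S0111.result P _ hcPle hrelc j (orderOf_two hjj hj.2.2) hjP hjc with
    ⟨M, hMn, hMi, hjM⟩ | ⟨g, hg⟩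
  swap
  · exfalso
    refine hnc g⁻¹ ?_
    rw [← hzuniq _ hg (by rw [show g * j * g⁻¹ * (g * j * g⁻¹) = g * (j * j) * g⁻¹ by group, hjj]; group)
      (fun e => hj.2.2 (conj_eq_one_iff.1 e))]
    group
  haveI := hMn
  have hmulM : ∀ a b : G, a ∉ M → b ∉ M → a * b ∈ M := fun a b ha hb =>
    (Subgroup.mul_mem_iff_of_index_two hMi).2 (iff_of_false ha hb)
  have hcov : ∀ g, g ∈ M ∨ g * j ∈ M := fun g => (Classical.em (g ∈ M)).imp id fun hg => hmulM g j hg hjM
  have hzM : z ∈ M := by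
    rw [hzpow, show k - 1 = k - 2 + 1 by omega, pow_succ', pow_mul, pow_two]
    exact pow_mem (Subgroup.mul_self_mem_of_index_two hMi c) _
  have hconjM : ∀ x, IsConj z x → ∃ m ∈ M, m * z * m⁻¹ = x := by
    intro x hx
    obtain ⟨g, hg⟩ := isConj_iff.1 hx
    rcases hcov g with hgM | hgM
    · exact ⟨g, hgM, hg⟩
    · refine ⟨g * j, hgM, ?_⟩
      rw [show g * j * z * (g * j)⁻¹ = g * (j * z) * j⁻¹ * g⁻¹ by group, ← hzjc, ← mul_assoc g z j, mul_inv_cancel_right, hg]
  by_cases hfz : ∃ w ∈ (P : Subgroup G), w ∈ M ∧ w ≠ z ∧ IsConj z w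
  swap
  · -- `z` is isolated, so central
    exfalso
    have hiso : ∀ d ∈ M, d * z * d⁻¹ * z = z * (d * z * d⁻¹) → d * z * d⁻¹ = z := by
      intro d _ hc
      have hz'2 : d * z * d⁻¹ * (d * z * d⁻¹) = 1 := by
        rw [show d * z * d⁻¹ * (d * z * d⁻¹) = d * (z * z) * d⁻¹ by group, hzz]; group
      have hF : Four z (d * z * d⁻¹) (z * (d * z * d⁻¹)) := ⟨hzz, hz'2, hc.symm, rfl⟩
      obtain ⟨Q, hQ⟩ := hF.isPGroup.exists_le_sylow
      obtain ⟨g, hg⟩ := MulAction.exists_smul_eq G Q P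
      have hin : ∀ x ∈ hF.group, g * x * g⁻¹ ∈ (P : Subgroup G) := fun x hx => by
        rw [← hg, Sylow.coe_subgroup_smul]
        exact Subgroup.smul_mem_pointwise_smul _ (MulAut.conj g) _ (hQ hx)
      have key : ∀ x ∈ hF.group, IsConj z x → g * x * g⁻¹ = z := fun x hx hxc => by
        by_contra hne
        refine hfz ⟨_, hin x hx, ?_, hne, hxc.trans (isConj_iff.2 ⟨g, rfl⟩)⟩
        obtain ⟨m, hm, e⟩ := hconjM _ (hxc.trans (isConj_iff.2 ⟨g, rfl⟩ : IsConj x (g * x * g⁻¹)))
        exact e ▸ mul_mem (mul_mem hm hzM) (inv_mem hm)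
      have e1 := key z hF.u_mem (IsConj.refl z)
      have e2 := key _ hF.v_mem (isConj_iff.2 ⟨d, rfl⟩)
      exact mul_left_cancel (mul_right_cancel (e2.trans e1.symm))
    have hz' := BrauerSuzuki.zStar M ⟨z, hzM⟩ (by rw [Subgroup.orderOf_mk, orderOf_two hzz hz1])
      (fun d hd => Subtype.ext (hiso d d.2 (congrArg Subtype.val hd.eq).symm))
    haveI := FittingCores.pPrimeCore_normal (G := M) 2
    have hbot : Cfsg.pPrimeCore 2 M = ⊥ := noOdd_normal hO hMn _ inferInstance odd_pPrimeCore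
    have hMz : ∀ m ∈ M, m * z = z * m := fun m hm => by
      have := hz' ⟨m, hm⟩
      rw [hbot, Subgroup.mem_bot] at this
      have e : m * z * m⁻¹ * z⁻¹ = 1 := congrArg Subtype.val this
      rw [mul_inv_eq_one, mul_inv_eq_iff_eq_mul] at e
      exact e
    refine h.false_of_central hj huq hns hMi hjM fun g => ?_
    rcases hcov g with hg | hg
    · exact hMz g hg
    · have e : g = g * j * j := by rw [mul_assoc, hjj, mul_one]
      rw [e]
      exact (show Commute (g * j) z from hMz _ hg).mul_left (show Commute j z from hzjc.symm) |>.eq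
  obtain ⟨y, hyP, hyM, hyz, hzy⟩ := hfz
  have hyo : orderOf y = 2 := by
    obtain ⟨g, hg⟩ := isConj_iff.1 hzy
    rw [← hg, Invol.order_conj, orderOf_two hzz hz1]
  have hyy := mul_self_of_orderOf hyo
  have hy1 : y ≠ 1 := fun e => by rw [e, orderOf_one] at hyo; omega
  -- `P` is dihedral, `c ∉ M` and `y` is an odd reflection
  obtain ⟨i, rfl⟩ : ∃ i : ℤ, y = c ^ i * j := by
    rcases hcases y hyP with ⟨i, hi⟩ | hh
    · exact absurd (hzuniq y ⟨i, hi.symm⟩ hyy hy1) hyz
    · exact hh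
  have hciM : c ^ i ∉ M := fun hh => hjM ((M.mul_mem_cancel_left hh).1 hyM)
  have hcM : c ∉ M := fun hh => hciM (zpow_mem hh i)
  have hpowM : ∀ e : ℤ, c ^ e ∈ M ↔ Even e := by
    intro e
    rcases Int.even_or_odd' e with ⟨l, rfl | rfl⟩
    · refine iff_of_true ?_ (even_two_mul l)
      rw [zpow_mul, zpow_two]
      exact zpow_mem (Subgroup.mul_self_mem_of_index_two hMi c) l
    · refine iff_of_false (fun hh => hcM ?_) (Int.not_even_iff_odd.2 (odd_two_mul_add_one l))
      rw [zpow_add, zpow_one, zpow_mul, zpow_two] at hh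
      exact (M.mul_mem_cancel_left (zpow_mem (Subgroup.mul_self_mem_of_index_two hMi c) l)).1 hh
  have hiodd : Odd i := Int.not_even_iff_odd.1 fun hh => hciM ((hpowM i).2 hh)
  have hjM' : ∀ e : ℤ, c ^ e * j ∈ M ↔ Odd e := fun e => by
    rw [Subgroup.mul_mem_iff_of_index_two hMi, hpowM, iff_false_right hjM, Int.not_even_iff_odd]
  obtain ⟨r, hr⟩ : ∃ r : ℤ, (c ^ i) ^ r = c := by
    obtain ⟨l, hl⟩ := hiodd
    have hco : IsCoprime i ((2 ^ k : ℕ) : ℤ) := by
      push_cast
      exact IsCoprime.pow_right ⟨1, -l, by rw [hl]; ring⟩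
    obtain ⟨p, q, hpq⟩ := hco
    refine ⟨p, ?_⟩
    rw [← zpow_mul, show i * p = 1 + ((2 ^ k : ℕ) : ℤ) * (-q) by linear_combination hpq, zpow_add,
      zpow_one, zpow_mul, zpow_natCast, ← hk, pow_orderOf_eq_one, one_zpow, mul_one]
  have hjinv : j * c * j⁻¹ = c⁻¹ := by
    have e : j * c ^ i * j⁻¹ = (c ^ i)⁻¹ := by
      rw [inv_eq_of_mul_eq_one_right hjj]
      refine eq_inv_of_mul_eq_one_right ?_
      rw [← mul_assoc, ← mul_assoc]; exact (mul_assoc _ _ _).trans hyy
    conv_lhs => rw [← hr]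
    rw [← conj_zpow, e, inv_zpow, hr]
  have swap : ∀ e : ℤ, j * c ^ e = c ^ (-e) * j := TwoLift.swap hjinv
  have hrefl : ∀ e : ℤ, c ^ e * j * (c ^ e * j) = 1 := fun e => by
    rw [mul_assoc, ← mul_assoc j, swap, mul_assoc (c ^ (-e)), hjj, mul_one, ← zpow_add, add_neg_cancel,
      zpow_zero]
  have hconjy : ∀ e : ℤ, Odd e → ∃ l : ℤ, c ^ l * (c ^ i * j) * (c ^ l)⁻¹ = c ^ e * j := by
    intro e he
    obtain ⟨l, hl⟩ := he.sub_odd hiodd
    refine ⟨l, ?_⟩
    rw [← zpow_neg, mul_assoc (c ^ l), mul_assoc (c ^ i), swap, neg_neg, ← mul_assoc, ← mul_assoc,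
      ← zpow_add, ← zpow_add]
    congr 2
    omega
  have hPM : ∀ x ∈ (P : Subgroup G), x ∈ M →
      (∃ e : ℤ, Even e ∧ x = c ^ e) ∨ ∃ e : ℤ, Odd e ∧ x = c ^ e * j := by
    intro x hx hxM
    rcases hcases x hx with ⟨e, rfl⟩ | ⟨e, rfl⟩
    · exact Or.inl ⟨e, (hpowM e).1 hxM, rfl⟩
    · exact Or.inr ⟨e, (hjM' e).1 hxM, rfl⟩
  have hclassP : ∀ x ∈ (P : Subgroup G), x ∈ M → x * x = 1 → x ≠ 1 →
      x = z ∨ ∃ l : ℤ, c ^ l * (c ^ i * j) * (c ^ l)⁻¹ = x := by
    intro x hx hxM hxx hx1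
    rcases hPM x hx hxM with ⟨e, -, rfl⟩ | ⟨e, he, rfl⟩
    · exact Or.inl (hzuniq _ (Subgroup.zpow_mem_zpowers c e) hxx hx1)
    · exact Or.inr (hconjy e he)
  have hMone : ∀ x ∈ M, orderOf x = 2 → ∃ m ∈ M, m * z * m⁻¹ = x := by
    intro x hxM hx
    refine hconjM x ?_
    obtain ⟨g, hg⟩ := TwoFus.exists_conj_mem P (a := x) (k := 1) (by rw [pow_one, hx])
    refine IsConj.trans ?_ (isConj_iff.2 ⟨g, rfl⟩ : IsConj x _).symm
    have hx2 : orderOf (g * x * g⁻¹) = 2 := by rw [Invol.order_conj, hx]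
    rcases hclassP _ hg (hMn.conj_mem x hxM g) (mul_self_of_orderOf hx2)
      (fun e => by rw [e, orderOf_one] at hx2; omega) with e | ⟨l, e⟩
    · rw [e]
    · exact hzy.trans (isConj_iff.2 ⟨c ^ l, e⟩)
  -- the centraliser of `z`
  obtain ⟨eP⟩ : Nonempty ((P : Subgroup G) ≃* DihedralGroup (2 ^ k)) := by
    refine TwoLift.dihedral_equiv hk hjj hjinv hjc (le_antisymm (fun x hx => ?_)
      ((Subgroup.closure_le _).2 ?_))
    · rcases hcases x hx with ⟨e, rfl⟩ | ⟨e, rfl⟩
      · exact zpow_mem (Subgroup.subset_closure (by simp)) e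
      · exact mul_mem (zpow_mem (Subgroup.subset_closure (by simp)) e) (Subgroup.subset_closure (by simp))
    · rintro _ (rfl | rfl)
      exacts [hcP, hjP]
  set Cz := Subgroup.centralizer ({z} : Set G) with hCzdef
  have hPC : (P : Subgroup G) ≤ Cz := fun x hx => Subgroup.mem_centralizer_singleton_iff.2 (hzc x hx)
  obtain ⟨N₀, hN₀n, hN₀o, e₀, he₀⟩ := S0514.result P (2 ^ k)
    (le_trans (by norm_num) (Nat.pow_le_pow_right two_pos hk2)) ⟨eP⟩ z (orderOf_two hzz hz1)
  haveI := hN₀n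
  set T₀ := P.subtype hPC with hT₀
  have hcop : (Nat.card N₀).Coprime (Nat.card (T₀ : Subgroup Cz)) := by
    obtain ⟨n, hn⟩ := IsPGroup.iff_card.1 T₀.isPGroup'
    rw [hn]
    exact ((Nat.coprime_two_right).2 hN₀o).pow_right n
  have hcompl : N₀.IsComplement' (T₀ : Subgroup Cz) := by
    refine Subgroup.isComplement'_of_coprime ?_ hcop
    have h1 := Subgroup.card_mul_index N₀
    have h2 := Subgroup.card_mul_index (T₀ : Subgroup Cz)
    have h3 : (Nat.card (T₀ : Subgroup Cz)) ∣ N₀.index := by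
      refine hcop.symm.dvd_of_dvd_mul_left ?_
      rw [h1]; exact Subgroup.card_subgroup_dvd_card _
    have h4 : N₀.index ∣ Nat.card (T₀ : Subgroup Cz) := by
      have hco : (2 ^ e₀).Coprime (T₀ : Subgroup Cz).index :=
        Nat.Coprime.pow_left _ ((Nat.prime_two.coprime_iff_not_dvd).2
          (T₀.not_dvd_index' Subgroup.index_ne_zero_of_finite))
      rw [he₀]
      refine hco.dvd_of_dvd_mul_right ?_
      rw [h2, ← he₀]; exact Subgroup.index_dvd_card _
    rw [Nat.dvd_antisymm h3 h4, h1]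
  set M0 := N₀.map Cz.subtype with hM0
  have hM0o : Odd (Nat.card M0) := by
    rwa [hM0, Subgroup.card_map_of_injective Cz.subtype_injective]
  have hM0z : ∀ m ∈ M0, m * z = z * m := by
    rintro _ ⟨m, -, rfl⟩; exact Subgroup.mem_centralizer_singleton_iff.1 m.2
  have hM0n : ∀ g : G, g * z = z * g → ∀ m ∈ M0, g * m * g⁻¹ ∈ M0 := by
    rintro g hg _ ⟨m, hm, rfl⟩
    exact ⟨⟨g, Subgroup.mem_centralizer_singleton_iff.2 hg⟩ * m *
      ⟨g, Subgroup.mem_centralizer_singleton_iff.2 hg⟩⁻¹, hN₀n.conj_mem m hm _, rfl⟩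
  have hdec : ∀ g : G, g * z = z * g → ∃ m ∈ M0, ∃ p ∈ (P : Subgroup G), g = m * p := by
    intro g hg
    obtain ⟨⟨⟨m, hm⟩, p, hp⟩, e, -⟩ := hcompl.existsUnique ⟨g, Subgroup.mem_centralizer_singleton_iff.2 hg⟩
    refine ⟨m, ⟨m, hm, rfl⟩, p, ?_, (congrArg Subtype.val e).symm⟩
    rw [SetLike.mem_coe, hT₀, Sylow.coe_subtype, Subgroup.mem_subgroupOf] at hp
    exact hp
  have hM0P : ∀ x ∈ M0, x ∈ (P : Subgroup G) → x = 1 := by
    intro x hxM hxP
    obtain ⟨n, hn⟩ := isPGroup_orderOf P.isPGroup' hxP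
    refine orderOf_eq_one_iff.1 ?_
    rcases n with _ | n
    · rw [hn, pow_zero]
    · exact absurd (even_iff_two_dvd.2 ((hn ▸ dvd_pow_self 2 n.succ_ne_zero).trans
        (Subgroup.orderOf_dvd_natCard M0 hxM))) (Nat.not_even_iff_odd.2 hM0o)
  have huniq : ∀ m ∈ M0, ∀ m' ∈ M0, ∀ p ∈ (P : Subgroup G), ∀ p' ∈ (P : Subgroup G),
      m * p = m' * p' → m = m' ∧ p = p' := by
    intro m hm m' hm' p hp p' hp' e
    have e1 : m'⁻¹ * m = p' * p⁻¹ := by
      calc m'⁻¹ * m = m'⁻¹ * (m * p) * p⁻¹ := by group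
        _ = p' * p⁻¹ := by rw [e]; group
    have e2 := hM0P _ (mul_mem (inv_mem hm') hm) (e1 ▸ mul_mem hp' (inv_mem hp))
    have e3 : m = m' := (inv_mul_eq_one.1 e2).symm
    exact ⟨e3, mul_left_cancel (e3 ▸ e)⟩
  have hjfix : ∀ m ∈ M0, m * j = j * m → m = 1 := fun m hm hmj =>
    eq_one_of_sq hM0o hm (hsq4 m hmj (hM0z m hm))
  have hM0c : ∀ a ∈ M0, ∀ b ∈ M0, a * b = b * a := by
    rintro _ ⟨a, ha, rfl⟩ _ ⟨b, hb, rfl⟩
    have hjC : j ∈ Cz := hPC hjP
    exact congrArg Subtype.val (comm_of_no_fixed N₀ (x := (⟨j, hjC⟩ : Cz)) (Subtype.ext hjj)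
      (fun m hm e => Subtype.ext (hjfix m ⟨m, hm, rfl⟩ (congrArg Subtype.val e).symm)) a ha b hb)
  have invert : ∀ u, u * u = 1 → u * z = z * u → (∀ m ∈ M0, m * u = u * m → m = 1) →
      ∀ m ∈ M0, u * m * u = m⁻¹ := by
    intro u hu huz hfix m hm
    have hmu : u * m * u ∈ M0 := by
      have := hM0n u huz m hm
      rwa [inv_eq_of_mul_eq_one_right hu] at this
    have e : u * (m * (u * m * u)) * u = m * (u * m * u) := by
      rw [invol_conj_mul hu, invol_conj_conj hu]
      exact hM0c _ hmu _ hm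
    exact eq_inv_of_mul_eq_one_right (hfix _ (mul_mem hm hmu) ((invol_conj_eq_iff hu).1 e).symm)
  have hjM0 : ∀ m ∈ M0, j * m * j = m⁻¹ := invert j hjj hzjc.symm hjfix
  have hc2M0 : ∀ m ∈ M0, c * c * m = m * (c * c) := by
    intro m hm
    have hcz := hzc c hcP
    have hcz' : c⁻¹ * z = z * c⁻¹ := hzc _ (inv_mem hcP)
    have h1 := hM0n _ hcz' m hm
    have e1 := hjM0 _ h1
    have e2 : c * c * j = c * j * c⁻¹ := by
      have := swap (-1)
      rw [zpow_neg_one, neg_neg, zpow_one] at this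
      calc c * c * j = c * (c * j) := mul_assoc c c j
        _ = c * (j * c⁻¹) := by rw [this]
        _ = c * j * c⁻¹ := (mul_assoc _ _ _).symm
    have e3 : c * c * (j * m * j) * (c * c)⁻¹ = m⁻¹ := by
      calc c * c * (j * m * j) * (c * c)⁻¹ = (c * c * j) * m * (c * c * j⁻¹)⁻¹ := by group
        _ = (c * j * c⁻¹) * m * (c * j * c⁻¹)⁻¹ := by
            rw [inv_eq_of_mul_eq_one_right hjj, e2]
        _ = c * (j * (c⁻¹ * m * c⁻¹⁻¹) * j⁻¹) * c⁻¹ := by group
        _ = c * (c⁻¹ * m * c⁻¹⁻¹)⁻¹ * c⁻¹ := by rw [inv_eq_of_mul_eq_one_right hjj, e1]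
        _ = m⁻¹ := by group
    rw [hjM0 m hm, mul_inv_eq_iff_eq_mul] at e3
    exact (Commute.inv_right_iff.1 (show Commute (c * c) m⁻¹ from e3)).eq
  by_cases hcc : ∀ m ∈ M0, c * m = m * c
  · -- `z` is the involution of an abelian subgroup with an element of order four
    have hcm : ∀ m ∈ M0, ∀ e : ℤ, Commute m (c ^ e) := fun m hm e =>
      ((show Commute c m from hcc m hm).symm).zpow_right e
    let A' : Subgroup G :=
      { carrier := {x | ∃ m ∈ M0, ∃ e : ℤ, x = m * c ^ e}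
        one_mem' := ⟨1, one_mem _, 0, by simp⟩
        mul_mem' := by
          rintro _ _ ⟨m, hm, e, rfl⟩ ⟨m', hm', e', rfl⟩
          exact ⟨m * m', mul_mem hm hm', e + e', by
            rw [zpow_add, mul_assoc, ← mul_assoc (c ^ e), ← (hcm m' hm' e).eq]; group⟩
        inv_mem' := by
          rintro _ ⟨m, hm, e, rfl⟩
          exact ⟨m⁻¹, inv_mem hm, -e, by
            rw [mul_inv_rev, ← zpow_neg, ((hcm m hm (-e)).inv_left).eq]⟩ }
    have hmemA : ∀ x, x ∈ A' ↔ ∃ m ∈ M0, ∃ e : ℤ, x = m * c ^ e := fun x => Iff.rfl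
    have hcA' : ∀ e : ℤ, c ^ e ∈ A' := fun e => ⟨1, one_mem _, e, (one_mul _).symm⟩
    have hzA' : z ∈ A' := by rw [hzpow, ← zpow_natCast]; exact hcA' _
    have hin : ∀ x, IsInner A' x → x = z := by
      rintro x ⟨hx, hxx, hx1⟩
      obtain ⟨m, hm, e, rfl⟩ := (hmemA x).1 hx
      rw [(hcm m hm e).symm.mul_mul_mul_comm, ← zpow_add] at hxx
      obtain ⟨hm2, he2⟩ := huniq _ (mul_mem hm hm) 1 (one_mem _) _ (zpow_mem hcP _) 1 (one_mem _)
        (hxx.trans (one_mul 1).symm)
      have hm1 := eq_one_of_sq hM0o hm hm2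
      rw [hm1, one_mul] at hx1 ⊢
      exact hzuniq _ (Subgroup.zpow_mem_zpowers c e) (by rw [← zpow_add]; exact he2) hx1
    have h' : Hyp2 A' j := by
      refine ⟨?_, ?_, hjj, ?_, ?_, ?_⟩
      · rintro x hx x' hx'
        obtain ⟨m, hm, e, rfl⟩ := (hmemA x).1 hx
        obtain ⟨m', hm', e', rfl⟩ := (hmemA x').1 hx'
        exact (((show Commute m m' from hM0c m hm m' hm').mul_right (hcm m hm e')).mul_left
          ((hcm m' hm' e).symm.mul_right (Commute.zpow_zpow_self c e e'))).eq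
      · have := Subgroup.orderOf_dvd_natCard A' hzA'
        rwa [orderOf_two hzz hz1] at this
      · intro hh
        obtain ⟨m, hm, e, he⟩ := (hmemA j).1 hh
        obtain ⟨-, he'⟩ := huniq 1 (one_mem _) m hm j hjP _ (zpow_mem hcP e) (by rw [one_mul]; exact he)
        exact hjc ⟨e, he'.symm⟩
      · intro x hx
        obtain ⟨m, hm, e, rfl⟩ := (hmemA x).1 hx
        rw [invol_conj_mul hjj, hjM0 m hm, swap, mul_assoc, hjj, mul_one, mul_inv_rev, ← zpow_neg,
          ((hcm m hm (-e)).inv_left).eq]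
      · intro x hx hxx hx1 g hg
        rw [hin x ⟨hx, hxx, hx1⟩] at hg
        obtain ⟨m, hm, p, hp, rfl⟩ := hdec g hg
        rcases hcases p hp with ⟨e, rfl⟩ | ⟨e, rfl⟩
        · exact Or.inl ⟨m, hm, e, rfl⟩
        · exact Or.inr ⟨m, hm, e, by rw [mul_assoc, mul_assoc, hjj, mul_one]⟩
    refine (h'.R1_of_four (j := z) ⟨hzA', hzz, hz1⟩ hin ⟨c ^ (2 ^ (k - 2)), ?_, ?_⟩).concl hO hns
    · rw [← zpow_natCast]; exact hcA' _
    · rw [hzpow, ← pow_add, ← two_mul, ← pow_succ', show k - 2 + 1 = k - 1 by omega]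
  -- otherwise a subgroup of `M0` has a large normalizer
  exfalso
  set y := c ^ i * j with hydef
  have hyzc : y * z = z * y := hzc y hyP
  set Mm := M0 ⊓ Subgroup.centralizer ({y} : Set G) with hMm
  have hMmne : Mm ≠ ⊥ := by
    intro e
    apply hcc
    intro m hm
    have hfix : ∀ m ∈ M0, m * y = y * m → m = 1 := fun m hm hmy => by
      have : m ∈ Mm := ⟨hm, Subgroup.mem_centralizer_singleton_iff.2 hmy⟩
      rwa [e, Subgroup.mem_bot] at this
    have e1 : Commute (c ^ i) m := by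
      have hy2 := invert y hyy hyzc hfix
      have hn : j * m * j ∈ M0 := by rw [hjM0 m hm]; exact inv_mem hm
      have e3 := hy2 _ hn
      rw [hjM0 m hm, inv_inv] at e3
      show c ^ i * m = m * c ^ i
      have e4 : c ^ i = y * j := by rw [hydef, mul_assoc, hjj, mul_one]
      rw [e4]
      calc y * j * m = y * (j * m * j) * j := by
            simp only [mul_assoc, hjj, mul_one]
        _ = y * (j * m * j) * y * (y * j) := by
            simp only [mul_assoc]; rw [← mul_assoc y y, hyy, one_mul]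
        _ = m * (y * j) := by rw [hjM0 m hm, e3]
    have := e1.zpow_left r
    rw [hr] at this
    exact this.eq
  have hMm_iff : ∀ x, x ∈ Mm ↔ x * z = z * x ∧ x * y = y * x ∧ Odd (orderOf x) := by
    intro x
    constructor
    · rintro ⟨hx, hxy⟩
      exact ⟨hM0z x hx, Subgroup.mem_centralizer_singleton_iff.1 hxy,
        hM0o.of_dvd_nat (Subgroup.orderOf_dvd_natCard M0 hx)⟩
    · rintro ⟨hxz, hxy, hxo⟩
      obtain ⟨m, hm, p, hp, rfl⟩ := hdec x hxz
      have e1 : (y * m * y) * (y * p * y) = m * p := by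
        rw [← invol_conj_mul hyy, ← hxy, mul_assoc, hyy, mul_one]
      obtain ⟨hmy, hpy⟩ := huniq _ (by
          have := hM0n y hyzc m hm
          rwa [inv_eq_of_mul_eq_one_right hyy] at this) m hm _
        (mul_mem (mul_mem hyP hp) hyP) p hp e1
      have hmy' := (invol_conj_eq_iff hyy).1 hmy
      have hpy' := (invol_conj_eq_iff hyy).1 hpy
      -- `p` lies in the four-group `⟨z, y⟩`
      have hp2 : p = 1 ∨ p = z ∨ p = y ∨ p = z * y := by
        have hpow : ∀ e : ℤ, y * c ^ e = c ^ (-e) * y := fun e => by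
          rw [hydef, mul_assoc, swap, ← mul_assoc, ← mul_assoc, ← zpow_add, ← zpow_add, add_comm]
        have hfour : ∀ e : ℤ, y * c ^ e = c ^ e * y → c ^ e = 1 ∨ c ^ e = z := fun e he => by
          rw [hpow] at he
          have h2 := mul_right_cancel he
          by_cases h1 : c ^ e = 1
          · exact Or.inl h1
          refine Or.inr (hzuniq _ (Subgroup.zpow_mem_zpowers c e) ?_ h1)
          conv_lhs => arg 1; rw [← h2]
          rw [← zpow_add, neg_add_cancel, zpow_zero]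
        rcases hcases p hp with ⟨e, rfl⟩ | ⟨e, rfl⟩
        · rcases hfour e hpy' with e' | e'
          · exact Or.inl e'
          · exact Or.inr (Or.inl e')
        · have e4 : c ^ e * j = c ^ (e - i) * y := by
            rw [hydef, ← mul_assoc, ← zpow_add, sub_add_cancel]
          rw [e4] at hpy' ⊢
          rcases hfour (e - i) (by
            rw [← mul_assoc] at hpy'
            exact mul_right_cancel hpy') with e' | e'
          · exact Or.inr (Or.inr (Or.inl (by rw [e', one_mul])))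
          · exact Or.inr (Or.inr (Or.inr (by rw [e'])))
      have hmp : Commute m p := by
        have a1 : Commute m z := hM0z m hm
        have a2 : Commute m y := hmy'.symm
        rcases hp2 with e | e | e | e <;> rw [e]
        exacts [Commute.one_right m, a1, a2, a1.mul_right a2]
      have hpow := pow_orderOf_eq_one (m * p)
      rw [hmp.mul_pow] at hpow
      obtain ⟨-, hp1⟩ := huniq _ (pow_mem hm _) 1 (one_mem _) _ (pow_mem hp _) 1 (one_mem _)
        (hpow.trans (one_mul 1).symm)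
      obtain ⟨l, hl⟩ := hxo
      have hpp : p * p = 1 := by
        rcases hp2 with e | e | e | e <;> rw [e]
        exacts [one_mul 1, hzz, hyy, by
          rw [mul_assoc, ← mul_assoc y z, hyzc, mul_assoc, hyy, mul_one, hzz]]
      rw [hl, pow_succ, pow_mul, pow_two, hpp, one_pow, one_mul] at hp1
      rw [hp1, mul_one] at hxy ⊢
      exact ⟨hm, Subgroup.mem_centralizer_singleton_iff.2 hxy⟩
  set D := Subgroup.normalizer (Mm : Set G) with hD
  have hCD : ∀ g : G, g * z = z * g → g ∈ D := by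
    have hM0D : ∀ m ∈ M0, m ∈ D := fun m hm => mem_normalizer_of_forall fun x hx => by
      rwa [hM0c m hm x hx.1, mul_inv_cancel_right]
    have hjD : j ∈ D := mem_normalizer_of_forall fun x hx => by
      rw [inv_eq_of_mul_eq_one_right hjj, hjM0 x hx.1]; exact inv_mem hx
    have hcD : c ∈ D := mem_normalizer_of_forall fun x hx => by
      refine ⟨hM0n c (hzc c hcP) x hx.1, Subgroup.mem_centralizer_singleton_iff.2 ?_⟩
      have a1 : Commute (c * x * c⁻¹) (c * y * c⁻¹) :=
        conj_comm (Subgroup.mem_centralizer_singleton_iff.1 hx.2)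
      have a2 : Commute (c * x * c⁻¹) (c * c) := (hc2M0 _ (hM0n c (hzc c hcP) x hx.1)).symm
      have e : y = (c * c)⁻¹ * (c * y * c⁻¹) := by
        have e' : c * y * c⁻¹ = c * c * y := by
          rw [hydef, ← zpow_neg_one c, mul_assoc c, mul_assoc (c ^ i), swap, neg_neg, zpow_one,
            ← mul_assoc, ← mul_assoc, ← mul_assoc]
          rw [mul_assoc c (c ^ i) c, ((Commute.refl c).zpow_left i).eq, ← mul_assoc]
        rw [e']; group
      rw [e]
      exact (a2.inv_right.mul_right a1).eq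
    intro g hg
    obtain ⟨m, hm, p, hp, rfl⟩ := hdec g hg
    refine mul_mem (hM0D m hm) ?_
    rcases hcases p hp with ⟨e, rfl⟩ | ⟨e, rfl⟩
    · exact zpow_mem hcD e
    · exact mul_mem (zpow_mem hcD e) hjD
  have hPD : (P : Subgroup G) ≤ D := fun x hx => hCD x (hzc x hx)
  -- an element exchanging `z` and `y`
  obtain ⟨g, hgz, hgy⟩ : ∃ g, g * z * g⁻¹ = y ∧ g * y * g⁻¹ = z := by
    obtain ⟨d, hd⟩ := isConj_iff.1 hzy
    set z1 := d⁻¹ * z * d with hz1def
    have hz1C : z1 ∈ Cz := Subgroup.mem_centralizer_singleton_iff.2 (by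
      have e := conj_comm (g := d⁻¹) hyzc.symm
      rw [inv_inv, ← hd, show d⁻¹ * (d * z * d⁻¹) * d = z by group] at e
      exact e)
    have hz1o : orderOf z1 = 2 := by
      rw [hz1def, show d⁻¹ * z * d = d⁻¹ * z * d⁻¹⁻¹ by group, Invol.order_conj, orderOf_two hzz hz1]
    obtain ⟨u, hu⟩ := TwoFus.exists_conj_mem (P.subtype hPC) (a := (⟨z1, hz1C⟩ : Cz)) (k := 1)
      (by rw [Subgroup.orderOf_mk, pow_one, hz1o])
    rw [Sylow.coe_subtype, Subgroup.mem_subgroupOf] at hu
    have hu' : (u : G) * z1 * (u : G)⁻¹ ∈ (P : Subgroup G) := hu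
    have huz : (u : G) * z * (u : G)⁻¹ = z := by
      rw [Subgroup.mem_centralizer_singleton_iff.1 u.2, mul_inv_cancel_right]
    have hz1M : (u : G) * z1 * (u : G)⁻¹ ∈ M := by
      refine hMn.conj_mem _ ?_ _
      have := hMn.conj_mem z hzM d⁻¹
      rwa [inv_inv] at this
    have hu2 : orderOf ((u : G) * z1 * (u : G)⁻¹) = 2 := by rw [Invol.order_conj, hz1o]
    rcases hclassP _ hu' hz1M (mul_self_of_orderOf hu2) (fun e => by rw [e, orderOf_one] at hu2; omega)
      with e | ⟨l, e⟩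
    · exfalso
      apply hyz
      have e5 : z1 = z := mul_left_cancel (mul_right_cancel (e.trans huz.symm))
      rw [← hd]
      conv_lhs => arg 1; arg 2; rw [← e5, hz1def]
      group
    · refine ⟨d * ((c ^ l)⁻¹ * u)⁻¹, ?_, ?_⟩
      · rw [show d * ((c ^ l)⁻¹ * (u : G))⁻¹ * z * (d * ((c ^ l)⁻¹ * (u : G))⁻¹)⁻¹ =
          d * ((u : G)⁻¹ * (c ^ l * z * (c ^ l)⁻¹) * u) * d⁻¹ by group,
          hzc _ (zpow_mem hcP l), mul_inv_cancel_right]
        have e6 : (u : G)⁻¹ * z * u = z := by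
          calc (u : G)⁻¹ * z * u = (u : G)⁻¹ * ((u : G) * z * (u : G)⁻¹) * u := by rw [huz]
            _ = z := by group
        rw [e6, hd]
      · rw [show d * ((c ^ l)⁻¹ * (u : G))⁻¹ * y * (d * ((c ^ l)⁻¹ * (u : G))⁻¹)⁻¹ =
          d * ((u : G)⁻¹ * (c ^ l * y * (c ^ l)⁻¹) * u) * d⁻¹ by group, e, hz1def]
        group
  have hgD : g ∈ D := mem_normalizer_of_forall fun x hx => by
    obtain ⟨hxz, hxy, hxo⟩ := (hMm_iff x).1 hx
    refine (hMm_iff _).2 ⟨?_, ?_, by rwa [show g * x * g⁻¹ = MulAut.conj g x from rfl, MulEquiv.orderOf_eq]⟩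
    · rw [← hgy]; exact conj_comm hxy
    · rw [← hgz]; exact conj_comm hxz
  -- `D ∩ M` has one class of involutions
  have hcl : ∀ a ∈ D, a ∈ M → orderOf a = 2 → ∃ r ∈ D, r ∈ M ∧ r * z * r⁻¹ = a := by
    intro a haD haM ha
    obtain ⟨u, hu⟩ := TwoFus.exists_conj_mem (P.subtype hPD) (a := (⟨a, haD⟩ : D)) (k := 1)
      (by rw [Subgroup.orderOf_mk, pow_one, ha])
    rw [Sylow.coe_subtype, Subgroup.mem_subgroupOf] at hu
    have hu' : (u : G) * a * (u : G)⁻¹ ∈ (P : Subgroup G) := hu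
    have hu2 : orderOf ((u : G) * a * (u : G)⁻¹) = 2 := by rw [Invol.order_conj, ha]
    obtain ⟨r, hr, e⟩ : ∃ r ∈ D, r * z * r⁻¹ = a := by
      rcases hclassP _ hu' (hMn.conj_mem a haM _) (mul_self_of_orderOf hu2)
        (fun e => by rw [e, orderOf_one] at hu2; omega) with e | ⟨l, e⟩
      · refine ⟨(u : G)⁻¹, inv_mem u.2, ?_⟩
        rw [← e]; group
      · refine ⟨(u : G)⁻¹ * c ^ l * g, mul_mem (mul_mem (inv_mem u.2) (zpow_mem (hPD hcP) l)) hgD, ?_⟩
        rw [show (u : G)⁻¹ * c ^ l * g * z * ((u : G)⁻¹ * c ^ l * g)⁻¹ =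
          (u : G)⁻¹ * (c ^ l * (g * z * g⁻¹) * (c ^ l)⁻¹) * u by group, hgz, e]
        group
    rcases hcov r with hrM | hrM
    · exact ⟨r, hr, hrM, e⟩
    · refine ⟨r * j, mul_mem hr (hPD hjP), hrM, ?_⟩
      rw [show r * j * z * (r * j)⁻¹ = r * (j * z) * j⁻¹ * r⁻¹ by group, ← hzjc, ← mul_assoc r z j, mul_inv_cancel_right, e]
  -- the Sylow subgroup of `M`
  obtain ⟨T, hT⟩ := exists_sylow_inf P M hMn
  have hTmem : ∀ x : M, x ∈ (T : Subgroup M) ↔ (x : G) ∈ (P : Subgroup G) := fun x => by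
    rw [hT]; rfl
  have hc2M : c * c ∈ M := Subgroup.mul_self_mem_of_index_two hMi c
  have hTcard : Nat.card (T : Subgroup M) = 2 * (2 ^ (k - 1)) := by
    have h1 := Subgroup.card_mul_index (M.subgroupOf (P : Subgroup G))
    have h2 : (M.subgroupOf (P : Subgroup G)).index = 2 := by
      rw [Subgroup.index_eq_two_iff]
      refine ⟨⟨j, hjP⟩, fun b => ?_⟩
      rcases Classical.em ((b : G) ∈ M) with hb | hb
      · exact Or.inr ⟨hb, fun hh => hjM ((M.mul_mem_cancel_left hb).1 hh)⟩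
      · exact Or.inl ⟨hmulM _ _ hb hjM, hb⟩
    have h3 : Nat.card (T : Subgroup M) = Nat.card (M.subgroupOf (P : Subgroup G)) :=
      Nat.card_congr
        { toFun := fun x => ⟨⟨((x : M) : G), (hTmem _).1 x.2⟩, (x : M).2⟩
          invFun := fun x => ⟨⟨((x : (P : Subgroup G)) : G), x.2⟩, (hTmem _).2 (x : (P : Subgroup G)).2⟩
          left_inv := fun _ => rfl
          right_inv := fun _ => rfl }
    rw [h2, hcard, hk, ← h3] at h1
    rw [← pow_succ', show k - 1 + 1 = k by omega]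
    omega
  let d : TwoFus.Dih (T : Subgroup M) :=
    { m := 2 ^ (k - 1)
      x := ⟨c * c, hc2M⟩
      y := ⟨y, hyM⟩
      even := dvd_pow_self 2 (by omega)
      two_le := by
        calc 2 = 2 ^ 1 := (pow_one 2).symm
          _ ≤ 2 ^ (k - 1) := Nat.pow_le_pow_right two_pos (by omega)
      hm := by
        rw [Subgroup.orderOf_mk, ← pow_two, orderOf_pow, hk,
          Nat.gcd_eq_right (dvd_pow_self 2 (by omega))]
        conv_lhs => rw [show k = k - 1 + 1 by omega, pow_succ]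
        exact Nat.mul_div_cancel _ two_pos
      hx := (hTmem _).2 (mul_mem hcP hcP)
      hy := (hTmem _).2 hyP
      yy := Subtype.ext hyy
      inv := Subtype.ext (by
        show y * (c * c) * y⁻¹ = (c * c)⁻¹
        rw [hydef, show c ^ i * j * (c * c) * (c ^ i * j)⁻¹ = c ^ i * ((j * c * j⁻¹) * (j * c * j⁻¹)) * (c ^ i)⁻¹
          by group, hjinv]
        group)
      ynot := fun ⟨e, he⟩ => by
        have he' : (c * c) ^ e = y := by simpa using congrArg Subtype.val he
        rw [← zpow_two, ← zpow_mul, hydef] at he'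
        exact hjc ⟨-i + 2 * e, by
          show c ^ (-i + 2 * e) = j
          rw [zpow_add, he']; group⟩
      card := hTcard
      cases := fun a ha => by
        rcases hPM _ ((hTmem a).1 ha) a.2 with ⟨e, ⟨l, hl⟩, ha'⟩ | ⟨e, he, ha'⟩
        · exact Or.inl ⟨l, Subtype.ext (by
            rw [Subgroup.coe_zpow, ha', hl, ← two_mul, zpow_mul, zpow_two])⟩
        · obtain ⟨l, hl⟩ := he.sub_odd hiodd
          exact Or.inr ⟨l, Subtype.ext (by
            rw [Subgroup.coe_mul, Subgroup.coe_zpow, ha']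
            show c ^ e * j = (c * c) ^ l * y
            rw [← zpow_two, ← zpow_mul, hydef, ← mul_assoc, ← zpow_add]
            congr 2
            omega)⟩ }
  have hdz : (d.z : G) = z := by
    refine hzuniq _ ?_ (congrArg Subtype.val d.zz) (fun e => d.z_ne (Subtype.ext e))
    obtain ⟨e, he⟩ := d.z_mem
    rw [← he]
    show (((⟨c * c, hc2M⟩ : M) ^ e : M) : G) ∈ Subgroup.zpowers c
    rw [Subgroup.coe_zpow]
    exact zpow_mem (mul_mem (Subgroup.mem_zpowers c) (Subgroup.mem_zpowers c)) e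
  have hone : ∀ a b : M, orderOf a = 2 → orderOf b = 2 → IsConj a b := by
    intro a b ha hb
    rw [← Subgroup.orderOf_coe] at ha hb
    obtain ⟨m, hm, e⟩ := hMone a a.2 ha
    obtain ⟨m', hm', e'⟩ := hMone b b.2 hb
    exact isConj_iff.2 ⟨⟨m' * m⁻¹, mul_mem hm' (inv_mem hm)⟩, Subtype.ext (by
      show m' * m⁻¹ * (a : G) * (m' * m⁻¹)⁻¹ = b
      rw [← e, ← e']; group)⟩
  have h5 := index_le_five T d hone (D := D.subgroupOf M)
    (fun x hx => hPD ((hTmem x).1 hx))
    (fun x hx => hCD x (by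
      have := congrArg Subtype.val (Subgroup.mem_centralizer_singleton_iff.1 hx)
      rwa [Subgroup.coe_mul, Subgroup.coe_mul, hdz] at this))
    (fun a ha b hb ha2 hb2 => by
      rw [← Subgroup.orderOf_coe] at ha2 hb2
      obtain ⟨r, hr, hrM, e⟩ := hcl a ha a.2 ha2
      obtain ⟨r', hr', hrM', e'⟩ := hcl b hb b.2 hb2
      exact ⟨⟨r' * r⁻¹, mul_mem hrM' (inv_mem hrM)⟩, mul_mem hr' (inv_mem hr), Subtype.ext (by
        show r' * r⁻¹ * (a : G) * (r' * r⁻¹)⁻¹ = b
        rw [← e, ← e']; group)⟩)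
  have hMmo : Odd (Nat.card Mm) := hM0o.of_dvd_nat (Subgroup.card_dvd_of_le inf_le_left)
  have hcore : (D.subgroupOf M).normalCore = ⊥ := by
    refine noOdd_normal hO hMn _ inferInstance (Nat.not_even_iff_odd.1 fun he => hMmne ?_)
    obtain ⟨x, hx⟩ := exists_prime_orderOf_dvd_card' (G := (D.subgroupOf M).normalCore) 2
      (even_iff_two_dvd.1 he)
    rw [← Subgroup.orderOf_coe] at hx
    have htop : D = ⊤ := by
      refine eq_top_iff.2 fun w _ => ?_
      have hMD : ∀ m ∈ M, m ∈ D := by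
        intro m hm
        set b : M := ⟨m * z * m⁻¹, mul_mem (mul_mem hm hzM) (inv_mem hm)⟩ with hb
        have hb2 : orderOf b = 2 := by
          rw [hb, Subgroup.orderOf_mk, Invol.order_conj, orderOf_two hzz hz1]
        obtain ⟨q, hq⟩ := isConj_iff.1 (hone x b hx hb2)
        have hbD : b ∈ D.subgroupOf M :=
          (D.subgroupOf M).normalCore_le (hq ▸ (D.subgroupOf M).normalCore_normal.conj_mem _ x.2 q)
        obtain ⟨r, hr, -, e⟩ := hcl _ hbD b.2 (by show orderOf (b : G) = 2; rw [Subgroup.orderOf_coe]; exact hb2)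
        have e' : r * z * r⁻¹ = m * z * m⁻¹ := e
        have hcomm : (r⁻¹ * m) * z = z * (r⁻¹ * m) := by
          calc r⁻¹ * m * z = r⁻¹ * (m * z * m⁻¹) * m := by group
            _ = r⁻¹ * (r * z * r⁻¹) * m := by rw [e']
            _ = z * (r⁻¹ * m) := by group
        have := mul_mem hr (hCD _ hcomm)
        rwa [mul_inv_cancel_left] at this
      rcases hcov w with hw | hw
      · exact hMD w hw
      · have := mul_mem (hMD _ hw) (hPD hjP)
        rwa [mul_assoc, hjj, mul_one] at this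
    exact hO Mm (Subgroup.normalizer_eq_top_iff.1 htop) hMmo
  obtain ⟨q, hq, hq1⟩ : ∃ q ∈ Mm, q ≠ 1 := by
    by_contra hh
    push Not at hh
    exact hMmne ((Subgroup.eq_bot_iff_forall _).2 hh)
  obtain ⟨hqz, -, hqo⟩ := (hMm_iff q).1 hq
  have hqM : q ∈ M := by
    obtain ⟨l, hl⟩ := hqo
    have := pow_mem (Subgroup.mul_self_mem_of_index_two hMi q) (l + 1)
    rwa [← pow_two, ← pow_mul, show 2 * (l + 1) = orderOf q + 1 by omega, pow_succ, pow_orderOf_eq_one,
      one_mul] at this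
  have hzy2 : orderOf (z * y) = 2 := by
    refine orderOf_two (by
      rw [mul_assoc, ← mul_assoc y z, hyzc, mul_assoc, hyy, mul_one, hzz]) fun e => hyz ?_
    rw [eq_inv_of_mul_eq_one_right e, inv_eq_of_mul_eq_one_right hzz]
  have hz2 : orderOf (⟨z, hzM⟩ : M) = 2 := by rw [Subgroup.orderOf_mk, orderOf_two hzz hz1]
  exact false_of_index_le_five h5 hcore (z := (⟨z, hzM⟩ : M)) (v := ⟨y, hyM⟩) (y := ⟨q, hqM⟩)
    (Subtype.ext hzz) (fun e => hz1 (congrArg Subtype.val e))
    (hone _ _ hz2 (by rw [Subgroup.orderOf_mk, hyo]))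
    (hone _ _ hz2 (by rw [← Subgroup.orderOf_coe]; exact hzy2))
    (by rw [Subgroup.orderOf_mk]; exact hqo) (fun e => hq1 (congrArg Subtype.val e))
    (Subtype.ext hqz.symm)

end Hyp2

/-- One inner involution. -/
theorem rankOne {A : Subgroup G} {s : G} (h : Hyp2 A s) (hO : NoOdd G) (hns : ¬ Group.IsSolvable G)
    {j : G} (hj : IsInner A j) (huq : ∀ e, IsInner A e → e = j) : Concl G := by
  haveI := Fact.mk Nat.prime_two
  by_cases ha : ∃ a ∈ A, a * a = j
  · exact (h.R1_of_four hj huq ha).concl hO hns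
  have hF : Four j s (j * s) := ⟨hj.2.1, h.ss, (h.inner_comm hj h.s_mem).symm, rfl⟩
  obtain ⟨P, hP⟩ := hF.isPGroup.exists_le_sylow
  have hjP : j ∈ (P : Subgroup G) := hP hF.u_mem
  by_cases hPH : (P : Subgroup G) ≤ h.H
  · exact (⟨h, hj, huq, P, hPH⟩ : R1 A s j).concl hO hns
  haveI : Nontrivial (P : Subgroup G) := (Subgroup.nontrivial_iff_ne_bot _).2 fun e => hj.2.2 (by
    rwa [e, Subgroup.mem_bot] at hjP)
  haveI := P.isPGroup'.center_nontrivial
  obtain ⟨c', hc'⟩ := exists_prime_orderOf_dvd_card' (G := Subgroup.center (P : Subgroup G)) 2 (by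
    obtain ⟨n, hn0, hn⟩ := (IsPGroup.nontrivial_iff_card (P.isPGroup'.to_subgroup _)).1
      (inferInstance : Nontrivial (Subgroup.center (P : Subgroup G)))
    rw [hn]; exact dvd_pow_self 2 hn0.ne')
  set z : G := ((c' : (P : Subgroup G)) : G) with hzdef
  have hzo : orderOf z = 2 := by rw [hzdef, Subgroup.orderOf_coe, Subgroup.orderOf_coe, hc']
  have hzc : ∀ y ∈ (P : Subgroup G), y * z = z * y := fun y hy =>
    congrArg Subtype.val (Subgroup.mem_center_iff.1 c'.2 ⟨y, hy⟩)
  have hzH := h.mem_H_of_comm hj (hzc j hjP).symm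
  have hz : z * s ∈ A := by
    refine hzH.resolve_left fun hzA => hPH fun x hx => h.mem_H_of_comm hj ?_
    have := huq z ⟨hzA, mul_self_of_orderOf hzo, fun e => by rw [e, orderOf_one] at hzo; omega⟩
    exact this ▸ hzc x hx
  have h' := h.change hz
  refine h'.concl_of_outside hj huq hO hns ha P hjP (c' : (P : Subgroup G)).2 hzc ?_
  rw [h.H_change hz]
  exact hPH

end Cfsg.Agent.DGroup
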