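import Cfsg.Agent.Lib.DGroup.RankTwoFusion
import Cfsg.Agent.Lib.Involutions.Basic
import Cfsg.Agent.S0111

/-!
# Two inner involutions and no fusion
-/

set_option autoImplicit false
set_option linter.unusedSectionVars false
set_option linter.style.haveILetI false

namespace Cfsg.Agent.DGroup

variable {G : Type*} [Group G]

theorem reassoc_ss {s : G} (h : s * s = 1) (x : G) : s * (s * x) = x := by
  rw [← mul_assoc, h, one_mul]

/-- An involution of `K`. -/
def InvK (K : Subgroup G) (x : G) : Prop := x ∈ K ∧ x * x = 1 ∧ x ≠ 1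

/-- The subgroup `K` of index two splitting `A` off from `A s`. -/
structure Split (A : Subgroup G) (s : G) (K : Subgroup G) : Prop where
  hyp : Hyp2 A s
  nrm : K.Normal
  sK : s ∉ K
  cover : ∀ g, g ∈ K ∨ g * s ∈ K
  le : A ≤ K
  fuse : ∀ x ∈ K, x * x = 1 → x ≠ 1 → ∃ g, IsInner A (g * x * g⁻¹)
  odd : Odd (A.relIndex K)
  two_inner : ∃ e₁ e₂, IsInner A e₁ ∧ IsInner A e₂ ∧ e₁ ≠ e₂

/-- An outer involution centralising two non-commuting involutions of `K`. -/
def Big (K : Subgroup G) (t : G) : Prop :=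
  ∃ x y, InvK K x ∧ InvK K y ∧ x * y ≠ y * x ∧ t * x = x * t ∧ t * y = y * t

theorem InvK.conj {K : Subgroup G} (hn : K.Normal) {x : G} (hx : InvK K x) (g : G) :
    InvK K (g * x * g⁻¹) :=
  ⟨hn.conj_mem x hx.1 g, by
    rw [show g * x * g⁻¹ * (g * x * g⁻¹) = g * (x * x) * g⁻¹ by group, hx.2.1]; group,
    fun e => hx.2.2 (conj_eq_one_iff.1 e)⟩

theorem conj_comm {g x y : G} (h : x * y = y * x) :
    g * x * g⁻¹ * (g * y * g⁻¹) = g * y * g⁻¹ * (g * x * g⁻¹) := by
  rw [show g * x * g⁻¹ * (g * y * g⁻¹) = g * (x * y) * g⁻¹ by group, h]; group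

theorem Big.conj {K : Subgroup G} (hn : K.Normal) {t : G} (ht : Big K t) (g : G) :
    Big K (g * t * g⁻¹) := by
  obtain ⟨x, y, hx, hy, hne, h1, h2⟩ := ht
  refine ⟨g * x * g⁻¹, g * y * g⁻¹, hx.conj hn g, hy.conj hn g, fun e => hne ?_,
    conj_comm h1, conj_comm h2⟩
  have := congrArg (fun z => g⁻¹ * z * g) e
  simpa [mul_assoc] using this

namespace Split

variable [Finite G] {A : Subgroup G} {s : G} {K : Subgroup G} (h : Split A s K)

include h

theorem conj (g : G) : Split (A.map (MulAut.conj g).toMonoidHom) (g * s * g⁻¹) K := by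
  have hK : K.map (MulAut.conj g).toMonoidHom = K := by
    ext x
    refine ⟨?_, fun hx => ⟨g⁻¹ * x * g, ?_, by simp [mul_assoc]⟩⟩
    · rintro ⟨y, hy, rfl⟩; exact h.nrm.conj_mem y hy g
    · simpa using h.nrm.conj_mem x hx g⁻¹
  have hinn : ∀ e, IsInner A e → IsInner (A.map (MulAut.conj g).toMonoidHom) (g * e * g⁻¹) :=
    fun e he => ⟨⟨e, he.1, rfl⟩, by
      rw [show g * e * g⁻¹ * (g * e * g⁻¹) = g * (e * e) * g⁻¹ by group, he.2.1]; group,
      fun e' => he.2.2 (conj_eq_one_iff.1 e')⟩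
  refine ⟨h.hyp.conj g, h.nrm, fun hc => h.sK ?_, fun x => ?_, ?_, ?_, ?_, ?_⟩
  · have := h.nrm.conj_mem _ hc g⁻¹; simpa [mul_assoc] using this
  · rcases h.cover (g⁻¹ * x * g) with hx | hx
    · left; have := h.nrm.conj_mem _ hx g; simpa [mul_assoc] using this
    · right; have := h.nrm.conj_mem _ hx g; simpa [mul_assoc] using this
  · conv_rhs => rw [← hK]
    exact Subgroup.map_mono h.le
  · intro x hx h2 h1
    obtain ⟨k, hk⟩ := h.fuse x hx h2 h1
    exact ⟨g * k, by simpa [mul_assoc] using hinn _ hk⟩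
  · conv => arg 1; arg 2; rw [← hK]
    rw [Subgroup.relIndex_map_map_of_injective _ _ (MulAut.conj g).injective]
    exact h.odd
  · obtain ⟨e₁, e₂, h₁, h₂, hne⟩ := h.two_inner
    exact ⟨_, _, hinn _ h₁, hinn _ h₂, fun e => hne (mul_left_cancel (mul_right_cancel e))⟩

/-- Any involution of `K` is inner for some conjugate pair. -/
theorem recentre {x : G} (hx : InvK K x) :
    ∃ A' s', Split A' s' K ∧ IsInner A' x := by
  obtain ⟨g, hg⟩ := h.fuse x hx.1 hx.2.1 hx.2.2
  exact ⟨_, _, h.conj g⁻¹, ⟨⟨_, hg.1, by simp [mul_assoc]⟩, hx.2.1, hx.2.2⟩⟩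

omit [Finite G] in
theorem invK {e : G} (he : IsInner A e) : InvK K e := ⟨h.le he.1, he.2⟩

omit [Finite G] in
theorem not_mem_of_out {t : G} (ht : t * s ∈ A) : t ∉ K := fun htK => h.sK (by
  have := mul_mem (inv_mem htK) (h.le ht)
  rwa [inv_mul_cancel_left] at this)

omit [Finite G] in
theorem mem_A {e k : G} (he : IsInner A e) (hk : k ∈ K) (hc : k * e = e * k) : k ∈ A :=
  (h.hyp.mem_H_of_comm he hc).resolve_right fun ho => h.not_mem_of_out ho hk

theorem comm_trans {x y z : G} (hx : InvK K x) (hy : InvK K y) (hz : InvK K z)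
    (h1 : x * y = y * x) (h2 : z * y = y * z) : x * z = z * x := by
  obtain ⟨A', s', h', hy'⟩ := h.recentre hy
  exact h'.hyp.comm x (h'.mem_A hy' hx.1 h1) z (h'.mem_A hy' hz.1 h2)

theorem exists_noncomm (hns : ¬ Group.IsSolvable G) :
    ∃ x y, InvK K x ∧ InvK K y ∧ x * y ≠ y * x := by
  by_contra hcon
  push Not at hcon
  obtain ⟨e₁, e₂, h₁, h₂, hne⟩ := h.two_inner
  have hE : ∀ x, InvK K x → x ∈ A := fun x hx => h.mem_A h₁ hx.1 (hcon x e₁ hx (h.invK h₁))
  haveI hEn : h.hyp.E.Normal := ⟨fun x hx g => by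
    rcases eq_or_ne x 1 with rfl | hx1
    · simp
    · have := (h.invK (h.hyp.inner_of_E hx hx1)).conj h.nrm g
      exact ⟨hE _ this, this.2.1⟩⟩
  haveI hHn : h.hyp.H.Normal := ⟨fun x hx g => by
    have := (h.invK h₁).conj h.nrm g
    exact (Subgroup.mem_normalizer_iff.1
      (h.hyp.conj_inner_normalizes h₁ ⟨hE _ this, this.2⟩) x).1 hx⟩
  haveI := Fact.mk Nat.prime_two
  obtain ⟨S, hSH, -, -⟩ := h.hyp.exists_sylow h₁ h₂ hne
  haveI : Nontrivial h.hyp.E := Subgroup.nontrivial_iff_ne_bot _ |>.2 fun e => h₁.2.2 (by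
    have : e₁ ∈ h.hyp.E := ⟨h₁.1, h₁.2.1⟩
    rwa [e, Subgroup.mem_bot] at this)
  have hodd : Odd (Nat.card (G ⧸ h.hyp.H)) := by
    rw [← Subgroup.index_eq_card]
    exact Nat.not_even_iff_odd.1 fun e =>
      S.not_dvd_index ((even_iff_two_dvd.1 e).trans (Subgroup.index_dvd_of_le hSH))
  let φ : G ⧸ h.hyp.H →* MulAut h.hyp.E :=
    QuotientGroup.lift h.hyp.H MulAut.conjNormal fun g hg => by
      rw [MonoidHom.mem_ker]
      ext x
      rw [MulAut.conjNormal_apply, h.hyp.E_comm_H x.2 hg, mul_inv_cancel_right]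
      rfl
  haveI : IsZGroup (G ⧸ h.hyp.H) := CN.isZGroup_of_fpf hodd φ fun q hq z hz => by
    obtain ⟨g, rfl⟩ := QuotientGroup.mk_surjective q
    by_contra hz1
    refine hq ((QuotientGroup.eq_one_iff g).2 (h.hyp.mem_H_of_comm
      (h.hyp.inner_of_E z.2 fun e => hz1 (Subtype.ext e)) ?_))
    have e : g * (z : G) * g⁻¹ = z := congrArg Subtype.val hz
    exact mul_inv_eq_iff_eq_mul.1 e
  haveI := h.hyp.isSolvable_H
  exact hns (Group.isSolvable_of_ker_le_range h.hyp.H.subtype (QuotientGroup.mk' h.hyp.H)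
    (by rw [QuotientGroup.ker_mk', Subgroup.range_subtype]))

/-- Non-commuting involutions of `K` are conjugate in the group they generate. -/
theorem conj_of_noncomm {x y : G} (hx : InvK K x) (hy : InvK K y) (hne : x * y ≠ y * x) :
    ∃ d ∈ Subgroup.closure ({x, y} : Set G), d * x * d⁻¹ = y := by
  have hox := orderOf_two hx.2.1 hx.2.2
  have hoy := orderOf_two hy.2.1 hy.2.2
  rcases Nat.even_or_odd (orderOf (x * y)) with he | ho
  · exfalso
    have h1 := Invol.half_order hox hoy he (orderOf_pos _)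
    obtain ⟨h2, h3⟩ := Invol.half_commute hox hoy he
    have hz : InvK K ((x * y) ^ (orderOf (x * y) / 2)) :=
      ⟨pow_mem (mul_mem hx.1 hy.1) _, mul_self_of_orderOf h1,
        fun e => by rw [e, orderOf_one] at h1; omega⟩
    exact hne (h.comm_trans hx hz hy h2.eq.symm h3.eq.symm)
  · exact Invol.conj_of_odd hox hoy ho

/-- An outer involution and an involution of `K` not commuting with it give a big involution. -/
theorem exists_big {t e : G} (htt : t * t = 1) (htK : t ∉ K) (he : InvK K e)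
    (hne : t * e ≠ e * t) :
    ∃ z f, z * z = 1 ∧ z ∉ K ∧ Big K z ∧ InvK K f ∧ t * f = f * t ∧ z = t * f := by
  have hot := orderOf_two htt fun e1 => htK (e1 ▸ one_mem K)
  have hoe := orderOf_two he.2.1 he.2.2
  have hev : Even (orderOf (t * e)) := by
    refine Nat.not_odd_iff_even.1 fun ho => ?_
    obtain ⟨d, -, hd⟩ := Invol.conj_of_odd hot hoe ho
    refine htK ?_
    have := h.nrm.conj_mem e he.1 d⁻¹
    rwa [← hd, show d⁻¹ * (d * t * d⁻¹) * d⁻¹⁻¹ = t by group] at this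
  have h1 := Invol.half_order hot hoe hev (orderOf_pos _)
  obtain ⟨h2, h3⟩ := Invol.half_commute hot hoe hev
  set z := (t * e) ^ (orderOf (t * e) / 2) with hz
  have hzz := mul_self_of_orderOf h1
  have hzK : z ∉ K := by
    intro hzK
    obtain ⟨A', s', h', hz'⟩ := h.recentre (x := z)
      ⟨hzK, hzz, fun e1 => by rw [e1, orderOf_one] at h1; omega⟩
    have heA : e ∈ A' := h'.mem_A hz' he.1 h3.eq.symm
    exact hne (h'.hyp.inner_comm ⟨heA, he.2⟩ (h'.hyp.mem_H_of_comm hz' h2.eq.symm))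
  have hzt : z * t = t * z := h2.eq
  have hf : InvK K (t * z) := by
    refine ⟨?_, ?_, fun e1 => hne ?_⟩
    · have c1 := (h.cover t).resolve_left htK
      have c2 := (h.cover z).resolve_left hzK
      have : t * s * (z * s)⁻¹ ∈ K := mul_mem c1 (inv_mem c2)
      rwa [mul_inv_rev, ← mul_assoc, mul_inv_cancel_right, inv_eq_of_mul_eq_one_right hzz] at this
    · calc t * z * (t * z) = t * (z * t) * z := by group
        _ = (t * t) * (z * z) := by rw [hzt]; group
        _ = 1 := by rw [htt, hzz, one_mul]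
    · have : t = z := by rw [eq_inv_of_mul_eq_one_left e1, inv_eq_of_mul_eq_one_right hzz]
      rw [this]; exact h3.eq
  refine ⟨z, t * z, hzz, hzK, ⟨e, t * z, he, hf, fun c => hne ?_, h3.eq, ?_⟩, hf, ?_, ?_⟩
  · calc t * e = (t * z) * (z * e) := by rw [← mul_assoc, mul_assoc t z z, hzz, mul_one]
      _ = (t * z) * e * z := by rw [h3.eq]; group
      _ = e * (t * z) * z := by rw [c]
      _ = e * t := by rw [mul_assoc, mul_assoc t z z, hzz, mul_one]
  · calc z * (t * z) = z * t * z := (mul_assoc _ _ _).symm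
      _ = t * z * z := by rw [hzt]
  · rw [mul_assoc t z t, hzt]
  · rw [← mul_assoc, htt, one_mul]

/-- In the centraliser of a big involution the involutions of `A` are conjugate. -/
theorem exists_conj_of_big {t : G} (ht : Big K t) {e e' : G} (he : IsInner A e) (he' : IsInner A e')
    (hte : t * e = e * t) (hte' : t * e' = e' * t) :
    ∃ x ∈ K, t * x = x * t ∧ x * e * x⁻¹ = e' := by
  obtain ⟨u, v, hu, hv, huv, htu, htv⟩ := ht
  have hee' := h.hyp.comm e he.1 e' he'.1
  obtain ⟨w, hw, htw, hwe⟩ : ∃ w, InvK K w ∧ t * w = w * t ∧ w * e ≠ e * w := by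
    by_cases c : u * e = e * u
    · exact ⟨v, hv, htv, fun c' => huv (h.comm_trans hu (h.invK he) hv c c')⟩
    · exact ⟨u, hu, htu, c⟩
  have hwe' : w * e' ≠ e' * w := fun c => hwe (h.comm_trans hw (h.invK he') (h.invK he) c hee')
  obtain ⟨d₁, hd₁, hi⟩ := h.conj_of_noncomm (h.invK he) hw (Ne.symm hwe)
  obtain ⟨d₂, hd₂, hj⟩ := h.conj_of_noncomm hw (h.invK he') hwe'
  have hc : ∀ x y : G, x ∈ K → y ∈ K → t * x = x * t → t * y = y * t →
      ∀ d ∈ Subgroup.closure ({x, y} : Set G), d ∈ K ⊓ Subgroup.centralizer ({t} : Set G) := by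
    intro x y hx hy htx hty d hd
    refine (Subgroup.closure_le _).2 ?_ hd
    rintro z (rfl | rfl)
    · exact ⟨hx, Subgroup.mem_centralizer_singleton_iff.2 htx.symm⟩
    · exact ⟨hy, Subgroup.mem_centralizer_singleton_iff.2 hty.symm⟩
  have m1 := hc _ _ (h.le he.1) hw.1 hte htw _ hd₁
  have m2 := hc _ _ hw.1 (h.le he'.1) htw hte' _ hd₂
  refine ⟨d₂ * d₁, mul_mem m2.1 m1.1,
    (Subgroup.mem_centralizer_singleton_iff.1 (mul_mem m2.2 m1.2)).symm, ?_⟩
  calc d₂ * d₁ * e * (d₂ * d₁)⁻¹ = d₂ * (d₁ * e * d₁⁻¹) * d₂⁻¹ := by group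
    _ = e' := by rw [hi, hj]

/-- If `t` and `t a` are big then `a` is a square in `A`. -/
theorem big_square {t a : G} (ht : t * s ∈ A) (ha : a ∈ A) (h1 : Big K t) (h2 : Big K (t * a)) :
    ∃ b ∈ A, b * b = a := by
  obtain ⟨e, e', he, he', hne⟩ := h.two_inner
  have htH : t ∈ h.hyp.H := Or.inr ht
  have htaH : t * a ∈ h.hyp.H := mul_mem htH (Or.inl ha)
  obtain ⟨x, hxK, htx, hx⟩ := h.exists_conj_of_big h1 he he' (h.hyp.inner_comm he htH)
    (h.hyp.inner_comm he' htH)
  obtain ⟨y, hyK, hty, hy⟩ := h.exists_conj_of_big h2 he he' (h.hyp.inner_comm he htaH)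
    (h.hyp.inner_comm he' htaH)
  set a' := x⁻¹ * y with ha'
  have ha'A : a' ∈ A := h.mem_A he (mul_mem (inv_mem hxK) hyK) (by
    calc x⁻¹ * y * e = x⁻¹ * (y * e * y⁻¹) * y := by group
      _ = x⁻¹ * (x * e * x⁻¹) * y := by rw [hy, hx]
      _ = e * (x⁻¹ * y) := by group)
  -- `x` normalises `A`
  have hnH := h.hyp.conj_inner_normalizes he (show IsInner A (x * e * x⁻¹) by rw [hx]; exact he')
  have hxA : ∀ b ∈ A, x * b * x⁻¹ ∈ A := fun b hb =>
    (((Subgroup.mem_normalizer_iff.1 hnH b).1 (Or.inl hb)).resolve_right fun ho =>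
      h.not_mem_of_out ho (h.nrm.conj_mem b (h.le hb) x))
  have hxA' : ∀ b ∈ A, x⁻¹ * b * x ∈ A := fun b hb =>
    (((Subgroup.mem_normalizer_iff.1 hnH (x⁻¹ * b * x)).2 (Or.inl (by simpa [mul_assoc] using hb))).resolve_right
      fun ho => h.not_mem_of_out ho (by simpa using h.nrm.conj_mem b (h.le hb) x⁻¹))
  have key : x⁻¹ * a * x = a'⁻¹ * a'⁻¹ * a := by
    have hy' : y = x * a' := by rw [ha']; group
    have e1 : t * a * (x * a') = x * a' * (t * a) := by rw [← hy']; exact hty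
    have e2 : x * a' * (t * a) = t * (x * a'⁻¹ * a) := by
      calc x * a' * (t * a) = x * (a' * t) * a := by group
        _ = x * (t * (t * a' * t⁻¹)) * a := by
            rw [h.hyp.out_conj ht ha'A]
            congr 2
            have := h.hyp.out_conj ht ha'A
            calc a' * t = (t * a'⁻¹ * t⁻¹) * t := by
                  rw [h.hyp.out_conj ht (inv_mem ha'A), inv_inv]
              _ = t * a'⁻¹ := by group
        _ = (x * t) * a'⁻¹ * a := by rw [h.hyp.out_conj ht ha'A]; group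
        _ = t * (x * a'⁻¹ * a) := by rw [← htx]; group
    rw [e2, mul_assoc t a] at e1
    have e3 := mul_left_cancel e1
    calc x⁻¹ * a * x = x⁻¹ * (a * (x * a')) * a'⁻¹ := by group
      _ = a'⁻¹ * a * a'⁻¹ := by rw [e3]; group
      _ = a'⁻¹ * a'⁻¹ * a := by rw [mul_assoc, h.hyp.comm a ha _ (inv_mem ha'A), mul_assoc]
  -- an odd power of `x` lies in `A`
  obtain ⟨k, hk, hxk⟩ : ∃ k : ℕ, Odd k ∧ x ^ k ∈ A := by
    set L := Subgroup.normalizer (A : Set G) ⊓ K with hL
    have hxL : x ∈ L := ⟨Subgroup.mem_normalizer_iff.2 fun b =>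
      ⟨hxA b, fun hb => by simpa [mul_assoc] using hxA' _ hb⟩, hxK⟩
    haveI : (A.subgroupOf L).Normal := Subgroup.normal_subgroupOf_of_le_normalizer inf_le_left
    refine ⟨A.relIndex L, h.odd.of_dvd_nat ⟨L.relIndex K, ?_⟩, ?_⟩
    · exact (Subgroup.relIndex_mul_relIndex A L K (le_inf Subgroup.le_normalizer h.le) inf_le_right).symm
    · have := (A.subgroupOf L).pow_index_mem ⟨x, hxL⟩
      exact Subgroup.mem_subgroupOf.1 this
  -- the product of the conjugates of `a`
  let P : ℕ → G := fun n => Nat.rec 1 (fun _ r => x⁻¹ * r * x * a) n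
  have hP : ∀ n, P n ∈ A ∧ ∃ b ∈ A, P n = a ^ n * (b * b) := by
    intro n
    induction n with
    | zero => exact ⟨one_mem A, 1, one_mem A, by simp [P]⟩
    | succ n ih =>
      obtain ⟨hn, b, hb, e⟩ := ih
      refine ⟨mul_mem (hxA' _ hn) ha, (a'⁻¹) ^ n * (x⁻¹ * b * x),
        mul_mem (pow_mem (inv_mem ha'A) n) (hxA' b hb), ?_⟩
      show x⁻¹ * P n * x * a = _
      have e1 : x⁻¹ * a ^ n * x = a'⁻¹ ^ n * a'⁻¹ ^ n * a ^ n := by
        have : x⁻¹ * a ^ n * x = (x⁻¹ * a * x) ^ n := by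
          simpa using (map_pow (MulAut.conj x⁻¹) a n)
        rw [this, key, Commute.mul_pow (h.hyp.comm _ (mul_mem (inv_mem ha'A) (inv_mem ha'A)) a ha),
          (Commute.refl a'⁻¹).mul_pow]
      set c := x⁻¹ * b * x with hc
      set d := a'⁻¹ ^ n with hd
      have hcA : c ∈ A := hxA' b hb
      have hdA : d ∈ A := pow_mem (inv_mem ha'A) n
      calc x⁻¹ * P n * x * a = (x⁻¹ * a ^ n * x) * (c * c) * a := by rw [e, hc]; group
        _ = d * d * a ^ n * (c * c) * a := by rw [e1]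
        _ = a ^ (n + 1) * (d * c * (d * c)) := by
            let A' : A := ⟨a, ha⟩
            let C' : A := ⟨c, hcA⟩
            let D' : A := ⟨d, hdA⟩
            letI : CommGroup A :=
              { (inferInstance : Group A) with
                mul_comm := fun u v => Subtype.ext (h.hyp.comm u u.2 v v.2) }
            have : D' * D' * A' ^ n * (C' * C') * A' = A' ^ (n + 1) * (D' * C' * (D' * C')) := by
              rw [pow_succ]; ac_rfl
            exact congrArg Subtype.val this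
  have hP2 : ∀ n, P (n + 1) = P n * ((x ^ n)⁻¹ * a * x ^ n) := by
    intro n
    induction n with
    | zero => simp [P]
    | succ n ih =>
      show x⁻¹ * P (n + 1) * x * a = _
      have hm : (x ^ (n + 1))⁻¹ * a * x ^ (n + 1) = x⁻¹ * ((x ^ n)⁻¹ * a * x ^ n) * x := by
        rw [pow_succ]; group
      rw [hm]
      calc x⁻¹ * P (n + 1) * x * a
          = (x⁻¹ * P n * x) * ((x⁻¹ * ((x ^ n)⁻¹ * a * x ^ n) * x) * a) := by rw [ih]; group
        _ = (x⁻¹ * P n * x) * (a * (x⁻¹ * ((x ^ n)⁻¹ * a * x ^ n) * x)) := by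
            have hmem : ∀ m : ℕ, (x ^ m)⁻¹ * a * x ^ m ∈ A := by
              intro m
              induction m with
              | zero => simpa using ha
              | succ m ihm =>
                rw [show (x ^ (m + 1))⁻¹ * a * x ^ (m + 1) = x⁻¹ * ((x ^ m)⁻¹ * a * x ^ m) * x by
                  rw [pow_succ]; group]
                exact hxA' _ ihm
            rw [h.hyp.comm _ (hxA' _ (hmem n)) a ha]
        _ = P (n + 1) * (x⁻¹ * ((x ^ n)⁻¹ * a * x ^ n) * x) := by
            show _ = x⁻¹ * P n * x * a * _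
            group
  have hfix : x⁻¹ * P k * x = P k := by
    have e1 : P (k + 1) = P k * a := by
      rw [hP2, show (x ^ k)⁻¹ * a * x ^ k = a by
        rw [mul_assoc, h.hyp.comm a ha _ hxk, inv_mul_cancel_left]]
    exact mul_right_cancel e1
  have hPo : Odd (orderOf (P k)) := by
    refine Nat.not_even_iff_odd.1 fun hev => ?_
    obtain ⟨m, hm⟩ := hev
    set f := P k ^ m with hf
    have hm0 : 0 < m := by have := orderOf_pos (P k); omega
    have hfi : IsInner A f := by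
      refine ⟨pow_mem (hP k).1 m, by rw [hf, ← pow_add, ← hm, pow_orderOf_eq_one], fun e1 => ?_⟩
      have := Nat.le_of_dvd hm0 (orderOf_dvd_of_pow_eq_one e1)
      omega
    have hxf : x * f = f * x := by
      have hc : Commute x (P k) := by
        show x * P k = P k * x
        conv_lhs => rw [← hfix]
        group
      exact (hc.pow_right m).eq
    have := h.mem_A hfi hxK hxf
    refine hne ?_
    rw [← hx, h.hyp.comm x this e he.1, mul_inv_cancel_right]
  obtain ⟨b, hb, e⟩ := (hP k).2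
  obtain ⟨m, hm⟩ := hPo
  obtain ⟨l, hl⟩ := hk
  refine ⟨P k ^ (m + 1) * (a ^ l * b)⁻¹,
    mul_mem (pow_mem (hP k).1 _) (inv_mem (mul_mem (pow_mem ha l) hb)), ?_⟩
  have hsq : P k ^ (m + 1) * P k ^ (m + 1) = P k := by
    rw [← pow_add, show m + 1 + (m + 1) = 2 * m + 1 + 1 by ring, pow_succ, ← hm, pow_orderOf_eq_one,
      one_mul]
  letI : CommGroup A :=
    { (inferInstance : Group A) with mul_comm := fun u v => Subtype.ext (h.hyp.comm u u.2 v v.2) }
  let A' : A := ⟨a, ha⟩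
  let B' : A := ⟨b, hb⟩
  let Q' : A := ⟨P k, (hP k).1⟩
  have eQ : Q' = A' ^ k * (B' * B') := Subtype.ext e
  have : Q' ^ (m + 1) * (A' ^ l * B')⁻¹ * (Q' ^ (m + 1) * (A' ^ l * B')⁻¹) = A' := by
    rw [mul_mul_mul_comm, show Q' ^ (m + 1) * Q' ^ (m + 1) = Q' from Subtype.ext hsq, eQ, hl,
      two_mul, pow_succ, pow_add, ← mul_inv_rev, mul_inv_eq_iff_eq_mul]
    ac_rfl
  exact congrArg Subtype.val this

end Split

theorem Hyp2.exists_split [Finite G] {A : Subgroup G} {s : G} (h : Hyp2 A s) (hu : Unfused A s)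
    {e₁ e₂ : G} (h₁ : IsInner A e₁) (h₂ : IsInner A e₂) (hne : e₁ ≠ e₂) :
    ∃ K, Split A s K := by
  haveI := Fact.mk Nat.prime_two
  obtain ⟨S, hSH, hsS, -⟩ := h.exists_sylow h₁ h₂ hne
  set K₀ := ⨅ M : {M : Subgroup G // M.Normal ∧ M.index = 2}, (M : Subgroup G) with hK₀
  haveI hK₀n : K₀.Normal := ⟨fun x hx g => Subgroup.mem_iInf.2 fun M =>
    M.2.1.conj_mem x (Subgroup.mem_iInf.1 hx M) g⟩
  have hsqK₀ : ∀ g : G, g * g ∈ K₀ := fun g => Subgroup.mem_iInf.2 fun M => by
    haveI := M.2.1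
    exact Subgroup.mul_self_mem_of_index_two M.2.2 g
  have hcomK₀ : ∀ g k : G, g * k * g⁻¹ * k⁻¹ ∈ K₀ := fun g k => by
    have e : g * k * g⁻¹ * k⁻¹ = (g * g) * ((g⁻¹ * k) * (g⁻¹ * k)) * (k⁻¹ * k⁻¹) := by group
    rw [e]
    exact mul_mem (mul_mem (hsqK₀ _) (hsqK₀ _)) (hsqK₀ _)
  set SA := (S : Subgroup G) ⊓ A with hSA
  have hrel : SA.relIndex (S : Subgroup G) = 2 := by
    rw [Subgroup.relIndex, Subgroup.index_eq_two_iff]
    refine ⟨⟨s, hsS⟩, fun b => ?_⟩
    rcases hSH b.2 with hb | hb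
    · exact Or.inr ⟨⟨b.2, hb⟩, fun hbs => h.not_mem_of_mul_s hbs.2 hb⟩
    · exact Or.inl ⟨⟨mul_mem b.2 hsS, hb⟩, fun hb' => h.not_mem_of_mul_s hb hb'.2⟩
  have hK₀S : ∀ x ∈ (S : Subgroup G), x ∈ K₀ → x ∈ A := by
    intro x hx hxK
    by_contra hxA
    have hxs := (h.out_iff (hSH hx)).1 hxA
    have hox : orderOf x = 2 := orderOf_two (h.out_sq hxs) fun e => hxA (e ▸ one_mem A)
    rcases S0111.result S SA inf_le_left hrel x hox hx (fun hh => hxA hh.2) with
      ⟨M, hMn, hMi, hxM⟩ | ⟨g, hg⟩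
    · exact hxM (Subgroup.mem_iInf.1 hxK ⟨M, hMn, hMi⟩)
    · refine hu x hxs g ⟨hg.2, ?_, fun e => hxA ?_⟩
      · rw [show g * x * g⁻¹ * (g * x * g⁻¹) = g * (x * x) * g⁻¹ by group, h.out_sq hxs]; group
      · rw [conj_eq_one_iff.1 e]; exact one_mem A
  set K := K₀ ⊔ SA with hK
  haveI hKn : K.Normal := ⟨fun x hx g => by
    have := mul_mem (Subgroup.mem_sup_left (T := SA) (hcomK₀ g x)) hx
    rwa [inv_mul_cancel_right] at this⟩
  have hKS : ∀ x ∈ (S : Subgroup G), x ∈ K → x ∈ A := by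
    intro x hx hxK
    obtain ⟨k, hk, a, ha, rfl⟩ := Subgroup.mem_sup_of_normal_left.1 hxK
    exact mul_mem (hK₀S k (by have := mul_mem hx (inv_mem ha.1); rwa [mul_inv_cancel_right] at this) hk) ha.2
  have hsK : s ∉ K := fun hh => h.sA (hKS s hsS hh)
  have htop : K₀ ⊔ (S : Subgroup G) = ⊤ := by
    have hq : IsPGroup 2 (G ⧸ K₀) := fun q => by
      obtain ⟨g, rfl⟩ := QuotientGroup.mk_surjective q
      exact ⟨1, by rw [pow_one, pow_two, ← QuotientGroup.mk_mul, QuotientGroup.eq_one_iff]; exact hsqK₀ g⟩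
    obtain ⟨n, hn⟩ := IsPGroup.iff_card.1 hq
    rw [← Subgroup.index_eq_one]
    have d1 : (K₀ ⊔ (S : Subgroup G)).index ∣ 2 ^ n := by
      rw [← hn, ← Subgroup.index_eq_card]; exact Subgroup.index_dvd_of_le le_sup_left
    have d2 : (K₀ ⊔ (S : Subgroup G)).index ∣ (S : Subgroup G).index :=
      Subgroup.index_dvd_of_le le_sup_right
    have hc : Nat.Coprime (2 ^ n) (S : Subgroup G).index :=
      Nat.Coprime.pow_left n ((Nat.Prime.coprime_iff_not_dvd Nat.prime_two).2 S.not_dvd_index)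
    exact Nat.eq_one_of_dvd_coprimes hc d1 d2
  have hcov : ∀ g, g ∈ K ∨ g * s ∈ K := by
    intro g
    obtain ⟨k, hk, x, hx, rfl⟩ := Subgroup.mem_sup_of_normal_left.1
      (show g ∈ K₀ ⊔ (S : Subgroup G) by rw [htop]; trivial)
    rcases hSH hx with hxA | hxA
    · exact Or.inl (mul_mem (Subgroup.mem_sup_left hk)
        (Subgroup.mem_sup_right (⟨hx, hxA⟩ : x ∈ SA)))
    · refine Or.inr ?_
      rw [mul_assoc]
      exact mul_mem (Subgroup.mem_sup_left hk)
        (Subgroup.mem_sup_right (⟨mul_mem hx hsS, hxA⟩ : x * s ∈ SA))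
  -- a Sylow subgroup of `H`
  set T : Sylow 2 h.H := S.subtype hSH with hT
  have hconjS : ∀ t, t ∈ h.H → t * t = 1 → ∃ g ∈ h.H, g * t * g⁻¹ ∈ (S : Subgroup G) := by
    intro t ht htt
    have h2 : IsPGroup 2 (Subgroup.zpowers (⟨t, ht⟩ : h.H)) := fun q => by
      obtain ⟨n, hn⟩ := Subgroup.mem_zpowers_iff.1 q.2
      exact ⟨1, Subtype.ext (by
        rw [pow_one, Subgroup.coe_pow, ← hn, ← zpow_natCast, ← zpow_mul, mul_comm, zpow_mul,
          zpow_natCast, pow_two, show (⟨t, ht⟩ : h.H) * ⟨t, ht⟩ = 1 from Subtype.ext htt, one_zpow]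
        rfl)⟩
    obtain ⟨P, hP⟩ := h2.exists_le_sylow
    obtain ⟨g, hg⟩ := MulAction.exists_smul_eq h.H P T
    refine ⟨g, g.2, ?_⟩
    have hm : MulAut.conj g • (⟨t, ht⟩ : h.H) ∈ (T : Subgroup h.H) := by
      rw [← hg, Sylow.coe_subgroup_smul]
      exact Subgroup.smul_mem_pointwise_smul _ (MulAut.conj g) _ (hP (Subgroup.mem_zpowers _))
    exact hm
  have hAK : A ≤ K := by
    intro a ha
    refine (hcov a).resolve_right fun has => ?_
    have haH : a * s ∈ h.H := mul_mem (Or.inl ha) h.s_mem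
    have hout : a * s * s ∈ A := by rw [mul_assoc, h.ss, mul_one]; exact ha
    obtain ⟨g, hg, hgS⟩ := hconjS _ haH (h.out_sq hout)
    refine h.not_mem_of_mul_s hout ?_
    have hA' := hKS _ hgS (hKn.conj_mem _ has g)
    have hn : (A.subgroupOf h.H).Normal := Subgroup.normal_of_index_eq_two h.A_relIndex
    have := hn.conj_mem ⟨g * (a * s) * g⁻¹, mul_mem (mul_mem hg haH) (inv_mem hg)⟩ hA' ⟨g, hg⟩⁻¹
    simpa [Subgroup.mem_subgroupOf, mul_assoc] using this
  refine ⟨K, h, hKn, hsK, hcov, hAK, ?_, ?_, e₁, e₂, h₁, h₂, hne⟩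
  · intro x hxK hxx hx1
    obtain ⟨P, hP⟩ := (IsPGroup.of_card (p := 2) (G := Subgroup.zpowers x) (n := 1)
      (by rw [Nat.card_zpowers, orderOf_two hxx hx1, pow_one])).exists_le_sylow
    obtain ⟨g, hg⟩ := MulAction.exists_smul_eq G P S
    have hgx : g * x * g⁻¹ ∈ (S : Subgroup G) := by
      rw [← hg, Sylow.coe_subgroup_smul]
      exact Subgroup.smul_mem_pointwise_smul _ (MulAut.conj g) _ (hP (Subgroup.mem_zpowers x))
    exact ⟨g, hKS _ hgx (hKn.conj_mem x hxK g), by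
      rw [show g * x * g⁻¹ * (g * x * g⁻¹) = g * (x * x) * g⁻¹ by group, hxx]; group,
      fun e => hx1 (conj_eq_one_iff.1 e)⟩
  · have hKi : K.index = 2 := Subgroup.index_eq_two_iff.2 ⟨s, fun b => by
      rcases hcov b with hb | hb
      · exact Or.inr ⟨hb, fun hbs => hsK (by have := mul_mem (inv_mem hb) hbs; rwa [inv_mul_cancel_left] at this)⟩
      · exact Or.inl ⟨hb, fun hb' => hsK (by have := mul_mem (inv_mem hb') hb; rwa [inv_mul_cancel_left] at this)⟩⟩
    have e : A.relIndex K * 2 = h.H.index * 2 := by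
      have := Subgroup.relIndex_mul_index hAK
      have h' := Subgroup.relIndex_mul_index h.A_le
      rw [hKi] at this
      rw [h.A_relIndex] at h'
      omega
    rw [Nat.eq_of_mul_eq_mul_right (by norm_num) e]
    exact Nat.not_even_iff_odd.1 fun ev =>
      S.not_dvd_index ((even_iff_two_dvd.1 ev).trans (Subgroup.index_dvd_of_le hSH))

namespace Split

variable [Finite G] {A : Subgroup G} {s : G} {K : Subgroup G} (h : Split A s K)

include h

theorem conjK (hns : ¬ Group.IsSolvable G) {x y : G} (hx : InvK K x) (hy : InvK K y) :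
    ∃ k ∈ K, k * x * k⁻¹ = y := by
  have key : ∀ u v, InvK K u → InvK K v → u * v ≠ v * u → ∃ k ∈ K, k * u * k⁻¹ = v := by
    intro u v hu hv hne
    obtain ⟨d, hd, e⟩ := h.conj_of_noncomm hu hv hne
    refine ⟨d, (Subgroup.closure_le _).2 ?_ hd, e⟩
    rintro z (rfl | rfl)
    exacts [hu.1, hv.1]
  by_cases hc : x * y = y * x
  · obtain ⟨u, v, hu, hv, huv⟩ := h.exists_noncomm hns
    obtain ⟨w, hw, hwx⟩ : ∃ w, InvK K w ∧ w * x ≠ x * w := by
      by_cases c : u * x = x * u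
      · exact ⟨v, hv, fun c' => huv (h.comm_trans hu hx hv c c')⟩
      · exact ⟨u, hu, c⟩
    have hwy : w * y ≠ y * w := fun c => hwx (h.comm_trans hw hy hx c hc)
    obtain ⟨k₁, hk₁, e₁⟩ := key x w hx hw (Ne.symm hwx)
    obtain ⟨k₂, hk₂, e₂⟩ := key w y hw hy hwy
    exact ⟨k₂ * k₁, mul_mem hk₂ hk₁, by rw [← e₂, ← e₁]; group⟩
  · exact key x y hx hy hc

theorem big_of_comm_all (hns : ¬ Group.IsSolvable G) {t : G}
    (hc : ∀ x, InvK K x → t * x = x * t) : Big K t := by
  obtain ⟨u, v, hu, hv, huv⟩ := h.exists_noncomm hns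
  exact ⟨u, v, hu, hv, huv, hc u hu, hc v hv⟩

omit [Finite G] in
theorem out_of_comm {t e : G} (he : IsInner A e) (htK : t ∉ K) (hc : t * e = e * t) : t * s ∈ A :=
  (h.hyp.mem_H_of_comm he hc).resolve_left fun hA => htK (h.le hA)

/-- No involution of `K` is the square of an element of `K`. -/
theorem not_square (hns : ¬ Group.IsSolvable G) {x : G} (hx : InvK K x) {b : G} (hb : b ∈ K) :
    b * b ≠ x := by
  intro hbx
  have hall : ∀ f, InvK K f → ∃ c ∈ K, c * c = f := fun f hf => by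
    obtain ⟨k, hk, e⟩ := h.conjK hns hx hf
    exact ⟨k * b * k⁻¹, mul_mem (mul_mem hk hb) (inv_mem hk), by rw [← e, ← hbx]; group⟩
  -- every outer involution is big
  have hbig : ∀ t, t * t = 1 → t ∉ K → Big K t := by
    intro t htt htK
    by_contra hnb
    obtain ⟨e, he, hne⟩ : ∃ e, InvK K e ∧ t * e ≠ e * t := by
      by_contra hcon
      push Not at hcon
      exact hnb (h.big_of_comm_all hns hcon)
    obtain ⟨z, f, -, -, hz, hf, htf, rfl⟩ := h.exists_big htt htK he hne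
    obtain ⟨c, hcK, hcc⟩ := hall f hf
    obtain ⟨A', s', h', hf'⟩ := h.recentre hf
    have hcA : c ∈ A' := h'.mem_A hf' hcK (by rw [← hcc, mul_assoc])
    have hto := h'.out_of_comm hf' htK htf
    have e1 : c * (t * f) * c⁻¹ = t := by
      have e2 := h'.hyp.out_conj hto hcA
      calc c * (t * f) * c⁻¹ = c * t * c := by rw [← hcc]; group
        _ = c * (t * c * t⁻¹) * t := by group
        _ = t := by rw [e2]; group
    exact hnb (e1 ▸ hz.conj h.nrm c)
  have hsurj : Function.Surjective (fun a : A => a * a) := by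
    intro a
    have h1 : (s * (a : G)) * s ∈ A := by rw [h.hyp.inv a a.2]; exact inv_mem a.2
    obtain ⟨c, hc, e⟩ := h.big_square (t := s) (by rw [h.hyp.ss]; exact one_mem A) a.2
      (hbig s h.hyp.ss h.sK) (hbig _ (h.hyp.out_sq h1) (h.not_mem_of_out h1))
    exact ⟨⟨c, hc⟩, Subtype.ext e⟩
  obtain ⟨e, -, he, -, -⟩ := h.two_inner
  have := Finite.injective_iff_surjective.2 hsurj
    (a₁ := (⟨e, he.1⟩ : A)) (a₂ := 1) (Subtype.ext (by simpa using he.2.1))
  exact he.2.2 (congrArg Subtype.val this)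

theorem concl (hO : NoOdd G) (hns : ¬ Group.IsSolvable G) : Concl G := by
  -- a big involution centralises all involutions of `K`
  have hbc : ∀ t, t * t = 1 → t ∉ K → Big K t → ∀ x, InvK K x → t * x = x * t := by
    intro t htt htK hbt e he
    by_contra hne
    obtain ⟨z, f, -, -, hz, hf, htf, rfl⟩ := h.exists_big htt htK he hne
    obtain ⟨A', s', h', hf'⟩ := h.recentre hf
    obtain ⟨b, hb, e'⟩ := h'.big_square (h'.out_of_comm hf' htK htf) hf'.1 hbt hz
    exact h.not_square hns hf (h'.le hb) e'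
  obtain ⟨t, htt, htK, htc⟩ : ∃ t, t * t = 1 ∧ t ∉ K ∧ ∀ x, InvK K x → t * x = x * t := by
    by_cases hs : ∀ x, InvK K x → s * x = x * s
    · exact ⟨s, h.hyp.ss, h.sK, hs⟩
    · push Not at hs
      obtain ⟨e, he, hne⟩ := hs
      obtain ⟨z, f, hzz, hzK, hz, -, -, -⟩ := h.exists_big h.hyp.ss h.sK he hne
      exact ⟨z, hzz, hzK, hbc z hzz hzK hz⟩
  haveI hKn := h.nrm
  set N := Subgroup.centralizer {x : G | InvK K x} with hN
  haveI hNn : N.Normal := ⟨fun n hn g => Subgroup.mem_centralizer_iff.2 fun x hx => by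
    have := Subgroup.mem_centralizer_iff.1 hn _ (InvK.conj h.nrm hx g⁻¹)
    calc x * (g * n * g⁻¹) = g * (g⁻¹ * x * g⁻¹⁻¹ * n) * g⁻¹ := by group
      _ = g * (n * (g⁻¹ * x * g⁻¹⁻¹)) * g⁻¹ := by rw [this]
      _ = g * n * g⁻¹ * x := by group⟩
  haveI := Fact.mk Nat.prime_two
  obtain ⟨u, v, hu, hv, huv⟩ := h.exists_noncomm hns
  have hNK : N ⊓ K = ⊥ := by
    refine hO _ inferInstance (Nat.not_even_iff_odd.1 fun hev => ?_)
    obtain ⟨x, hx⟩ := exists_prime_orderOf_dvd_card' (G := (N ⊓ K : Subgroup G)) 2 (even_iff_two_dvd.1 hev)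
    rw [← Subgroup.orderOf_coe] at hx
    have hxi : InvK K (x : G) := ⟨x.2.2, mul_self_of_orderOf hx,
      fun e => by rw [e, orderOf_one] at hx; omega⟩
    exact huv (h.comm_trans hu hxi hv (Subgroup.mem_centralizer_iff.1 x.2.1 u hu)
      (Subgroup.mem_centralizer_iff.1 x.2.1 v hv))
  have htN : t ∈ N := Subgroup.mem_centralizer_iff.2 fun x hx => (htc x hx).symm
  have hts : t * s ∈ K := (h.cover t).resolve_left htK
  have hNcases : ∀ n ∈ N, n = 1 ∨ n = t := by
    intro n hn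
    rcases h.cover n with hnK | hns'
    · exact Or.inl (Subgroup.mem_bot.1 (hNK ▸ ⟨hn, hnK⟩))
    · refine Or.inr ?_
      have : n * t⁻¹ ∈ K := by
        have := mul_mem hns' (inv_mem hts)
        rwa [mul_inv_rev, ← mul_assoc, mul_inv_cancel_right] at this
      have hmem : n * t⁻¹ ∈ N ⊓ K := ⟨mul_mem hn (N.inv_mem htN), this⟩
      rw [hNK, Subgroup.mem_bot] at hmem
      exact mul_inv_eq_one.1 hmem
  have htcen : ∀ g, g * t = t * g := by
    intro g
    rcases hNcases _ (hNn.conj_mem t htN g) with e | e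
    · exact absurd (conj_eq_one_iff.1 e ▸ one_mem K) htK
    · exact mul_inv_eq_iff_eq_mul.1 e
  obtain ⟨e₁, e₂, h₁, h₂, hne⟩ := h.two_inner
  have hto := h.out_of_comm h₁ htK (htcen e₁).symm
  have hA2 : ∀ a ∈ A, a * a = 1 := by
    intro a ha
    have e := h.hyp.out_conj hto ha
    rw [← htcen a, mul_inv_cancel_right] at e
    exact mul_eq_one_iff_eq_inv.2 e
  have hA4 : 4 ≤ Nat.card A := le_trans (h.hyp.four_le_E h₁ h₂ hne)
    (Nat.le_of_dvd Nat.card_pos (Subgroup.card_dvd_of_le (fun x hx => hx.1 : h.hyp.E ≤ A)))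
  have hAp : IsPGroup 2 (A.subgroupOf K) := fun a => ⟨1, Subtype.ext (Subtype.ext (by
    rw [pow_one, Subgroup.coe_pow, Subgroup.coe_pow, pow_two]
    exact hA2 _ a.2))⟩
  have hidx : ¬ 2 ∣ (A.subgroupOf K).index := fun hd =>
    Nat.not_even_iff_odd.2 h.odd (even_iff_two_dvd.2 hd)
  set T : Sylow 2 K := hAp.toSylow hidx with hT
  have hTA : (T : Subgroup K) = A.subgroupOf K := hAp.toSylow_coe hidx
  have hTcard : Nat.card T = Nat.card A := by
    show Nat.card (T : Subgroup K) = _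
    rw [hTA, Nat.card_congr (Subgroup.subgroupOfEquivOfLe h.le).toEquiv]
  have hnc : ¬ IsCyclic (T : Subgroup K) := by
    intro hc
    have h2 : Monoid.exponent (T : Subgroup K) ∣ 2 :=
      Monoid.exponent_dvd_of_forall_pow_eq_one fun x => Subtype.ext (Subtype.ext (by
        rw [Subgroup.coe_pow, Subgroup.coe_pow, pow_two]
        exact hA2 _ (show ((x : K) : G) ∈ A from (hTA ▸ x.2 : (x : K) ∈ A.subgroupOf K))))
    rw [IsCyclic.exponent_eq_card, show Nat.card (T : Subgroup K) = Nat.card A from hTcard] at h2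
    have := Nat.le_of_dvd (by norm_num) h2
    omega
  have hnn : ¬ (T : Subgroup K).Normal := by
    rw [hTA]
    intro hTn
    have hAn : ∀ g, ∀ a ∈ A, g⁻¹ * a * g ∈ A := by
      intro g a ha
      have hk : ∀ k ∈ K, k⁻¹ * a * k ∈ A := fun k hk => by
        have := hTn.conj_mem ⟨a, h.le ha⟩ ha ⟨k, hk⟩⁻¹
        simpa [Subgroup.mem_subgroupOf, mul_assoc] using this
      rcases h.cover g with hg | hg
      · exact hk g hg
      · have e := h.hyp.inv _ (hk _ hg)
        have e' : g⁻¹ * a * g = s * ((g * s)⁻¹ * a * (g * s)) * s := by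
          simp [mul_assoc, h.hyp.s_inv, h.hyp.ss, reassoc_ss h.hyp.ss]
        rw [e', e]
        exact inv_mem (hk _ hg)
    have hE : ∀ x, InvK K x → x ∈ A := by
      intro x hx
      obtain ⟨g, hg⟩ := h.fuse x hx.1 hx.2.1 hx.2.2
      simpa [mul_assoc] using hAn g _ hg.1
    exact huv (h.hyp.comm u (hE u hu) v (hE v hv))
  have hC : ∀ x : K, orderOf x = 2 → IsMulCommutative (Subgroup.centralizer ({x} : Set K)) ∧
      ∀ c ∈ Subgroup.centralizer ({x} : Set K), c ^ 2 = 1 := by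
    intro x hx
    have hxx : (x : G) * x = 1 := mul_self_of_orderOf (by rw [Subgroup.orderOf_coe, hx])
    obtain ⟨g, hg⟩ := h.fuse x x.2 hxx fun e => by
      rw [← Subgroup.orderOf_coe, e, orderOf_one] at hx; omega
    have hm : ∀ c ∈ Subgroup.centralizer ({x} : Set K), g * (c : G) * g⁻¹ ∈ A := fun c hc =>
      h.mem_A hg (hKn.conj_mem c c.2 g)
        (conj_comm (congrArg Subtype.val (Subgroup.mem_centralizer_singleton_iff.1 hc)))
    refine ⟨.of_setLike_mul_comm fun a ha b hb => Subtype.ext ?_, fun c hc => Subtype.ext ?_⟩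
    · have := h.hyp.comm _ (hm a ha) _ (hm b hb)
      rw [show g * (a : G) * g⁻¹ * (g * b * g⁻¹) = g * ((a : G) * b) * g⁻¹ by group,
        show g * (b : G) * g⁻¹ * (g * a * g⁻¹) = g * ((b : G) * a) * g⁻¹ by group] at this
      exact mul_left_cancel (mul_right_cancel this)
    · have := hA2 _ (hm c hc)
      rw [show g * (c : G) * g⁻¹ * (g * c * g⁻¹) = g * ((c : G) * c) * g⁻¹ by group] at this
      rw [Subgroup.coe_pow, pow_two]; exact conj_eq_one_iff.1 this
  obtain ⟨F, _, _, hF, ⟨e⟩⟩ := S1230.result T hnc hnn hC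
  have hNcard : Nat.card N = 2 := by
    refine Nat.card_eq_two_iff.2 ⟨1, ⟨t, htN⟩, fun e1 => htK ?_, Set.eq_univ_of_forall ?_⟩
    · rw [show t = 1 from (congrArg Subtype.val e1).symm]; exact one_mem K
    · rintro ⟨n, hn⟩
      rcases hNcases n hn with e1 | e1
      · exact Or.inl (Subtype.ext e1)
      · exact Or.inr (Subtype.ext e1)
  have hbij : Function.Bijective ((QuotientGroup.mk' N).comp K.subtype) := by
    refine ⟨(injective_iff_map_eq_one _).2 fun k hk => Subtype.ext ?_, fun q => ?_⟩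
    · exact Subgroup.mem_bot.1 (hNK ▸ ⟨(QuotientGroup.eq_one_iff (k : G)).1 hk, k.2⟩)
    · obtain ⟨g, rfl⟩ := QuotientGroup.mk'_surjective N q
      rcases h.cover g with hg | hg
      · exact ⟨⟨g, hg⟩, rfl⟩
      · refine ⟨⟨g * t⁻¹, by
          have := mul_mem hg (inv_mem hts)
          rwa [mul_inv_rev, ← mul_assoc, mul_inv_cancel_right] at this⟩, ?_⟩
        simp [(QuotientGroup.eq_one_iff t).2 htN]
  exact ⟨N, hNn, Or.inr ⟨1, odd_one, by rw [hNcard]⟩, F, inferInstance, inferInstance,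
    by rw [hF, hTcard]; omega, Or.inl ⟨(MulEquiv.ofBijective _ hbij).symm.trans e⟩⟩

end Split

/-- The theorem when `A` contains two involutions. -/
theorem rankTwo [Finite G] {A : Subgroup G} {s : G} (h : Hyp2 A s) (hO : NoOdd G)
    (hns : ¬ Group.IsSolvable G) {e₁ e₂ : G} (h₁ : IsInner A e₁) (h₂ : IsInner A e₂)
    (hne : e₁ ≠ e₂) : Concl G := by
  rcases h.exists_unfused hO hns h₁ h₂ hne with hc | ⟨A', s', h', hu, f₁, f₂, i₁, i₂, hf⟩
  · exact hc
  · obtain ⟨K, hK⟩ := h'.exists_split hu i₁ i₂ hf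
    exact hK.concl hO hns

end Cfsg.Agent.DGroup
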