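import Cfsg.Agent.Lib.DGroup.Basics
import Cfsg.Agent.Lib.DGroup.RankTwo

/-!
# One involution in `A`: elementary properties
-/

set_option autoImplicit false
set_option linter.unusedSectionVars false
set_option linter.style.haveILetI false

namespace Cfsg.Agent.DGroup

variable {G : Type*} [Group G]

/-- `j` is the only involution of `A` and a Sylow 2-subgroup of `G` lies in `A ∪ A s`. -/
structure R1 (A : Subgroup G) (s j : G) : Prop where
  hyp : Hyp2 A s
  jA : IsInner A j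
  uniq : ∀ e, IsInner A e → e = j
  sylow : ∃ S : Sylow 2 G, (S : Subgroup G) ≤ hyp.H

/-- In addition all involutions are conjugate and there is no normal subgroup of odd order. -/
structure Main (A : Subgroup G) (s j : G) : Prop extends R1 A s j where
  noOdd : NoOdd G
  oneClass : ∀ x y : G, orderOf x = 2 → orderOf y = 2 → IsConj x y

theorem conj_pair {d x y : G} (_h : x * y = y * x) :
    d * (x * y) * d⁻¹ = (d * x * d⁻¹) * (d * y * d⁻¹) := by group

theorem inv_eq_of_mul_self {x : G} (h : x * x = 1) : x⁻¹ = x := inv_eq_of_mul_eq_one_right h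

theorem order_two_of {x : G} (h : x * x = 1) (h1 : x ≠ 1) : orderOf x = 2 := orderOf_two h h1

theorem Hyp2.change [Finite G] {A : Subgroup G} {s : G} (h : Hyp2 A s) {t : G} (ht : t * s ∈ A) :
    Hyp2 A t := by
  refine ⟨h.comm, h.two, h.out_sq ht, h.not_mem_of_mul_s ht, fun a ha => h.out_conj' ht ha,
    fun e he h2 h1 g hg => ?_⟩
  rcases h.cent e he h2 h1 g hg with hA | hA
  · exact Or.inl hA
  · exact Or.inr (h.mul_out hA ht)

theorem Hyp2.H_change [Finite G] {A : Subgroup G} {s : G} (h : Hyp2 A s) {t : G} (ht : t * s ∈ A) :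
    (h.change ht).H = h.H := by
  ext g
  rw [Hyp2.mem_H, Hyp2.mem_H]
  constructor
  · rintro (hg | hg)
    · exact Or.inl hg
    · refine Or.inr ?_
      have : g * s = (g * t) * (t * s) := by
        rw [mul_assoc g t, ← mul_assoc t t, h.out_sq ht, one_mul]
      rw [this]
      exact mul_mem hg ht
  · rintro (hg | hg)
    · exact Or.inl hg
    · exact Or.inr (h.mul_out hg ht)

namespace R1

variable [Finite G] {A : Subgroup G} {s j : G} (h : R1 A s j)

include h

omit [Finite G] in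
theorem jj : j * j = 1 := h.jA.2.1
omit [Finite G] in
theorem j_ne : j ≠ 1 := h.jA.2.2
omit [Finite G] in
theorem jmem : j ∈ A := h.jA.1
omit [Finite G] in
theorem j_order : orderOf j = 2 := orderOf_two h.jj h.j_ne

theorem change {t : G} (ht : t * s ∈ A) : R1 A t j :=
  ⟨h.hyp.change ht, h.jA, h.uniq, by
    obtain ⟨S, hS⟩ := h.sylow
    exact ⟨S, by rw [h.hyp.H_change ht]; exact hS⟩⟩

omit [Finite G] in
theorem sq_cases {a : G} (ha : a ∈ A) (h2 : a * a = 1) : a = 1 ∨ a = j := by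
  by_cases h1 : a = 1
  · exact Or.inl h1
  · exact Or.inr (h.uniq a ⟨ha, h2, h1⟩)

omit [Finite G] in
theorem mem_of_comm {g : G} (hg : g * j = j * g) : g ∈ A ∨ g * s ∈ A :=
  h.hyp.mem_H_of_comm h.jA hg

omit [Finite G] in
theorem comm_out {v : G} (hv : v * s ∈ A) : v * j = j * v :=
  h.hyp.inner_comm h.jA (Or.inr hv)

/-- An involution commuting with `j` and different from it is outside `A`. -/
theorem out_of_invol {v : G} (hv : v * v = 1) (hv1 : v ≠ 1) (hvj : v ≠ j) (hc : v * j = j * v) :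
    v * s ∈ A :=
  (h.mem_of_comm hc).resolve_left fun hA => hvj (h.uniq v ⟨hA, hv, hv1⟩)

omit [Finite G] in
theorem out_ne {v : G} (hv : v * s ∈ A) : v ≠ 1 ∧ v ≠ j := by
  have := h.hyp.not_mem_of_mul_s hv
  exact ⟨fun e => this (e ▸ one_mem A), fun e => this (e ▸ h.jmem)⟩

theorem jv_out {v : G} (hv : v * s ∈ A) : j * v * s ∈ A := by
  rw [mul_assoc]; exact mul_mem h.jmem hv

theorem four {v : G} (hv : v * s ∈ A) : Four j v (j * v) :=
  ⟨h.jj, h.hyp.out_sq hv, (h.comm_out hv).symm, rfl⟩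

/-- The four-group is self-centralising. -/
theorem centralizer_four {v g : G} (hv : v * s ∈ A) (hj : g * j = j * g) (hgv : g * v = v * g) :
    g = 1 ∨ g = j ∨ g = v ∨ g = j * v := by
  have hvv := h.hyp.out_sq hv
  have key : ∀ x ∈ A, x * v = v * x → x = 1 ∨ x = j := by
    intro x hx hxv
    refine h.sq_cases hx ?_
    have := h.hyp.out_conj hv hx
    rw [← hxv, mul_inv_cancel_right] at this
    exact mul_eq_one_iff_eq_inv.2 this
  rcases h.mem_of_comm hj with hA | hA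
  · rcases key g hA hgv with e | e
    · exact Or.inl e
    · exact Or.inr (Or.inl e)
  · have hgA : g * v ∈ A := h.hyp.mul_out hA hv
    have e : g = g * v * v := by rw [mul_assoc, hvv, mul_one]
    rcases key _ hgA (by rw [← e, ← mul_assoc, ← hgv, mul_assoc, hvv, mul_one]) with e' | e'
    · exact Or.inr (Or.inr (Or.inl (by rw [e, e', one_mul])))
    · exact Or.inr (Or.inr (Or.inr (by rw [e, e'])))

/-- The conjugate configuration. -/
theorem conj (g : G) :
    R1 (A.map (MulAut.conj g).toMonoidHom) (g * s * g⁻¹) (g * j * g⁻¹) := by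
  have hin : ∀ e, IsInner A e → IsInner (A.map (MulAut.conj g).toMonoidHom) (g * e * g⁻¹) :=
    fun e he => ⟨⟨e, he.1, rfl⟩, by
      rw [show g * e * g⁻¹ * (g * e * g⁻¹) = g * (e * e) * g⁻¹ by group, he.2.1]; group,
      fun e' => he.2.2 (conj_eq_one_iff.1 e')⟩
  refine ⟨h.hyp.conj g, hin j h.jA, ?_, ?_⟩
  · rintro e ⟨⟨a, ha, rfl⟩, h2, h1⟩
    simp only [MulEquiv.toMonoidHom_eq_coe, MonoidHom.coe_coe, MulAut.conj_apply] at h2 h1 ⊢
    rcases h.sq_cases ha (by
      rw [show g * a * g⁻¹ * (g * a * g⁻¹) = g * (a * a) * g⁻¹ by group] at h2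
      exact conj_eq_one_iff.1 h2) with e | e
    · exact absurd (by rw [e]; group) h1
    · rw [e]
  · obtain ⟨S, hS⟩ := h.sylow
    refine ⟨g • S, ?_⟩
    rw [Sylow.coe_subgroup_smul]
    rintro x ⟨y, hy, rfl⟩
    rcases hS hy with hA | hA
    · exact Or.inl ⟨y, hA, rfl⟩
    · refine Or.inr ⟨y * s, hA, ?_⟩
      simp [mul_assoc]

/-- An element of `A` is a power part times one of two-power order; the latter are few. -/
theorem two_part {x : G} (_hx : x ∈ A) :
    ∃ o p : G, o ∈ Subgroup.zpowers x ∧ p ∈ Subgroup.zpowers x ∧ Odd (orderOf o) ∧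
      (∃ k, orderOf p = 2 ^ k) ∧ x = o * p := by
  have hn := (orderOf_pos x).ne'
  obtain ⟨k, m, hm, e⟩ := Nat.exists_eq_two_pow_mul_odd hn
  have hco : Nat.Coprime (2 ^ k) m :=
    Nat.Coprime.pow_left k ((Nat.prime_two.coprime_iff_not_dvd).2 fun hd =>
      Nat.not_even_iff_odd.2 hm (even_iff_two_dvd.2 hd))
  obtain ⟨u, v, huv⟩ : IsCoprime ((2 ^ k : ℕ) : ℤ) (m : ℤ) := hco.cast
  refine ⟨x ^ (u * (2 ^ k : ℕ)), x ^ (v * (m : ℤ)), Subgroup.zpow_mem_zpowers x _,
    Subgroup.zpow_mem_zpowers x _, ?_, ?_, ?_⟩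
  · refine hm.of_dvd_nat (orderOf_dvd_of_pow_eq_one ?_)
    rw [← zpow_natCast, ← zpow_mul, mul_assoc, ← Nat.cast_mul, mul_comm u, zpow_mul, zpow_natCast,
      ← e, pow_orderOf_eq_one, one_zpow]
  · obtain ⟨i, -, hi⟩ := (Nat.dvd_prime_pow Nat.prime_two).1 (orderOf_dvd_of_pow_eq_one
      (show (x ^ (v * (m : ℤ))) ^ (2 ^ k) = 1 by
        rw [← zpow_natCast, ← zpow_mul, mul_assoc, ← Nat.cast_mul, mul_comm m, mul_comm v, zpow_mul,
          zpow_natCast, ← e, pow_orderOf_eq_one, one_zpow]))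
    exact ⟨i, hi⟩
  · rw [← zpow_add, huv, zpow_one]

theorem two_elem_cases {D : Subgroup G} (hD : ¬ ∃ a ∈ D, a ∈ A ∧ a * a = j) {p : G} (hpA : p ∈ A)
    (hpD : p ∈ D) (hp : ∃ k, orderOf p = 2 ^ k) : p = 1 ∨ p = j := by
  obtain ⟨k, hk⟩ := hp
  refine h.sq_cases hpA ?_
  rcases k with _ | _ | k
  · rw [pow_zero, orderOf_eq_one_iff] at hk
    rw [hk, one_mul]
  · exact mul_self_of_orderOf hk
  · exfalso
    refine hD ⟨p ^ (2 ^ k), pow_mem hpD _, pow_mem hpA _, ?_⟩
    refine h.uniq _ ⟨mul_mem (pow_mem hpA _) (pow_mem hpA _), ?_, ?_⟩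
    · rw [← pow_add, ← pow_add, show 2 ^ k + 2 ^ k + (2 ^ k + 2 ^ k) = 2 ^ (k + 2) by ring, ← hk,
        pow_orderOf_eq_one]
    · intro e
      rw [← pow_add] at e
      have := Nat.le_of_dvd (by positivity) (orderOf_dvd_of_pow_eq_one e)
      rw [hk, show 2 ^ (k + 2) = 4 * 2 ^ k by ring] at this
      have := Nat.two_pow_pos k
      omega

/-- An outer involution in `D` is conjugate in `D` to `v` or `j v`. -/
theorem out_normal_form {D : Subgroup G} (hD : ¬ ∃ a ∈ D, a ∈ A ∧ a * a = j) (hjD : j ∈ D) {v w : G}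
    (hv : v * s ∈ A) (hvD : v ∈ D) (hw : w * s ∈ A) (hwD : w ∈ D) :
    ∃ r, r ∈ D ∧ r ∈ A ∧ ∃ v₀, (v₀ = v ∨ v₀ = j * v) ∧ r * v₀ * r⁻¹ = w := by
  have hx : w * v ∈ A := h.hyp.mul_out hw hv
  have hxD : w * v ∈ D := mul_mem hwD hvD
  obtain ⟨o, p, ho, hp, hoo, hp2, e⟩ := h.two_part hx
  have hoA : o ∈ A := (Subgroup.zpowers_le.2 hx) ho
  have hoD : o ∈ D := (Subgroup.zpowers_le.2 hxD) ho
  have hpA : p ∈ A := (Subgroup.zpowers_le.2 hx) hp
  have hpD : p ∈ D := (Subgroup.zpowers_le.2 hxD) hp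
  obtain ⟨i, hi⟩ := hoo
  set r := o ^ (i + 1) with hr
  have hrr : r * r = o := by
    rw [hr, ← pow_add, show i + 1 + (i + 1) = 2 * i + 1 + 1 by ring, pow_succ, ← hi,
      pow_orderOf_eq_one, one_mul]
  have hrA : r ∈ A := pow_mem hoA _
  have hvr : ∀ a ∈ A, v * a⁻¹ = a * v := fun a ha => by
    rw [← h.hyp.out_conj' hv ha, ← mul_assoc, ← mul_assoc, h.hyp.out_sq hv, one_mul]
  have hw' : w = o * p * v := by rw [← e, mul_assoc, h.hyp.out_sq hv, mul_one]
  refine ⟨r, pow_mem hoD _, hrA, p * v, ?_, ?_⟩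
  · rcases h.two_elem_cases hD hpA hpD hp2 with e' | e'
    · left; rw [e', one_mul]
    · right; rw [e']
  · rw [hw', ← hrr]
    calc r * (p * v) * r⁻¹ = r * p * (v * r⁻¹) := by group
      _ = r * (p * r) * v := by rw [hvr r hrA]; group
      _ = r * r * p * v := by rw [h.hyp.comm p hpA r hrA]; group

/-- An element of order four of `A` moves the outer involutions in pairs. -/
theorem four_moves {a v : G} (ha : a ∈ A) (haa : a * a = j) (hv : v * s ∈ A) :
    a * v * a⁻¹ = v * j := by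
  have e2 : a * v = v * a⁻¹ := by
    rw [← h.hyp.out_conj' hv ha, ← mul_assoc, ← mul_assoc, h.hyp.out_sq hv, one_mul]
  calc a * v * a⁻¹ = v * (a⁻¹ * a⁻¹) := by rw [e2]; group
    _ = v * j⁻¹ := by rw [← mul_inv_rev, haa]
    _ = v * j := by rw [inv_eq_of_mul_self h.jj]

/-- With an element of order four in `D` the four-group is permuted transitively. -/
theorem trans_of_four {D : Subgroup G} {a : G} (haD : a ∈ D) (haA : a ∈ A) (haa : a * a = j)
    {v d : G} (hdD : d ∈ D) (hd : d * j * d⁻¹ = v) (hv : v * s ∈ A) :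
    ∃ n ∈ D, n * j * n⁻¹ = v ∧ n * v * n⁻¹ = j * v := by
  have hvj := h.comm_out hv
  have hj' : j * (d * s * d⁻¹) ∈ A.map (MulAut.conj d).toMonoidHom := by
    refine (h.conj d).out_of_invol h.jj h.j_ne ?_ (by rw [hd]; exact hvj.symm)
    rw [hd]; exact (h.out_ne hv).2.symm
  set b := d * a * d⁻¹ with hb
  have e := (h.conj d).four_moves (a := b) ⟨a, haA, rfl⟩
    (by rw [hb, show d * a * d⁻¹ * (d * a * d⁻¹) = d * (a * a) * d⁻¹ by group, haa]) hj'
  rw [hd] at e
  have hbv : b * v * b⁻¹ = v := by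
    have hjb : a * j * a⁻¹ = j := by rw [← haa]; group
    rw [hb, ← hd, show d * a * d⁻¹ * (d * j * d⁻¹) * (d * a * d⁻¹)⁻¹ = d * (a * j * a⁻¹) * d⁻¹
      by group, hjb]
  have hav := h.four_moves haA haa hv
  have haj : a * j * a⁻¹ = j := by rw [← haa]; group
  refine ⟨a * b, mul_mem haD (mul_mem (mul_mem hdD haD) (inv_mem hdD)), ?_, ?_⟩
  · calc a * b * j * (a * b)⁻¹ = a * (b * j * b⁻¹) * a⁻¹ := by group
      _ = (a * j * a⁻¹) * (a * v * a⁻¹) := by rw [e]; group
      _ = v := by rw [haj, hav, hvj, ← mul_assoc, h.jj, one_mul]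
  · calc a * b * v * (a * b)⁻¹ = a * (b * v * b⁻¹) * a⁻¹ := by group
      _ = j * v := by rw [hbv, hav, hvj]

/-- Without an element of order four in `D`, fusion of `j` is seen in the normalizer of the four-group. -/
theorem move {D : Subgroup G} (hD : ¬ ∃ a ∈ D, a ∈ A ∧ a * a = j) (hjD : j ∈ D) {v : G}
    (hv : v * s ∈ A) (hvD : v ∈ D) {d : G} (hdD : d ∈ D) (hc : d * j * d⁻¹ * j = j * (d * j * d⁻¹))
    (hne : d * j * d⁻¹ ≠ j) :
    ∃ n ∈ D, ∃ v₀ v₁, (v₀ = v ∨ v₀ = j * v) ∧ (v₁ = v ∨ v₁ = j * v) ∧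
      n * j * n⁻¹ = v₀ ∧ n * v₁ * n⁻¹ = j := by
  have hjj := h.jj
  set w := d * j * d⁻¹ with hwdef
  have hww : w * w = 1 := by
    rw [hwdef, show d * j * d⁻¹ * (d * j * d⁻¹) = d * (j * j) * d⁻¹ by group, hjj]; group
  have hw1 : w ≠ 1 := fun e => h.j_ne (conj_eq_one_iff.1 e)
  obtain ⟨r, hrD, hrA, v₀, hv₀, hr⟩ := h.out_normal_form hD hjD hv hvD
    (h.out_of_invol hww hw1 hne hc) (mul_mem (mul_mem hdD hjD) (inv_mem hdD))
  set d₁ := r⁻¹ * d with hd₁
  have hd₁D : d₁ ∈ D := mul_mem (inv_mem hrD) hdD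
  have hd₁j : d₁ * j * d₁⁻¹ = v₀ := by
    rw [hd₁, show r⁻¹ * d * j * (r⁻¹ * d)⁻¹ = r⁻¹ * (d * j * d⁻¹) * r by group, ← hwdef, ← hr]; group
  have hv₀out : v₀ * s ∈ A := by
    rcases hv₀ with e | e
    · rw [e]; exact hv
    · rw [e]; exact h.jv_out hv
  set w' := d₁⁻¹ * j * d₁ with hw'
  have hw'c : w' * j = j * w' := by
    have := conj_comm (g := d₁⁻¹) (h.comm_out hv₀out)
    rw [← hd₁j, show d₁⁻¹ * (d₁ * j * d₁⁻¹) * d₁⁻¹⁻¹ = j by group, inv_inv] at this
    exact this.symm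
  have hw'ne : w' ≠ j := by
    intro e
    refine (h.out_ne hv₀out).2 ?_
    rw [← hd₁j]
    conv_lhs => rw [← e, hw']
    group
  have hw'out : w' * s ∈ A := h.out_of_invol
    (by rw [hw', show d₁⁻¹ * j * d₁ * (d₁⁻¹ * j * d₁) = d₁⁻¹ * (j * j) * d₁ by group, hjj]; group)
    (fun e => h.j_ne (by
      calc j = d₁ * (d₁⁻¹ * j * d₁) * d₁⁻¹ := by group
        _ = 1 := by rw [← hw', e]; group)) hw'ne hw'c
  obtain ⟨r', hr'D, hr'A, v₁, hv₁, hr'⟩ := h.out_normal_form hD hjD hv hvD hw'out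
    (mul_mem (mul_mem (inv_mem hd₁D) hjD) hd₁D)
  refine ⟨d₁ * r', mul_mem hd₁D hr'D, v₀, v₁, hv₀, hv₁, ?_, ?_⟩
  · rw [show d₁ * r' * j * (d₁ * r')⁻¹ = d₁ * (r' * j * r'⁻¹) * d₁⁻¹ by group,
      h.hyp.comm r' hr'A j h.jmem, mul_inv_cancel_right, hd₁j]
  · rw [show d₁ * r' * v₁ * (d₁ * r')⁻¹ = d₁ * (r' * v₁ * r'⁻¹) * d₁⁻¹ by group, hr', hw']; group

/-- Without an element of order four in `A`, a Sylow 2-subgroup has order at most four. -/
theorem card_two_le (hA : ¬ ∃ a ∈ A, a * a = j) {T : Subgroup G} (hT : IsPGroup 2 T) :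
    Nat.card T ≤ 4 := by
  haveI := Fact.mk Nat.prime_two
  obtain ⟨S, hS⟩ := h.sylow
  obtain ⟨P, hP⟩ := hT.exists_le_sylow
  refine le_trans (Nat.le_of_dvd Nat.card_pos (Subgroup.card_dvd_of_le hP)) ?_
  obtain ⟨g, hg⟩ := MulAction.exists_smul_eq G P S
  rw [Nat.card_congr (P.equivSMul g).toEquiv, hg]
  have hA' : ¬ ∃ a ∈ (⊤ : Subgroup G), a ∈ A ∧ a * a = j := fun ⟨a, _, ha, e⟩ => hA ⟨a, ha, e⟩
  have key : ∀ x ∈ (S : Subgroup G), x ∈ A → x = 1 ∨ x = j := by
    intro x hx hxA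
    obtain ⟨k, hk⟩ := IsPGroup.iff_orderOf.1 S.isPGroup' ⟨x, hx⟩
    rw [Subgroup.orderOf_mk] at hk
    exact h.two_elem_cases hA' hxA (Subgroup.mem_top x) ⟨k, hk⟩
  classical
  have hAS : Nat.card ((S : Subgroup G) ⊓ A : Subgroup G) ≤ 2 := by
    have hinj : Function.Injective (fun x : ((S : Subgroup G) ⊓ A : Subgroup G) => decide ((x : G) = 1)) := by
      intro x y hxy
      simp only [decide_eq_decide] at hxy
      refine Subtype.ext ?_
      rcases key x x.2.1 x.2.2 with e | e <;> rcases key y y.2.1 y.2.2 with e' | e'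
      · rw [e, e']
      · exact absurd ((hxy.1 e)) (e' ▸ h.j_ne)
      · exact absurd (hxy.2 e') (e ▸ h.j_ne)
      · rw [e, e']
    have := Nat.card_le_card_of_injective _ hinj
    simpa using this
  have h2 : ((S : Subgroup G) ⊓ A).relIndex (S : Subgroup G) ≤ 2 := by
    rw [Subgroup.inf_relIndex_left]
    refine Nat.le_of_dvd two_pos ?_
    haveI hn : (A.subgroupOf h.hyp.H).Normal := Subgroup.normal_of_index_eq_two h.hyp.A_relIndex
    have := Subgroup.relIndex_dvd_index_of_normal (A.subgroupOf h.hyp.H)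
      ((S : Subgroup G).subgroupOf h.hyp.H)
    rw [Subgroup.relIndex_subgroupOf hS] at this
    exact this.trans (dvd_of_eq h.hyp.A_relIndex)
  have := Subgroup.card_mul_index (((S : Subgroup G) ⊓ A).subgroupOf (S : Subgroup G))
  rw [Nat.card_congr (Subgroup.subgroupOfEquivOfLe (inf_le_left : (S : Subgroup G) ⊓ A ≤ S)).toEquiv]
    at this
  rw [← this]
  calc _ ≤ 2 * 2 := Nat.mul_le_mul hAS h2
    _ = 4 := rfl

/-- Without an element of order four in `A`, nothing exchanges two involutions of the four-group. -/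
theorem no_swap (hA : ¬ ∃ a ∈ A, a * a = j) {v n : G} (hv : v * s ∈ A) (h1 : n * j * n⁻¹ = v)
    (h2 : n * v * n⁻¹ = j) : False := by
  have hvv := h.hyp.out_sq hv
  have hvj := h.comm_out hv
  have hF := h.four hv
  set U := hF.group with hU
  have hjU : j ∈ U := hF.u_mem
  have hvU : v ∈ U := hF.v_mem
  have hn : n ∈ Subgroup.normalizer (U : Set G) := by
    refine mem_normalizer_of_forall fun x hx => ?_
    rcases hx with e | e | e | e
    · rw [e, mul_one, mul_inv_cancel]; exact one_mem _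
    · rw [e, h1]; exact hvU
    · rw [e, h2]; exact hjU
    · rw [e, conj_pair hvj.symm, h1, h2]; exact mul_mem hvU hjU
  have hnn : n * n ∈ U := by
    have c1 : n * n * j * (n * n)⁻¹ = j := by
      rw [show n * n * j * (n * n)⁻¹ = n * (n * j * n⁻¹) * n⁻¹ by group, h1, h2]
    have c2 : n * n * v * (n * n)⁻¹ = v := by
      rw [show n * n * v * (n * n)⁻¹ = n * (n * v * n⁻¹) * n⁻¹ by group, h2, h1]
    rcases h.centralizer_four hv (mul_inv_eq_iff_eq_mul.1 c1) (mul_inv_eq_iff_eq_mul.1 c2) with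
      e | e | e | e <;> rw [e]
    exacts [one_mem _, hjU, hvU, mul_mem hjU hvU]
  have hnU : n ∉ U := by
    intro hh
    have : n * j * n⁻¹ = j := by
      rcases hh with e | e | e | e <;> rw [e]
      · group
      · group
      · rw [hvj, mul_inv_cancel_right]
      · rw [mul_assoc j v j, hvj, ← mul_assoc j j v, h.jj, one_mul, mul_inv_rev,
          inv_eq_of_mul_self hvv, inv_eq_of_mul_self h.jj, ← mul_assoc, hvv, one_mul]
    rw [h1] at this
    exact (h.out_ne hv).2 this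
  have hp : IsPGroup 2 (U ⊔ Subgroup.zpowers n : Subgroup G) := by
    refine hF.isPGroup.to_sup_of_normal_left' ?_ (Subgroup.zpowers_le.2 hn)
    have h4 : n ^ (2 ^ 2) = 1 := by
      rw [show (2 : ℕ) ^ 2 = 2 * 2 from rfl, pow_mul, pow_two n]
      rcases hnn with e | e | e | e <;> rw [e, pow_two]
      exacts [one_mul 1, h.jj, hvv, hF.ww]
    obtain ⟨i, -, hi⟩ := (Nat.dvd_prime_pow Nat.prime_two).1 (orderOf_dvd_of_pow_eq_one h4)
    exact IsPGroup.of_card (n := i) (by rw [Nat.card_zpowers, hi])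
  have h5 := h.card_two_le hA hp
  have hinj : Function.Injective (![⟨1, one_mem _⟩, ⟨j, Subgroup.mem_sup_left hjU⟩,
      ⟨v, Subgroup.mem_sup_left hvU⟩, ⟨j * v, Subgroup.mem_sup_left (mul_mem hjU hvU)⟩,
      ⟨n, Subgroup.mem_sup_right (Subgroup.mem_zpowers n)⟩] :
      Fin 5 → (U ⊔ Subgroup.zpowers n : Subgroup G)) := by
    have q1 : j ≠ 1 := h.j_ne
    obtain ⟨q2, q3⟩ := h.out_ne hv
    have q4 : j * v ≠ 1 := fun e => q3 (by
      rw [eq_inv_of_mul_eq_one_right e, inv_eq_of_mul_self h.jj])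
    have q5 : j * v ≠ j := fun e => q2 (mul_left_cancel (e.trans (mul_one j).symm))
    have q6 : j * v ≠ v := fun e => q1 (mul_right_cancel (e.trans (one_mul v).symm))
    have q7 : ∀ x ∈ U, n ≠ x := fun x hx e => hnU (e ▸ hx)
    intro a b hab
    have := congrArg Subtype.val hab
    fin_cases a <;> fin_cases b <;> simp at this ⊢ <;>
      first
        | exact absurd this (q7 _ (one_mem _)) | exact absurd this.symm (q7 _ (one_mem _))
        | exact absurd this (q7 _ hjU) | exact absurd this.symm (q7 _ hjU)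
        | exact absurd this (q7 _ hvU) | exact absurd this.symm (q7 _ hvU)
        | exact absurd this (q7 _ (mul_mem hjU hvU))
        | exact absurd this.symm (q7 _ (mul_mem hjU hvU))
        | exact absurd this q1 | exact absurd this.symm q1
        | exact absurd this q2 | exact absurd this.symm q2
        | exact absurd this q3 | exact absurd this.symm q3
        | exact absurd this q4 | exact absurd this.symm q4
  have := Nat.card_le_card_of_injective _ hinj
  rw [Nat.card_fin] at this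
  omega

/-- A transitive element on some four-group of `D`, when `j` has a commuting conjugate in `D`. -/
theorem exists_trans {D : Subgroup G}
    (hor : (∃ a ∈ D, a ∈ A ∧ a * a = j) ∨ ¬ ∃ a ∈ A, a * a = j) (hjD : j ∈ D)
    {d : G} (hdD : d ∈ D) (hc : d * j * d⁻¹ * j = j * (d * j * d⁻¹)) (hne : d * j * d⁻¹ ≠ j) :
    ∃ v n, v * s ∈ A ∧ v ∈ D ∧ n ∈ D ∧ n * j * n⁻¹ = v ∧ n * v * n⁻¹ = j * v := by
  set v := d * j * d⁻¹ with hvdef
  have hvD : v ∈ D := mul_mem (mul_mem hdD hjD) (inv_mem hdD)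
  have hv : v * s ∈ A := h.out_of_invol
    (by rw [hvdef, show d * j * d⁻¹ * (d * j * d⁻¹) = d * (j * j) * d⁻¹ by group, h.jj]; group)
    (fun e => h.j_ne (conj_eq_one_iff.1 e)) hne hc
  rcases hor with ⟨a, haD, haA, haa⟩ | hA
  · obtain ⟨n, hn, e1, e2⟩ := h.trans_of_four haD haA haa hdD rfl hv
    exact ⟨v, n, hv, hvD, hn, e1, e2⟩
  · obtain ⟨n, hnD, v₀, v₁, hv₀, hv₁, e1, e2⟩ :=
      h.move (fun ⟨a, _, ha, e⟩ => hA ⟨a, ha, e⟩) hjD hv hvD hdD hc hne
    have hvv := h.hyp.out_sq hv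
    have hvj := h.comm_out hv
    have hjj := h.jj
    have hv₀out : v₀ * s ∈ A := by
      rcases hv₀ with e | e
      · rw [e]; exact hv
      · rw [e]; exact h.jv_out hv
    have hv₀D : v₀ ∈ D := by
      rcases hv₀ with e | e
      · rw [e]; exact hvD
      · rw [e]; exact mul_mem hjD hvD
    have hne' : v₁ ≠ v₀ := fun e => h.no_swap hA hv₀out e1 (e ▸ e2)
    have hv₁' : v₁ = j * v₀ := by
      rcases hv₀ with e | e <;> rcases hv₁ with e' | e'
      · exact absurd (e'.trans e.symm) hne'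
      · rw [e, e']
      · rw [e, e', ← mul_assoc, hjj, one_mul]
      · exact absurd (e'.trans e.symm) hne'
    refine ⟨v₀, n, hv₀out, hv₀D, hnD, e1, ?_⟩
    rw [hv₁', conj_pair (h.comm_out hv₀out).symm, e1] at e2
    have hv₀v : v₀ * v₀ = 1 := h.hyp.out_sq hv₀out
    calc n * v₀ * n⁻¹ = v₀ * (v₀ * (n * v₀ * n⁻¹)) := by rw [← mul_assoc v₀ v₀, hv₀v, one_mul]
      _ = j * v₀ := by rw [e2, h.comm_out hv₀out]

end R1

namespace Main

variable [Finite G] {A : Subgroup G} {s j : G} (h : Main A s j)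

include h

theorem recentre {u v : G} (hu : u * u = 1) (hu1 : u ≠ 1) (hv : v * v = 1) (hv1 : v ≠ 1)
    (hvu : v ≠ u) (hc : v * u = u * v) : ∃ A', Main A' v u := by
  obtain ⟨g, hg⟩ := isConj_iff.1 (h.oneClass j u h.j_order (orderOf_two hu hu1))
  have h' := h.toR1.conj g
  rw [hg] at h'
  exact ⟨_, h'.change (h'.out_of_invol hv hv1 hvu hc), h.noOdd, h.oneClass⟩

omit [Finite G] in
theorem change [Finite G] {t : G} (ht : t * s ∈ A) : Main A t j :=
  ⟨h.toR1.change ht, h.noOdd, h.oneClass⟩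

/-- The two symmetric configurations for the other involutions of the four-group. -/
theorem rot {v : G} (hv : v * s ∈ A) : ∃ A', Main A' (j * v) v := by
  obtain ⟨hv1, hvj⟩ := h.out_ne hv
  have hF := h.toR1.four hv
  refine h.recentre (hF.vv) hv1 hF.ww ?_ ?_ ?_
  · exact fun e => hvj (by rw [eq_inv_of_mul_eq_one_right e, inv_eq_of_mul_self h.jj])
  · exact fun e => h.j_ne (mul_right_cancel (e.trans (one_mul v).symm))
  · rw [mul_assoc, hF.vv, mul_one, ← mul_assoc, ← hF.comm, mul_assoc, hF.vv, mul_one]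

/-- `N(U)` is transitive on the four-group in `G`. -/
theorem exists_global {v : G} (hv : v * s ∈ A) :
    ∃ n, n * j * n⁻¹ = v ∧ n * v * n⁻¹ = j * v := by
  obtain ⟨hv1, hvj⟩ := h.out_ne hv
  obtain ⟨d, hd⟩ := isConj_iff.1 (h.oneClass j v h.j_order (orderOf_two (h.hyp.out_sq hv) hv1))
  by_cases hA : ∃ a ∈ A, a * a = j
  · obtain ⟨a, haA, haa⟩ := hA
    obtain ⟨n, -, e⟩ := h.toR1.trans_of_four (D := ⊤) trivial haA haa (d := d) trivial hd hv
    exact ⟨n, e⟩
  · obtain ⟨n, -, v₀, v₁, hv₀, hv₁, e1, e2⟩ := h.toR1.move (D := ⊤)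
      (fun ⟨a, _, ha, e⟩ => hA ⟨a, ha, e⟩) trivial hv trivial (d := d) trivial
      (by rw [hd]; exact h.toR1.comm_out hv) (by rw [hd]; exact hvj)
    have hv₀out : v₀ * s ∈ A := by
      rcases hv₀ with e | e
      · rw [e]; exact hv
      · rw [e]; exact h.toR1.jv_out hv
    have hne' : v₁ ≠ v₀ := fun e => h.toR1.no_swap hA hv₀out e1 (e ▸ e2)
    have hvv := h.hyp.out_sq hv
    have hvjc := h.toR1.comm_out hv
    have e3 : ∀ x y : G, x * j = j * x → y = j * x → n * x * n⁻¹ = n * j * n⁻¹ * (n * y * n⁻¹) := by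
      intro x y hx hy
      rw [hy, ← conj_pair (show j * (j * x) = j * x * j by rw [mul_assoc, hx]), ← mul_assoc j j x,
        h.jj, one_mul]
    rcases hv₀ with e | e <;> rcases hv₁ with e' | e'
    · exact absurd (e'.trans e.symm) hne'
    · rw [e] at e1
      rw [e'] at e2
      refine ⟨n, e1, ?_⟩
      rw [e3 v _ hvjc rfl, e1, e2, hvjc]
    · rw [e] at e1
      rw [e'] at e2
      -- the inverse permutation
      refine ⟨n⁻¹, ?_, ?_⟩
      · rw [inv_inv]
        nth_rewrite 1 [← e2]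
        group
      · have e4 : n * (j * v) * n⁻¹ = v := by
          rw [conj_pair hvjc.symm, e1, e2, mul_assoc, hvjc, ← mul_assoc, h.jj, one_mul]
        rw [inv_inv]
        nth_rewrite 1 [← e4]
        group
    · exact absurd (e'.trans e.symm) hne'

end Main

end Cfsg.Agent.DGroup
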