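import Cfsg.Agent.Lib.DGroup.Basics
import Cfsg.Agent.Lib.CN.FpfAut
import Cfsg.Agent.S1230
import Mathlib.GroupTheory.SchurZassenhaus

/-!
# Two inner involutions: reducing to the case without fusion
-/

set_option autoImplicit false
set_option linter.unusedSectionVars false
set_option linter.style.haveILetI false

namespace Cfsg.Agent.DGroup

variable {G : Type*} [Group G]

theorem exists_two_of_three_le [Finite G] (K : Subgroup G) (h : 3 ≤ Nat.card K) :
    ∃ a ∈ K, ∃ b ∈ K, a ≠ 1 ∧ b ≠ 1 ∧ a ≠ b := by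
  classical
  haveI := Fintype.ofFinite K
  rw [Nat.card_eq_fintype_card] at h
  obtain ⟨a, b, c, hab, hac, hbc⟩ := Fintype.two_lt_card_iff.1 (show 2 < Fintype.card K by omega)
  have hab' : (a : G) ≠ b := fun e => hab (Subtype.ext e)
  have hac' : (a : G) ≠ c := fun e => hac (Subtype.ext e)
  have hbc' : (b : G) ≠ c := fun e => hbc (Subtype.ext e)
  by_cases ha : (a : G) = 1
  · exact ⟨b, b.2, c, c.2, fun e => hab' (ha.trans e.symm), fun e => hac' (ha.trans e.symm), hbc'⟩
  · by_cases hb : (b : G) = 1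
    · exact ⟨a, a.2, c, c.2, ha, fun e => hbc' (hb.trans e.symm), hac'⟩
    · exact ⟨a, a.2, b, b.2, ha, hb, hab'⟩

namespace Hyp2

variable [Finite G] {A : Subgroup G} {s : G} (h : Hyp2 A s)

include h

/-- If `A` is not elementary, no involution outside `A` in `H` fuses into `A`. -/
theorem unfused_of_sq {e₁ e₂ : G} (h₁ : IsInner A e₁) (h₂ : IsInner A e₂) (hne : e₁ ≠ e₂)
    {a : G} (ha : a ∈ A) (haa : a * a ≠ 1) : Unfused A s := by
  intro t ht g hg
  have hto : ∀ x, IsInner A x → g * x * g⁻¹ ∈ h.H := by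
    intro x hx
    refine h.mem_H_of_comm hg ?_
    calc g * x * g⁻¹ * (g * t * g⁻¹) = g * (x * t) * g⁻¹ := by group
      _ = g * (t * x) * g⁻¹ := by rw [h.inner_comm hx (Or.inr ht)]
      _ = g * t * g⁻¹ * (g * x * g⁻¹) := by group
  -- an inner involution stays inner
  obtain ⟨x, hx, hgx⟩ : ∃ x, IsInner A x ∧ g * x * g⁻¹ ∈ A := by
    by_cases c1 : g * e₁ * g⁻¹ ∈ A
    · exact ⟨_, h₁, c1⟩
    by_cases c2 : g * e₂ * g⁻¹ ∈ A
    · exact ⟨_, h₂, c2⟩
    refine ⟨e₁ * e₂, h.inner_of_E (mul_mem ⟨h₁.1, h₁.2.1⟩ ⟨h₂.1, h₂.2.1⟩) fun e => hne ?_, ?_⟩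
    · rw [eq_inv_of_mul_eq_one_left e, inv_eq_of_mul_eq_one_right h₂.2.1]
    · have := h.mul_out ((h.out_iff (hto _ h₁)).1 c1) ((h.out_iff (hto _ h₂)).1 c2)
      rwa [show g * e₁ * g⁻¹ * (g * e₂ * g⁻¹) = g * (e₁ * e₂) * g⁻¹ by group] at this
  have hgxi : IsInner A (g * x * g⁻¹) := ⟨hgx,
    by rw [show g * x * g⁻¹ * (g * x * g⁻¹) = g * (x * x) * g⁻¹ by group, hx.2.1]; group,
    fun e => hx.2.2 (conj_eq_one_iff.1 e)⟩
  have hn := h.conj_inner_normalizes hx hgxi
  have hga : g * a * g⁻¹ ∈ h.H := (Subgroup.mem_normalizer_iff.1 hn a).1 (Or.inl ha)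
  have hgaA : g * a * g⁻¹ ∈ A := by
    by_contra hcon
    have := h.out_sq ((h.out_iff hga).1 hcon)
    rw [show g * a * g⁻¹ * (g * a * g⁻¹) = g * (a * a) * g⁻¹ by group] at this
    exact haa (conj_eq_one_iff.1 this)
  have hc : a * t = t * a := by
    have := h.inner_comm hg (h.A_le hgaA)
    rw [show g * a * g⁻¹ * (g * t * g⁻¹) = g * (a * t) * g⁻¹ by group,
      show g * t * g⁻¹ * (g * a * g⁻¹) = g * (t * a) * g⁻¹ by group] at this
    exact mul_left_cancel (mul_right_cancel this)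
  have e := h.out_conj ht ha
  rw [← hc, mul_inv_cancel_right] at e
  exact haa (by conv_lhs => arg 2; rw [e]
                exact mul_inv_cancel a)

/-- Either the theorem holds, or there is such a pair without fusion. -/
theorem exists_unfused (hO : NoOdd G) (hns : ¬ Group.IsSolvable G)
    {e₁ e₂ : G} (h₁ : IsInner A e₁) (h₂ : IsInner A e₂) (hne : e₁ ≠ e₂) :
    Concl G ∨ ∃ (A' : Subgroup G) (s' : G), Hyp2 A' s' ∧ Unfused A' s' ∧
      ∃ f₁ f₂ : G, IsInner A' f₁ ∧ IsInner A' f₂ ∧ f₁ ≠ f₂ := by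
  classical
  by_cases hA2 : ∃ a ∈ A, a * a ≠ 1
  · obtain ⟨a, ha, haa⟩ := hA2
    exact Or.inr ⟨A, s, h, h.unfused_of_sq h₁ h₂ hne ha haa, e₁, e₂, h₁, h₂, hne⟩
  push Not at hA2
  haveI := Fact.mk Nat.prime_two
  have hsq : ∀ x ∈ h.H, x * x = 1 := by
    rintro x (hx | hx)
    · exact hA2 x hx
    · exact h.out_sq hx
  have hcomm : ∀ a ∈ h.H, ∀ b ∈ h.H, a * b = b * a := by
    intro a ha b hb
    have e := hsq _ (mul_mem ha hb)
    calc a * b = (a * b) * (a * b * (a * b))⁻¹ := by rw [e, inv_one, mul_one]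
      _ = (b⁻¹) * a⁻¹ := by group
      _ = b * a := by rw [inv_eq_of_mul_eq_one_right (hsq a ha), inv_eq_of_mul_eq_one_right (hsq b hb)]
  obtain ⟨S, hSH, -, -⟩ := h.exists_sylow h₁ h₂ hne
  have hH2 : IsPGroup 2 h.H := fun x => ⟨1, Subtype.ext (by
    rw [pow_one, Subgroup.coe_pow, pow_two, hsq x x.2]; rfl)⟩
  have hS : (S : Subgroup G) = h.H := (S.3 hH2 hSH).symm
  haveI hSc : IsMulCommutative (S : Subgroup G) :=
    .of_setLike_mul_comm fun a ha b hb => hcomm a (hSH ha) b (hSH hb)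
  have hH4 : 4 ≤ Nat.card h.H := le_trans (h.four_le_E h₁ h₂ hne)
    (Nat.le_of_dvd Nat.card_pos (Subgroup.card_dvd_of_le h.E_le))
  by_cases hall : ∀ x ∈ h.H, x ≠ 1 → ∃ g : G, IsInner A (g * x * g⁻¹)
  · -- every involution of `H` fuses into `A`
    have hC : ∀ x ∈ h.H, x ≠ 1 → ∀ y : G, y * x = x * y → y ∈ h.H := by
      intro x hx hx1 y hy
      obtain ⟨g, hg⟩ := hall x hx hx1
      have hle : h.H ≤ Subgroup.centralizer ({x} : Set G) := fun z hz =>
        Subgroup.mem_centralizer_singleton_iff.2 (hcomm z hz x hx)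
      have hcard : Nat.card (Subgroup.centralizer ({x} : Set G)) ≤ Nat.card h.H := by
        refine Nat.card_le_card_of_injective
          (fun z => ⟨g * (z : G) * g⁻¹, h.mem_H_of_comm hg ?_⟩) fun a b e => Subtype.ext ?_
        · have := Subgroup.mem_centralizer_singleton_iff.1 z.2
          calc g * (z : G) * g⁻¹ * (g * x * g⁻¹) = g * ((z : G) * x) * g⁻¹ := by group
            _ = g * (x * z) * g⁻¹ := by rw [this]
            _ = g * x * g⁻¹ * (g * z * g⁻¹) := by group
        · exact mul_left_cancel (mul_right_cancel (Subtype.ext_iff.1 e))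
      rw [Subgroup.eq_of_le_of_card_ge hle hcard]
      exact Subgroup.mem_centralizer_singleton_iff.2 hy
    have hnc : ¬ IsCyclic (S : Subgroup G) := by
      intro hc
      have h1 := IsCyclic.exponent_eq_card (α := (S : Subgroup G))
      have h2 : Monoid.exponent (S : Subgroup G) ∣ 2 :=
        Monoid.exponent_dvd_of_forall_pow_eq_one fun x => Subtype.ext (by
          rw [Subgroup.coe_pow, pow_two, hsq x (hSH x.2)]; rfl)
      rw [h1] at h2
      have := Nat.le_of_dvd (by norm_num) h2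
      rw [hS] at this
      omega
    have hnn : ¬ (S : Subgroup G).Normal := by
      intro hN
      refine hns ?_
      haveI := hN
      obtain ⟨K, hK⟩ := Subgroup.exists_right_complement'_of_coprime S.card_coprime_index
      have hKodd : Odd (Nat.card K) := by
        rw [← hK.symm.index_eq_card]
        exact Nat.not_even_iff_odd.1 fun e => S.not_dvd_index (even_iff_two_dvd.1 e)
      haveI : Nontrivial (S : Subgroup G) := by
        rw [hS]; exact Finite.one_lt_card_iff_nontrivial.1 (by omega)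
      let φ : K →* MulAut (S : Subgroup G) := MulAut.conjNormal.comp K.subtype
      haveI : IsZGroup K := CN.isZGroup_of_fpf hKodd φ fun k hk z hz => by
        by_contra hz1
        have e : (k : G) * (z : G) * (k : G)⁻¹ = z := congrArg Subtype.val hz
        have hkH : (k : G) ∈ h.H := hC z (hSH z.2) (fun e => hz1 (Subtype.ext e)) k
          (mul_inv_eq_iff_eq_mul.1 e)
        exact hk (Subtype.ext (Subgroup.disjoint_def.1 hK.disjoint (by rw [hS]; exact hkH) k.2))
      have hsurj : Function.Surjective ((QuotientGroup.mk' (S : Subgroup G)).comp K.subtype) := by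
        intro q
        obtain ⟨g, rfl⟩ := QuotientGroup.mk'_surjective _ q
        obtain ⟨x, hx, k, hk, rfl⟩ : ∃ x ∈ (S : Subgroup G), ∃ k ∈ K, x * k = g := by
          obtain ⟨⟨x, k⟩, hxk⟩ := hK.2 g
          exact ⟨x, x.2, k, k.2, hxk⟩
        refine ⟨⟨k, hk⟩, ?_⟩
        simp [(QuotientGroup.eq_one_iff x).2 hx]
      haveI : Group.IsSolvable (G ⧸ (S : Subgroup G)) := Group.isSolvable_of_surjective hsurj
      haveI : Group.IsSolvable (S : Subgroup G) := Group.isSolvable_of_comm fun a b => mul_comm' a b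
      exact Group.isSolvable_of_ker_le_range (S : Subgroup G).subtype
        (QuotientGroup.mk' (S : Subgroup G))
        (by rw [QuotientGroup.ker_mk', Subgroup.range_subtype])
    have hT : ∀ t : G, orderOf t = 2 → IsMulCommutative (Subgroup.centralizer ({t} : Set G)) ∧
        ∀ c ∈ Subgroup.centralizer ({t} : Set G), c ^ 2 = 1 := by
      intro t ht
      obtain ⟨P, hP⟩ := (IsPGroup.of_card (p := 2) (G := Subgroup.zpowers t) (n := 1)
        (by rw [Nat.card_zpowers, ht, pow_one])).exists_le_sylow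
      obtain ⟨g, hg⟩ := MulAction.exists_smul_eq G P S
      have hgt : g * t * g⁻¹ ∈ h.H := by
        rw [← hS, ← hg, Sylow.coe_subgroup_smul]
        exact Subgroup.smul_mem_pointwise_smul _ (MulAut.conj g) _ (hP (Subgroup.mem_zpowers t))
      have hmem : ∀ c ∈ Subgroup.centralizer ({t} : Set G), g * c * g⁻¹ ∈ h.H := fun c hc => by
        refine hC _ hgt (fun e => ?_) _ ?_
        · rw [conj_eq_one_iff.1 e, orderOf_one] at ht; omega
        · have := Subgroup.mem_centralizer_singleton_iff.1 hc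
          calc g * c * g⁻¹ * (g * t * g⁻¹) = g * (c * t) * g⁻¹ := by group
            _ = g * (t * c) * g⁻¹ := by rw [this]
            _ = g * t * g⁻¹ * (g * c * g⁻¹) := by group
      refine ⟨.of_setLike_mul_comm fun a ha b hb => ?_, fun c hc => ?_⟩
      · have := hcomm _ (hmem a ha) _ (hmem b hb)
        rw [show g * a * g⁻¹ * (g * b * g⁻¹) = g * (a * b) * g⁻¹ by group,
          show g * b * g⁻¹ * (g * a * g⁻¹) = g * (b * a) * g⁻¹ by group] at this
        exact mul_left_cancel (mul_right_cancel this)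
      · have := hsq _ (hmem c hc)
        rw [show g * c * g⁻¹ * (g * c * g⁻¹) = g * (c * c) * g⁻¹ by group] at this
        rw [pow_two]; exact conj_eq_one_iff.1 this
    obtain ⟨F, _, _, hF, ⟨e⟩⟩ := S1230.result S hnc hnn hT
    exact Or.inl (concl_of_equiv (by rw [hF, hS]; omega) e)
  -- an involution of `H` never fused into `A`
  push Not at hall
  obtain ⟨x₀, hx₀H, hx₀1, hx₀⟩ := hall
  set N := Subgroup.normalizer (h.H : Set G) with hN
  have burnside : ∀ x ∈ h.H, ∀ g : G, g * x * g⁻¹ ∈ h.H → ∃ n ∈ N, g * x * g⁻¹ = n * x * n⁻¹ := by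
    intro x hx g hg
    obtain ⟨n, hn, e⟩ := S.conj_eq_normalizer_conj_of_mem x g⁻¹
      (show x ∈ (S : Subgroup G) by rw [hS]; exact hx)
      (show g⁻¹⁻¹ * x * g⁻¹ ∈ (S : Subgroup G) by rw [inv_inv, hS]; exact hg)
    rw [inv_inv] at e
    refine ⟨n⁻¹, inv_mem ?_, by rw [e, inv_inv]⟩
    rw [hN, ← hS]; exact hn
  let φ : N →* MulAut h.H := Subgroup.normalizerMonoidHom h.H
  have φ_apply : ∀ (n : N) (x : h.H), ((φ n x : h.H) : G) = n * x * (n : G)⁻¹ := fun n x => rfl
  have hφH : ∀ n : N, (n : G) ∈ h.H → φ n = 1 := fun n hn => by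
    ext x
    rw [φ_apply, hcomm _ hn _ x.2, mul_inv_cancel_right]
    rfl
  have hW : Odd (Nat.card φ.range) := by
    rw [← Subgroup.index_ker]
    have hd : φ.ker.index ∣ (S : Subgroup G).index := by
      refine dvd_trans (Subgroup.index_dvd_of_le (H := h.H.subgroupOf N) fun n hn => hφH n hn) ?_
      rw [hS]
      exact Subgroup.relIndex_dvd_index_of_le (Subgroup.le_normalizer)
    exact Nat.not_even_iff_odd.1 fun e => S.not_dvd_index ((even_iff_two_dvd.1 e).trans hd)
  -- some element of the normaliser moves `H`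
  obtain ⟨n₀, hn₀⟩ : ∃ n₀ : N, (n₀ : G) ∉ h.H := by
    by_contra hcon
    push Not at hcon
    have hle : Subgroup.normalizer ((S : Subgroup G) : Set G) ≤
        Subgroup.centralizer ((S : Subgroup G) : Set G) := by
      rw [hS]
      exact fun n hn => Subgroup.mem_centralizer_iff.2 fun x hx => hcomm x hx n (hcon ⟨n, hn⟩)
    have hK := MonoidHom.ker_transferSylow_isComplement' S hle
    have hodd : Odd (Nat.card (MonoidHom.transferSylow S hle).ker) :=
      Nat.not_even_iff_odd.1 fun e =>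
        MonoidHom.not_dvd_card_ker_transferSylow S hle (even_iff_two_dvd.1 e)
    have hbot := hO _ inferInstance hodd
    rw [hbot, Subgroup.isComplement'_bot_left, hS] at hK
    refine hns ?_
    haveI := h.isSolvable_H
    haveI : Group.IsSolvable (⊤ : Subgroup G) := hK ▸ h.isSolvable_H
    exact Group.isSolvable_of_surjective (f := (⊤ : Subgroup G).subtype) fun g => ⟨⟨g, trivial⟩, rfl⟩
  letI : CommGroup h.H :=
    { (inferInstance : Group h.H) with mul_comm := fun a b => Subtype.ext (hcomm a a.2 b b.2) }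
  haveI := Fintype.ofFinite φ.range
  let π : h.H →* h.H := MonoidHom.mk' (fun x => ∏ w : φ.range, (w : MulAut h.H) x) fun a b => by
    simp only [map_mul, Finset.prod_mul_distrib]
  have π_apply : ∀ x, π x = ∏ w : φ.range, (w : MulAut h.H) x := fun x => rfl
  have π_left : ∀ (n : N) (x : h.H), φ n (π x) = π x := fun n x => by
    rw [π_apply, map_prod]
    exact Fintype.prod_equiv (Equiv.mulLeft (⟨φ n, n, rfl⟩ : φ.range)) _ _ fun w => rfl
  have π_right : ∀ (n : N) (x : h.H), π (φ n x) = π x := fun n x => by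
    rw [π_apply, π_apply]
    exact Fintype.prod_equiv (Equiv.mulRight (⟨φ n, n, rfl⟩ : φ.range)) _ _ fun w => rfl
  have hsq' : ∀ x : h.H, x * x = 1 := fun x => Subtype.ext (hsq x x.2)
  have hpow : ∀ x : h.H, x ^ Fintype.card φ.range = x := by
    intro x
    obtain ⟨k, hk⟩ := hW
    rw [← Nat.card_eq_fintype_card, hk, pow_succ, pow_mul, pow_two, hsq' x, one_pow, one_mul]
  have π_fix : ∀ x : h.H, (∀ n : N, φ n x = x) → π x = x := fun x hx => by
    rw [π_apply, Finset.prod_eq_pow_card (b := x), Finset.card_univ, hpow]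
    rintro ⟨w, n, rfl⟩ -
    exact hx n
  have fixA : ∀ x : h.H, (∀ n : N, φ n x = x) → (x : G) ∈ A → x = 1 := by
    intro x hx hxA
    by_contra hx1
    refine hn₀ (h.mem_H_of_comm ⟨hxA, hsq x x.2, fun e => hx1 (Subtype.ext e)⟩ ?_)
    have := congrArg Subtype.val (hx n₀)
    rw [φ_apply] at this
    exact mul_inv_eq_iff_eq_mul.1 this
  have avoid : ∀ x : h.H, (∀ n : N, ((φ n x : h.H) : G) ∉ A) → (π x : G) ∉ A := by
    intro x hx hπ
    have hxA : (x : G) ∉ A := by simpa using hx 1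
    have hm : π x * x ∈ A.subgroupOf h.H := by
      have e : π x * x = ∏ w : φ.range, (w : MulAut h.H) x * x := by
        rw [Finset.prod_mul_distrib, Finset.prod_const, Finset.card_univ, hpow, π_apply]
      rw [e]
      refine Subgroup.prod_mem _ ?_
      rintro ⟨w, n, rfl⟩ -
      exact h.mul_out ((h.out_iff (φ n x).2).1 (hx n)) ((h.out_iff x.2).1 hxA)
    exact hxA ((mul_mem_cancel_left (H := A) hπ).1 hm)
  set u : h.H := π ⟨x₀, hx₀H⟩ with hu
  have huA : (u : G) ∉ A := avoid _ fun n hn => hx₀ n ⟨by rwa [φ_apply] at hn,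
    by rw [show (n : G) * x₀ * (n : G)⁻¹ * (n * x₀ * (n : G)⁻¹) = n * (x₀ * x₀) * (n : G)⁻¹ by group,
      hsq x₀ hx₀H]; group,
    fun e => hx₀1 (conj_eq_one_iff.1 e)⟩
  have hu1 : u ≠ 1 := fun e => huA (by rw [e]; exact one_mem A)
  have hufix : ∀ n : N, φ n u = u := fun n => π_left n _
  have hπu : π u = u := π_fix u hufix
  have range_cases : ∀ x : h.H, π x = 1 ∨ π x = u := by
    intro x
    by_cases hA' : (π x : G) ∈ A
    · exact Or.inl (fixA _ (fun n => π_left n x) hA')
    · refine Or.inr ?_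
      have : π x * u = 1 := fixA _ (fun n => by rw [map_mul, π_left, hufix])
        (h.mul_out ((h.out_iff (π x).2).1 hA') ((h.out_iff u.2).1 huA))
      rw [eq_inv_of_mul_eq_one_left this, inv_eq_of_mul_eq_one_right (hsq' u)]
  set A' := π.ker.map h.H.subtype with hA'
  have memA' : ∀ x : G, x ∈ A' ↔ ∃ hx : x ∈ h.H, π ⟨x, hx⟩ = 1 := by
    intro x
    constructor
    · rintro ⟨y, hy, rfl⟩; exact ⟨y.2, hy⟩
    · rintro ⟨hx, e⟩; exact ⟨⟨x, hx⟩, e, rfl⟩
  have hcardA' : Nat.card A' = Nat.card A := by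
    have hr : Nat.card π.range = 2 := by
      refine Nat.card_eq_two_iff.2 ⟨⟨1, one_mem _⟩, ⟨u, u, hπu⟩, fun e => hu1 ?_, ?_⟩
      · exact (Subtype.ext_iff.1 e).symm
      · refine Set.eq_univ_of_forall ?_
        rintro ⟨_, x, rfl⟩
        rcases range_cases x with e | e
        · exact Or.inl (Subtype.ext e)
        · exact Or.inr (Subtype.ext e)
    have e := π.ker.card_mul_index
    rw [Subgroup.index_ker, hr, h.card_H] at e
    rw [hA', Subgroup.card_map_of_injective h.H.subtype_injective]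
    omega
  have hyp' : Hyp2 A' (u : G) := by
    refine ⟨fun a ha b hb => ?_, hcardA' ▸ h.two, hsq _ u.2, fun hh => ?_, fun a ha => ?_, ?_⟩
    · exact hcomm a ((memA' a).1 ha).1 b ((memA' b).1 hb).1
    · obtain ⟨_, e⟩ := (memA' _).1 hh
      exact hu1 (hπu.symm.trans e)
    · obtain ⟨haH, -⟩ := (memA' a).1 ha
      rw [← hcomm _ haH _ u.2, mul_assoc, hsq _ u.2, mul_one, inv_eq_of_mul_eq_one_right (hsq a haH)]
    · intro e he _ he1 g hg
      obtain ⟨heH, hπe⟩ := (memA' e).1 he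
      obtain ⟨n, hn⟩ : ∃ n : N, ((φ n ⟨e, heH⟩ : h.H) : G) ∈ A := by
        by_contra hcon
        push Not at hcon
        exact avoid _ hcon (by rw [hπe]; exact one_mem A)
      rw [φ_apply] at hn
      have hi : IsInner A ((n : G) * e * (n : G)⁻¹) := ⟨hn,
        by rw [show (n : G) * e * (n : G)⁻¹ * (n * e * (n : G)⁻¹) = n * (e * e) * (n : G)⁻¹ by group,
          hsq e heH]; group,
        fun e' => he1 (conj_eq_one_iff.1 e')⟩
      have hgH : g ∈ h.H := (Subgroup.mem_normalizer_iff.1 n.2 g).2 (h.mem_H_of_comm hi (by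
        calc (n : G) * g * (n : G)⁻¹ * (n * e * (n : G)⁻¹) = n * (g * e) * (n : G)⁻¹ := by group
          _ = n * (e * g) * (n : G)⁻¹ := by rw [hg]
          _ = n * e * (n : G)⁻¹ * (n * g * (n : G)⁻¹) := by group))
      rcases range_cases ⟨g, hgH⟩ with e' | e'
      · exact Or.inl ((memA' g).2 ⟨hgH, e'⟩)
      · refine Or.inr ((memA' _).2 ⟨mul_mem hgH u.2, ?_⟩)
        rw [show (⟨g * (u : G), mul_mem hgH u.2⟩ : h.H) = ⟨g, hgH⟩ * u from rfl, map_mul, e', hπu, hsq']
  have hunf : Unfused A' (u : G) := by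
    intro t ht g hg
    obtain ⟨htuH, e⟩ := (memA' _).1 ht
    have htH : t ∈ h.H := by
      have := mul_mem htuH (inv_mem u.2); rwa [mul_inv_cancel_right] at this
    have hπt : π ⟨t, htH⟩ = u := by
      have : π ⟨t, htH⟩ * u = 1 := by rw [← hπu, ← map_mul]; exact e
      rw [eq_inv_of_mul_eq_one_left this, inv_eq_of_mul_eq_one_right (hsq' u)]
    obtain ⟨hgH, e2⟩ := (memA' _).1 hg.1
    obtain ⟨n, hn, e3⟩ := burnside t htH g hgH
    have : φ ⟨n, hn⟩ ⟨t, htH⟩ = ⟨g * t * g⁻¹, hgH⟩ := Subtype.ext (by rw [φ_apply]; exact e3.symm)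
    rw [← this, π_right, hπt] at e2
    exact hu1 e2
  obtain ⟨a, ha, b, hb, ha1, hb1, hab⟩ := exists_two_of_three_le A' (by
    have := le_trans (h.four_le_E h₁ h₂ hne)
      (Nat.le_of_dvd Nat.card_pos (Subgroup.card_dvd_of_le (fun x hx => hx.1 : h.E ≤ A)))
    omega)
  exact Or.inr ⟨A', u, hyp', hunf, a, b, ⟨ha, hsq a ((memA' a).1 ha).1, ha1⟩,
    ⟨hb, hsq b ((memA' b).1 hb).1, hb1⟩, hab⟩

end Hyp2

end Cfsg.Agent.DGroup
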