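import Cfsg.Agent.Lib.DGroup.FourSolvable
import Cfsg.Agent.Lib.Involutions.Basic

/-!
# An abelian subgroup inverted by an involution, self-centralising at its involutions
-/

set_option autoImplicit false
set_option linter.unusedSectionVars false
set_option linter.style.haveILetI false

namespace Cfsg.Agent.DGroup

open scoped commutatorElement

variable {G : Type*} [Group G]

/-- `A` is abelian of even order, inverted by the involution `s ∉ A`, and every involution of `A`
has centraliser `A ∪ A s`. -/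
structure Hyp2 (A : Subgroup G) (s : G) : Prop where
  comm : ∀ a ∈ A, ∀ b ∈ A, a * b = b * a
  two : 2 ∣ Nat.card A
  ss : s * s = 1
  sA : s ∉ A
  inv : ∀ a ∈ A, s * a * s = a⁻¹
  cent : ∀ e ∈ A, e * e = 1 → e ≠ 1 → ∀ g : G, g * e = e * g → g ∈ A ∨ g * s ∈ A

/-- An involution of `A`. -/
def IsInner (A : Subgroup G) (e : G) : Prop := e ∈ A ∧ e * e = 1 ∧ e ≠ 1

/-- No element of `H ∖ A` is conjugate to an involution of `A`. -/
def Unfused (A : Subgroup G) (s : G) : Prop :=
  ∀ t : G, t * s ∈ A → ∀ g : G, ¬ IsInner A (g * t * g⁻¹)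

/-- No non-trivial normal subgroup of odd order. -/
def NoOdd (G : Type*) [Group G] : Prop :=
  ∀ N : Subgroup G, N.Normal → Odd (Nat.card N) → N = ⊥

theorem mul_self_of_orderOf {x : G} (h : orderOf x = 2) : x * x = 1 := by
  rw [← pow_two, ← h, pow_orderOf_eq_one]

theorem orderOf_two {x : G} (h : x * x = 1) (h1 : x ≠ 1) : orderOf x = 2 :=
  orderOf_eq_prime (by rw [pow_two, h]) h1

theorem eq_one_of_sq_of_odd' [Finite G] {N : Subgroup G} (ho : Odd (Nat.card N)) {x : G}
    (hx : x ∈ N) (h : x * x = 1) : x = 1 := eq_one_of_sq ho hx h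

namespace Hyp2

variable {A : Subgroup G} {s : G} (h : Hyp2 A s)

include h

theorem s_inv : s⁻¹ = s := inv_eq_of_mul_eq_one_right h.ss

theorem s_ne : s ≠ 1 := fun e => h.sA (e ▸ one_mem A)

theorem s_mul {a : G} (ha : a ∈ A) : s * a = a⁻¹ * s := by
  rw [← h.inv a ha, mul_assoc, h.ss, mul_one]

theorem mul_s {a : G} (ha : a ∈ A) : a * s = s * a⁻¹ := by
  rw [h.s_mul (inv_mem ha), inv_inv]

/-- The subgroup `A ∪ A s`. -/
def H : Subgroup G where
  carrier := {g | g ∈ A ∨ g * s ∈ A}
  one_mem' := Or.inl (one_mem A)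
  mul_mem' := by
    rintro a b (ha | ha) (hb | hb)
    · exact Or.inl (mul_mem ha hb)
    · exact Or.inr (by rw [mul_assoc]; exact mul_mem ha hb)
    · refine Or.inr ?_
      have e : a * b * s = (a * s) * b⁻¹ := by rw [mul_assoc, h.mul_s hb, mul_assoc]
      rw [e]
      exact mul_mem ha (inv_mem hb)
    · refine Or.inl ?_
      have e : a * b = (a * s) * (b * s)⁻¹ := by
        rw [mul_inv_rev, h.s_inv]
        calc a * b = a * (s * s) * b := by rw [h.ss, mul_one]
          _ = (a * s) * (s * b) := by group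
          _ = (a * s) * (s * ((b * s) * s)) := by rw [mul_assoc b, h.ss, mul_one]
          _ = (a * s) * ((s * (b * s)) * s) := by group
          _ = (a * s) * ((b * s)⁻¹ * s * s) := by rw [h.s_mul hb]
          _ = (a * s) * (s * b⁻¹) := by rw [mul_inv_rev, h.s_inv, mul_assoc (s * b⁻¹), h.ss, mul_one]
      rw [e]
      exact mul_mem ha (inv_mem hb)
  inv_mem' := by
    rintro a (ha | ha)
    · exact Or.inl (inv_mem ha)
    · refine Or.inr ?_
      have e : a * s * (a * s) * (a * s)⁻¹ = a * s := by group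
      have e2 : s * (a * s) * s = (a * s)⁻¹ := h.inv _ ha
      have e3 : a⁻¹ * s = a * s := by
        have : s * a = s * a⁻¹ → a⁻¹ * s = a * s := fun e => by
          have := congrArg (fun x => s * x * s) e
          simp only [← mul_assoc, h.ss, one_mul] at this
          exact this.symm
        refine this ?_
        calc s * a = s * (a * s) * s := by rw [← mul_assoc, mul_assoc (s * a), h.ss, mul_one]
          _ = (a * s)⁻¹ := e2
          _ = s * a⁻¹ := by rw [mul_inv_rev, h.s_inv]
      rw [e3]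
      exact ha

theorem mem_H {g : G} : g ∈ h.H ↔ g ∈ A ∨ g * s ∈ A := Iff.rfl

theorem A_le : A ≤ h.H := fun _ ha => Or.inl ha

theorem s_mem : s ∈ h.H := Or.inr (by rw [h.ss]; exact one_mem A)

theorem out_iff {g : G} (hg : g ∈ h.H) : g ∉ A ↔ g * s ∈ A := by
  refine ⟨fun hn => hg.resolve_left hn, fun hs hA => h.sA ?_⟩
  have := mul_mem (inv_mem hA) hs
  rwa [inv_mul_cancel_left] at this

theorem not_mem_of_mul_s {g : G} (hg : g * s ∈ A) : g ∉ A :=
  (h.out_iff (Or.inr hg)).2 hg

theorem out_sq {g : G} (hg : g * s ∈ A) : g * g = 1 := by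
  have e : g = (g * s) * s := by rw [mul_assoc, h.ss, mul_one]
  calc g * g = (g * s) * s * ((g * s) * s) := by rw [← e]
    _ = (g * s) * (s * (g * s) * s) := by group
    _ = 1 := by rw [h.inv _ hg, mul_inv_cancel]

theorem out_inv {g : G} (hg : g * s ∈ A) : g⁻¹ = g :=
  inv_eq_of_mul_eq_one_right (h.out_sq hg)

/-- An element of `H ∖ A` inverts `A`. -/
theorem out_conj {g a : G} (hg : g * s ∈ A) (ha : a ∈ A) : g * a * g⁻¹ = a⁻¹ := by
  have e : g = (g * s) * s := by rw [mul_assoc, h.ss, mul_one]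
  calc g * a * g⁻¹ = ((g * s) * s) * a * ((g * s) * s)⁻¹ := by rw [← e]
    _ = (g * s) * (s * a * s⁻¹) * (g * s)⁻¹ := by group
    _ = a⁻¹ := by rw [h.s_inv, h.inv a ha, h.comm _ hg _ (inv_mem ha), mul_inv_cancel_right]

theorem out_conj' {g a : G} (hg : g * s ∈ A) (ha : a ∈ A) : g * a * g = a⁻¹ := by
  have := h.out_conj hg ha
  rwa [h.out_inv hg] at this

theorem mul_out {g k : G} (hg : g * s ∈ A) (hk : k * s ∈ A) : g * k ∈ A := by
  have e : g * k = (g * s) * (k * s)⁻¹ := by
    rw [mul_inv_rev, h.s_inv]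
    calc g * k = g * (s * s) * k⁻¹ := by rw [h.ss, mul_one, h.out_inv hk]
      _ = g * s * (s * k⁻¹) := by group
  rw [e]
  exact mul_mem hg (inv_mem hk)

theorem inner_comm {e g : G} (he : IsInner A e) (hg : g ∈ h.H) : g * e = e * g := by
  rcases hg with hg | hg
  · exact h.comm g hg e he.1
  · have := h.out_conj hg he.1
    rw [inv_eq_of_mul_eq_one_right he.2.1] at this
    calc g * e = (g * e * g⁻¹) * g := by group
      _ = e * g := by rw [this]

theorem centralizer_eq {e : G} (he : IsInner A e) :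
    Subgroup.centralizer ({e} : Set G) = h.H := by
  ext g
  rw [Subgroup.mem_centralizer_singleton_iff]
  exact ⟨fun hg => h.cent e he.1 he.2.1 he.2.2 g hg, fun hg => h.inner_comm he hg⟩

theorem mem_H_of_comm {e g : G} (he : IsInner A e) (hg : g * e = e * g) : g ∈ h.H :=
  h.cent e he.1 he.2.1 he.2.2 g hg

theorem conj_inner_normalizes {e g : G} (he : IsInner A e) (hge : IsInner A (g * e * g⁻¹)) :
    g ∈ Subgroup.normalizer (h.H : Set G) := by
  rw [Subgroup.mem_normalizer_iff]
  intro x
  rw [← h.centralizer_eq he]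
  conv_rhs => rw [h.centralizer_eq he, ← h.centralizer_eq hge]
  rw [Subgroup.mem_centralizer_singleton_iff, Subgroup.mem_centralizer_singleton_iff]
  constructor
  · intro hx
    calc g * x * g⁻¹ * (g * e * g⁻¹) = g * (x * e) * g⁻¹ := by group
      _ = g * (e * x) * g⁻¹ := by rw [hx]
      _ = g * e * g⁻¹ * (g * x * g⁻¹) := by group
  · intro hx
    calc x * e = g⁻¹ * (g * x * g⁻¹ * (g * e * g⁻¹)) * g := by group
      _ = g⁻¹ * (g * e * g⁻¹ * (g * x * g⁻¹)) * g := by rw [hx]
      _ = e * x := by group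

theorem A_relIndex : A.relIndex h.H = 2 := by
  rw [Subgroup.relIndex, Subgroup.index_eq_two_iff]
  refine ⟨⟨s, h.s_mem⟩, fun b => ?_⟩
  rcases b.2 with hb | hb
  · refine Or.inr ⟨hb, fun hbs => ?_⟩
    exact h.not_mem_of_mul_s hbs hb
  · exact Or.inl ⟨hb, fun hb' => h.not_mem_of_mul_s hb hb'⟩

theorem isSolvable_H [Finite G] : Group.IsSolvable h.H := by
  haveI : (A.subgroupOf h.H).Normal := Subgroup.normal_of_index_eq_two h.A_relIndex
  haveI : IsMulCommutative (A.subgroupOf h.H) :=
    .of_setLike_mul_comm fun a ha b hb => Subtype.ext (h.comm a ha b hb)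
  haveI : Fact (Nat.Prime 2) := ⟨Nat.prime_two⟩
  haveI : Group.IsNilpotent (h.H ⧸ A.subgroupOf h.H) :=
    (IsPGroup.of_card (p := 2) (n := 1) (by rw [pow_one, ← Subgroup.index_eq_card]; exact h.A_relIndex)).isNilpotent
  haveI : Group.IsSolvable (A.subgroupOf h.H) := Group.isSolvable_of_comm fun a b => mul_comm' a b
  exact Group.isSolvable_of_ker_le_range (A.subgroupOf h.H).subtype (QuotientGroup.mk' (A.subgroupOf h.H))
    (by rw [QuotientGroup.ker_mk', Subgroup.range_subtype])

theorem exists_inner [Finite G] : ∃ e, IsInner A e := by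
  haveI := Fact.mk Nat.prime_two
  obtain ⟨e, he⟩ := exists_prime_orderOf_dvd_card' (G := A) 2 h.two
  rw [← Subgroup.orderOf_coe] at he
  exact ⟨e, e.2, mul_self_of_orderOf he, fun e1 => by rw [e1, orderOf_one] at he; exact absurd he (by omega)⟩

/-- The four-group of an inner involution and `s` acts without fixed points on odd subgroups. -/
theorem fpf [Finite G] {e : G} (he : IsInner A e) {X : Subgroup G} (hX : Odd (Nat.card X))
    (hi : Inv e s X) : Fpf e s (e * s) X where
  uu := he.2.1
  vv := h.ss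
  comm := (h.inner_comm he h.s_mem).symm
  uv := rfl
  odd := hX
  memu := hi.1
  memv := hi.2
  triv x hx h1 h2 := by
    rcases h.mem_H_of_comm he h1.symm with hxA | hxs
    · refine eq_one_of_sq hX hx ?_
      have := h.inv x hxA
      rw [h2, mul_assoc, h.ss, mul_one] at this
      conv_lhs => arg 2; rw [this]
      exact mul_inv_cancel x
    · exact eq_one_of_sq hX hx (h.out_sq hxs)

theorem solvable_of_normal_odd [Finite G] (N : Subgroup G) [N.Normal] (hN : Odd (Nat.card N)) :
    Group.IsSolvable N := by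
  obtain ⟨e, he⟩ := h.exists_inner
  have key : ∀ a : G, a * a = 1 → ∀ x ∈ N, a * x * a ∈ N := fun a ha x hx => by
    have := ‹N.Normal›.conj_mem x hx a
    rwa [inv_eq_of_mul_eq_one_right ha] at this
  exact (h.fpf he hN ⟨key e he.2.1, key s h.ss⟩).isSolvable

/-- The hypothesis passes to the quotient by a normal subgroup of odd order. -/
theorem map [Finite G] (N : Subgroup G) [N.Normal] (hN : Odd (Nat.card N)) :
    Hyp2 (A.map (QuotientGroup.mk' N)) (QuotientGroup.mk' N s) where
  comm := by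
    rintro _ ⟨a, ha, rfl⟩ _ ⟨b, hb, rfl⟩
    rw [← map_mul, ← map_mul, h.comm a ha b hb]
  two := by
    haveI := Fact.mk Nat.prime_two
    obtain ⟨e, he⟩ := h.exists_inner
    have he2 : orderOf (QuotientGroup.mk' N e) = 2 := by
      refine orderOf_two (by rw [← map_mul, he.2.1, map_one]) fun e1 => he.2.2 ?_
      exact eq_one_of_sq hN ((QuotientGroup.eq_one_iff e).1 e1) he.2.1
    exact he2 ▸ Subgroup.orderOf_dvd_natCard _ (Subgroup.mem_map_of_mem _ he.1)
  ss := by rw [← map_mul, h.ss, map_one]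
  sA := by
    rintro ⟨a, ha, e⟩
    have hn : a⁻¹ * s ∈ N := QuotientGroup.eq.1 e
    have h1 : a⁻¹ * s = 1 := eq_one_of_sq hN hn
      (h.out_sq (by rw [mul_assoc, h.ss, mul_one]; exact inv_mem ha))
    exact h.sA (by rw [← inv_mul_eq_one.1 h1]; exact ha)
  inv := by
    rintro _ ⟨a, ha, rfl⟩
    rw [← map_mul, ← map_mul, h.inv a ha, map_inv]
  cent := by
    rintro _ ⟨a, ha, rfl⟩ h2 h1 g hg
    set f := QuotientGroup.mk' N with hf
    -- replace `a` by an involution with the same image
    set m := Nat.card N with hm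
    set e := a ^ m with he
    obtain ⟨k, hk⟩ := hN
    have hfe : f e = f a := by
      rw [he, map_pow, hk, pow_succ, pow_mul, pow_two, h2, one_pow, one_mul]
    have hee : e * e = 1 := by
      rw [he, ← (Commute.refl a).mul_pow]
      have : a * a ∈ N := by
        rw [← QuotientGroup.ker_mk' N, MonoidHom.mem_ker, map_mul]
        exact h2
      exact congrArg Subtype.val (pow_card_eq_one' (x := (⟨a * a, this⟩ : N)))
    have hine : IsInner A e := ⟨pow_mem ha m, hee, fun e1 => h1 (by rw [← hfe, e1, map_one])⟩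
    obtain ⟨g, rfl⟩ := QuotientGroup.mk'_surjective N g
    rw [← hfe] at hg
    -- `g e g⁻¹` is conjugate to `e` under `N`
    set e' := g * e * g⁻¹ with he'
    have hee' : e' * e' = 1 := by
      rw [he', show g * e * g⁻¹ * (g * e * g⁻¹) = g * (e * e) * g⁻¹ by group, hee]; group
    have hmem : e * e' ∈ N := by
      rw [← QuotientGroup.ker_mk' N, MonoidHom.mem_ker, map_mul, he', map_mul, map_mul, hg,
        map_inv, mul_inv_cancel_right, ← map_mul, hee, map_one]
    have hodd : Odd (orderOf (e * e')) :=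
      (show Odd (Nat.card N) from ⟨k, hk⟩).of_dvd_nat (Subgroup.orderOf_dvd_natCard N hmem)
    obtain ⟨j, hj⟩ := hodd
    have ho1 : orderOf e = 2 := orderOf_two hee hine.2.2
    have ho2 : orderOf e' = 2 := orderOf_two hee' fun e1 => hine.2.2 (by
      rw [he'] at e1
      exact conj_eq_one_iff.1 e1)
    have hd : (e * e') ^ (j : ℤ) * e * ((e * e') ^ (j : ℤ))⁻¹ = e' := by
      have hxy : e * (e * e') * e⁻¹ = (e * e')⁻¹ := Invol.conj_mul ho1 ho2
      rw [Invol.zpow_mul_conj hxy]
      have hpow : (e * e') ^ ((2 * (j : ℤ)) + 1) = 1 := by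
        rw [show (2 * (j : ℤ)) + 1 = ((2 * j + 1 : ℕ) : ℤ) by push_cast; ring, zpow_natCast, ← hj,
          pow_orderOf_eq_one]
      rw [zpow_add, zpow_one, mul_eq_one_iff_eq_inv] at hpow
      rw [hpow, mul_inv_rev, inv_eq_of_mul_eq_one_right hee, inv_eq_of_mul_eq_one_right hee',
        mul_assoc, hee, mul_one]
    set d := (e * e') ^ (j : ℤ) with hdd
    have hdN : d ∈ N := Subgroup.zpow_mem N hmem _
    have hcomm : (d⁻¹ * g) * e = e * (d⁻¹ * g) := by
      calc d⁻¹ * g * e = d⁻¹ * (g * e * g⁻¹) * g := by group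
        _ = d⁻¹ * (d * e * d⁻¹) * g := by rw [hd]
        _ = e * (d⁻¹ * g) := by group
    have hfd : f (d⁻¹ * g) = f g := by
      have : f d = 1 := (QuotientGroup.eq_one_iff d).2 hdN
      rw [map_mul, map_inv, this, inv_one, one_mul]
    rcases h.mem_H_of_comm hine hcomm with hA | hA
    · exact Or.inl ⟨_, hA, hfd⟩
    · exact Or.inr ⟨_, hA, by rw [map_mul, hfd]⟩

end Hyp2

end Cfsg.Agent.DGroup
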