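import Cfsg.Agent.Lib.DGroup.TICanon
import Cfsg.Agent.Lib.DGroup.Five
import Cfsg.Agent.Lib.DGroup.Ratio

/-!
# Centralisers of the odd elements of `A`

A minimal counterexample yields a subgroup with one class of involutions and small index.
-/

set_option autoImplicit false
set_option linter.unusedSectionVars false
set_option linter.style.haveILetI false

namespace Cfsg.Agent.DGroup

open Cfsg (fittingOf pCoreOf)
open Cfsg.Agent.OddOrder
open scoped Pointwise commutatorElement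

universe u

variable {G : Type u} [Group G]

theorem normalizer_le_normalizer_core [Finite G] (t : ℕ) (X : Subgroup G) :
    Subgroup.normalizer (X : Set G) ≤ Subgroup.normalizer (pCoreOf t X : Set G) := by
  intro g hg
  rw [Subgroup.mem_normalizer_iff_map_conj_eq]
  have hX := Subgroup.mem_normalizer_iff_map_conj_eq.1 hg
  refine Subgroup.eq_of_le_of_card_ge (AxB.le_pCoreOf ((Subgroup.map_mono (FitOf.pCoreOf_le t X)).trans hX.le)
    ?_ ((FitOf.isPGroup_pCoreOf t X).map _)) (Subgroup.card_map_of_injective (MulAut.conj g).injective).ge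
  calc X = X.map (MulAut.conj g).toMonoidHom := hX.symm
    _ ≤ (Subgroup.normalizer (pCoreOf t X : Set G)).map (MulAut.conj g).toMonoidHom :=
      Subgroup.map_mono (FitOf.le_normalizer_pCoreOf t X)
    _ ≤ _ := Subgroup.le_normalizer_map _

/-- The invariant groups of the other primes normalised by `P`. -/
def fam (t : ℕ) (j v : G) (P B : Subgroup G) : Prop :=
  ∃ q : ℕ, q.Prime ∧ q ≠ t ∧ IsPGroup q B ∧ Odd (Nat.card B) ∧ Inv j v B ∧
    P ≤ Subgroup.normalizer (B : Set G)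

/-- The part of `P` centralising the whole family. -/
def zf (t : ℕ) (j v : G) (P : Subgroup G) : Subgroup G :=
  P ⊓ Subgroup.centralizer {x | ∃ B, fam t j v P B ∧ x ∈ B}

theorem mem_zf {t : ℕ} {j v : G} {P : Subgroup G} {x : G} :
    x ∈ zf t j v P ↔ x ∈ P ∧ ∀ B, fam t j v P B → ∀ b ∈ B, b * x = x * b := by
  rw [zf, Subgroup.mem_inf, Subgroup.mem_centralizer_iff]
  exact ⟨fun h => ⟨h.1, fun B hB b hb => h.2 b ⟨B, hB, hb⟩⟩,
    fun h => ⟨h.1, fun b ⟨B, hB, hb⟩ => h.2 B hB b hb⟩⟩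

theorem zf_le {t : ℕ} {j v : G} {P : Subgroup G} : zf t j v P ≤ P := inf_le_left

/-- An element of `N(P)` moving the four-group into itself normalises `zf`. -/
theorem zf_normalizer [Finite G] {t : ℕ} {j v : G} (hF : Four j v (j * v)) {P : Subgroup G} {n : G}
    (hn : n ∈ Subgroup.normalizer (P : Set G)) (h1 : n * j * n⁻¹ ∈ hF.group)
    (h2 : n * v * n⁻¹ ∈ hF.group) : n ∈ Subgroup.normalizer (zf t j v P : Set G) := by
  rw [Subgroup.mem_normalizer_iff_map_conj_eq]
  refine Subgroup.eq_of_le_of_card_ge ?_ (Subgroup.card_map_of_injective (MulAut.conj n).injective).ge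
  rintro _ ⟨x, hx, rfl⟩
  obtain ⟨hxP, hxB⟩ := mem_zf.1 hx
  refine mem_zf.2 ⟨(Subgroup.mem_normalizer_iff.1 hn x).1 hxP, fun B hB b hb => ?_⟩
  obtain ⟨q, hq, hqt, hBq, hBo, hBi, hPB⟩ := hB
  have hfam : fam t j v P (B.map (MulAut.conj n⁻¹).toMonoidHom) := by
    refine ⟨q, hq, hqt, hBq.map _, ?_, inv_conj hF hBi (by rw [inv_inv]; exact h1)
      (by rw [inv_inv]; exact h2), ?_⟩
    · rwa [Subgroup.card_map_of_injective (MulAut.conj n⁻¹).injective]
    · calc P = P.map (MulAut.conj n⁻¹).toMonoidHom :=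
          (Subgroup.mem_normalizer_iff_map_conj_eq.1 (inv_mem hn)).symm
        _ ≤ (Subgroup.normalizer (B : Set G)).map (MulAut.conj n⁻¹).toMonoidHom :=
          Subgroup.map_mono hPB
        _ ≤ _ := Subgroup.le_normalizer_map _
  have e := hxB _ hfam (n⁻¹ * b * n) ⟨b, hb, by simp⟩
  show b * (n * x * n⁻¹) = n * x * n⁻¹ * b
  calc b * (n * x * n⁻¹) = n * (n⁻¹ * b * n * x) * n⁻¹ := by group
    _ = n * (x * (n⁻¹ * b * n)) * n⁻¹ := by rw [e]
    _ = n * x * n⁻¹ * b := by group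

/-- `y` centralises `b` if it normalises the fixed set of `w` containing `b` and is inverted by `w`. -/
theorem comm_of_inverted {w y b : G} (hw : w * w = 1) (hy : w * y * w = y⁻¹) (hyo : Odd (orderOf y))
    (hb : b * w = w * b) (hb' : (y * b * y⁻¹) * w = w * (y * b * y⁻¹)) : y * b = b * y := by
  have e1 : w * (y * b * y⁻¹) * w = y * b * y⁻¹ := by rw [← hb', mul_assoc, hw, mul_one]
  rw [invol_conj_mul hw, invol_conj_mul hw, invol_conj_inv hw, hy, inv_inv,
    show w * b * w = b by rw [← hb, mul_assoc, hw, mul_one]] at e1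
  have h2 : Commute (y * y) b := by
    show y * y * b = b * (y * y)
    calc y * y * b = y * (y * b * y⁻¹) * y := by group
      _ = y * (y⁻¹ * b * y) * y := by rw [e1]
      _ = b * (y * y) := by group
  obtain ⟨m, hm⟩ := hyo
  have h3 := h2.pow_left (m + 1)
  rw [← pow_two, ← pow_mul, show 2 * (m + 1) = orderOf y + 1 by omega, pow_succ, pow_orderOf_eq_one,
    one_mul] at h3
  exact h3.eq

namespace Main

variable [Finite G] {A : Subgroup G} {s j : G} (h : Main A s j) (IH : Below G)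
variable {t : ℕ} [Fact t.Prime]

include h

/-- The centre of the largest invariant group meets `A`. -/
theorem centre_inner (ht : t ≠ 2) {v : G} (hv : v * s ∈ A) {P : Subgroup G} (hP : Closed t j v P)
    (hne : P ≠ ⊥) : ∃ z ∈ zc P, z * j = j * z ∧ z ≠ 1 := by
  have hF := h.toR1.four hv
  obtain ⟨n, hn1, hn2⟩ := h.exists_global hv
  have hn3 : n * (j * v) * n⁻¹ = j := by
    rw [show n * (j * v) * n⁻¹ = n * j * n⁻¹ * (n * v * n⁻¹) by group, hn1, hn2, ← mul_assoc,
      ← hF.comm, mul_assoc, hF.vv, mul_one]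
  have hnP : n ∈ Subgroup.normalizer (P : Set G) := hP.mem_normalizer hF
    (by rw [show n⁻¹ * j * n = j * v by nth_rewrite 1 [← hn3]; group]; exact hF.w_mem)
    (by rw [show n⁻¹ * v * n = j by nth_rewrite 1 [← hn1]; group]; exact hF.u_mem)
  have hconj : ∀ z ∈ zc P, n * z * n⁻¹ ∈ zc P := by
    rintro z ⟨hz, hzc⟩
    refine ⟨(Subgroup.mem_normalizer_iff.1 hnP z).1 hz, Subgroup.mem_centralizer_iff.2 fun y hy => ?_⟩
    have e := conj_comm (g := n)
      (Subgroup.mem_centralizer_iff.1 hzc _ ((Subgroup.mem_normalizer_iff''.1 hnP y).1 hy))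
    rwa [show n * (n⁻¹ * y * n) * n⁻¹ = y by group] at e
  by_contra hcon
  push Not at hcon
  have hzi : Inv j v (zc P) := hF.inv_inf hP.2.1 (hF.inv_centralizer hP.2.1)
  have hzF := h.fpf_four hv (odd_pgroup ht (hP.1.to_le inf_le_left : IsPGroup t (zc P))) hzi
  haveI : Nontrivial P := (Subgroup.nontrivial_iff_ne_bot P).2 hne
  haveI := hP.1.center_nontrivial
  obtain ⟨⟨z, hz⟩, hz1⟩ := exists_ne (1 : Subgroup.center P)
  have hzmem : (z : G) ∈ zc P := ⟨z.2, Subgroup.mem_centralizer_iff.2 fun y hy =>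
      congrArg Subtype.val (Subgroup.mem_center_iff.1 hz ⟨y, hy⟩)⟩
  have hjv : ∀ x ∈ zc P, x * (j * v) = j * v * x → x = 1 := fun x hx hc => by
    have := hcon _ (hconj x hx) (by have := conj_comm (g := n) hc; rwa [hn3] at this)
    exact conj_eq_one_iff.1 this
  refine hz1 (Subtype.ext (Subtype.ext (Subgroup.mem_bot.1 (hzF.le_of_axes (Y := ⊥) ?_ ?_ ?_ hzmem))))
  · exact fun x hx => Subgroup.mem_bot.2 (hcon x (ax_le _ _ hx) (mem_ax.1 hx).2.symm)
  · exact fun x hx => Subgroup.mem_bot.2 (conj_eq_one_iff.1 (hjv _ (hconj x (ax_le _ _ hx))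
      (by have := conj_comm (g := n) (mem_ax.1 hx).2.symm; rwa [hn2] at this)))
  · exact fun x hx => Subgroup.mem_bot.2 (hjv x (ax_le _ _ hx) (mem_ax.1 hx).2.symm)

omit [Fact t.Prime] in
/-- The normalizer of an odd cyclic subgroup of `A` is proper and contains `H`. -/
theorem normalizer_inner {z : G} (hz : z ∈ A) (hzo : Odd (orderOf z)) (hz1 : z ≠ 1) :
    h.hyp.H ≤ Subgroup.normalizer (Subgroup.zpowers z : Set G) ∧
      Subgroup.normalizer (Subgroup.zpowers z : Set G) ≠ ⊤ := by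
  refine ⟨fun g hg => mem_normalizer_of_forall fun x hx => ?_, fun e => hz1 ?_⟩
  · have hxA : x ∈ A := Subgroup.zpowers_le.2 hz hx
    rcases hg with hg | hg
    · rwa [h.hyp.comm g hg x hxA, mul_inv_cancel_right]
    · rw [h.hyp.out_conj hg hxA]; exact inv_mem hx
  · haveI : (Subgroup.zpowers z).Normal := Subgroup.normalizer_eq_top_iff.1 e
    exact Subgroup.zpowers_eq_bot.1 (h.noOdd _ this (by rwa [Nat.card_zpowers]))

/-- A proper subgroup over `H` containing the largest invariant group. -/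
theorem exists_over (ht : t ≠ 2) {v : G} (hv : v * s ∈ A) {P : Subgroup G} (hP : Closed t j v P)
    (hne : P ≠ ⊥) : ∃ M : Subgroup G, h.hyp.H ≤ M ∧ M ≠ ⊤ ∧ P ≤ M := by
  obtain ⟨z, hz, hzj, hz1⟩ := h.centre_inner ht hv hP hne
  have hzo : Odd (orderOf z) :=
    (odd_pgroup ht hP.1).of_dvd_nat (Subgroup.orderOf_dvd_natCard P hz.1)
  obtain ⟨h1, h2⟩ := h.normalizer_inner (h.odd_mem_A hzj hzo) hzo hz1
  refine ⟨_, h1, h2, fun y hy => mem_normalizer_of_forall fun x hx => ?_⟩
  obtain ⟨i, rfl⟩ := hx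
  have hc : Commute y z := Subgroup.mem_centralizer_iff.1 hz.2 y hy
  show y * z ^ i * y⁻¹ ∈ Subgroup.zpowers z
  rw [(hc.zpow_right i).eq, mul_inv_cancel_right]
  exact Subgroup.zpow_mem_zpowers z i

include IH

/-- The largest invariant group is the same for every four-group of the Sylow subgroup. -/
theorem canon (ht : t ≠ 2) {S : Sylow 2 G} (hS : (S : Subgroup G) ≤ h.hyp.H) {v : G}
    (hvS : v ∈ (S : Subgroup G)) (hv : v * s ∈ A) {P : Subgroup G} (hP : Closed t j v P)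
    (hne : P ≠ ⊥) {v' : G} (hv'S : v' ∈ (S : Subgroup G)) (hv' : v' * s ∈ A) : Closed t j v' P := by
  haveI := Fact.mk Nat.prime_two
  have hF := h.toR1.four hv
  obtain ⟨M, hHM, hMne, hPM⟩ := h.exists_over ht hv hP hne
  have hPX := h.closed_le_core IH ht hv hP hHM hMne hPM
  set X := core2 M with hX
  have hSX : (S : Subgroup G) ≤ Subgroup.normalizer (X : Set G) :=
    (hS.trans hHM).trans (core2_normalised M)
  have hjS := h.toR1.jmem_sylow hS
  have hXi : Inv j v X :=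
    ⟨fun x hx => invol_conj_mem h.jj (hSX hjS) hx, fun x hx => invol_conj_mem hF.vv (hSX hvS) hx⟩
  have hXF := h.fpf_four hv (core2_odd M) hXi
  obtain ⟨T, hTX, hTp, hTi, hTc⟩ := hXF.exists_sylow t
  have hPT : P = T := le_antisymm (hXF.le_sylow hPX hP.1 hP.2.1 hTX hTi hTc) (hP.2.2 T hTp hTi)
  have hcop : (Nat.card (S : Subgroup G)).Coprime (Nat.card X) := by
    obtain ⟨k, hk⟩ := IsPGroup.iff_card.1 S.isPGroup'
    rw [hk]
    exact ((Nat.coprime_two_left).2 (core2_odd M)).pow_left k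
  obtain ⟨Q, hQ⟩ := CoprimeAct.exists_invariant_sylow hSX hcop (Or.inr hXF.isSolvable) t
  have hSP : (S : Subgroup G) ≤ Subgroup.normalizer (P : Set G) := by
    rwa [hPT, hXF.sylow_unique hTX (Subgroup.map_subtype_le _) hTi
      ⟨fun x hx => invol_conj_mem h.jj (hQ hjS) hx, fun x hx => invol_conj_mem hF.vv (hQ hvS) hx⟩
      hTc (CoprimeAct.card_map_sylow Q)]
  have hF' := h.toR1.four hv'
  have hPi' : Inv j v' P :=
    ⟨fun x hx => invol_conj_mem h.jj (hSP hjS) hx, fun x hx => invol_conj_mem hF'.vv (hSP hv'S) hx⟩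
  have hc := hP.card_eq h ht hv
  have hbig : ∀ u, Nat.card (tPart t u) = Nat.card (tPart t j) → ¬ P ≤ tPart t u := by
    intro u hu hle
    have h1 := Nat.le_of_dvd Nat.card_pos (Subgroup.card_dvd_of_le hle)
    rw [hu, hc] at h1
    refine hne (Subgroup.card_eq_one.1 ?_)
    rw [hc]
    have hpos : 0 < Nat.card (tPart t j) := Nat.card_pos
    have : Nat.card (tPart t j) = 1 := by
      by_contra hne1
      have h2 : 2 ≤ Nat.card (tPart t j) := by omega
      nlinarith [Nat.mul_le_mul h2 h2]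
    rw [this, one_pow]
  obtain ⟨P', hP'⟩ := h.exists_closed ht hv' hP.1 hPi' (hbig j rfl) (hbig v' (h.tPart_card hv').1)
    (hbig _ (h.tPart_card hv').2)
  have : P = P' := Subgroup.eq_of_le_of_card_ge (hP'.2.2 P hP.1 hPi')
    (by rw [hc, hP'.card_eq h ht hv'])
  exact this ▸ hP'

/-- The family of the other four-group is centralised by `zf`. -/
theorem zf_le_centralizer (ht : t ≠ 2) {S : Sylow 2 G} (hS : (S : Subgroup G) ≤ h.hyp.H) {v v' : G}
    (hvS : v ∈ (S : Subgroup G)) (hv : v * s ∈ A) (hv'S : v' ∈ (S : Subgroup G)) (hv' : v' * s ∈ A)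
    {P : Subgroup G} (hP : Closed t j v P) (hP' : Closed t j v' P) :
    zf t j v' P ≤ zf t j v P := by
  intro x hx
  obtain ⟨hxP, hxB⟩ := mem_zf.1 hx
  refine mem_zf.2 ⟨hxP, fun B hB b hb => ?_⟩
  obtain ⟨q, hq, hqt, hBq, hBo, hBi, hPB⟩ := hB
  haveI := Fact.mk hq
  have hF := h.toR1.four hv
  have hF' := h.toR1.four hv'
  have hPF := h.fpf_four hv (odd_pgroup ht hP.1) hP.2.1
  have hPo : ∀ y ∈ P, Odd (orderOf y) := fun y hy =>
    (odd_pgroup ht hP.1).of_dvd_nat (Subgroup.orderOf_dvd_natCard P hy)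
  -- a family member on one axis is centralised by `P`
  by_cases haxis : ∃ w, (w = j ∨ w = v ∨ w = j * v) ∧ ∀ b ∈ B, b * w = w * b
  · obtain ⟨w, hw, hwB⟩ := haxis
    obtain ⟨A', s', hA', hw2⟩ : ∃ A' s', Main A' s' w ∧ w * w = 1 := by
      rcases hw with e | e | e
      · rw [e]; exact ⟨A, s, h, h.jj⟩
      · obtain ⟨A', hA', h2, -⟩ := h.centre_at hv (u := v) (Or.inl rfl)
        exact ⟨A', j, e ▸ hA', e ▸ h2⟩
      · obtain ⟨A', hA', h2, -⟩ := h.centre_at hv (u := j * v) (Or.inr rfl)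
        exact ⟨A', j, e ▸ hA', e ▸ h2⟩
    have hfix : ∀ y ∈ P, y * w = w * y → y * b = b * y := fun y hy hyw =>
      hA'.hyp.comm y (hA'.odd_mem_A hyw (hPo y hy)) b
        (hA'.odd_mem_A (hwB b hb) (hBo.of_dvd_nat (Subgroup.orderOf_dvd_natCard B hb)))
    have hinv : ∀ y ∈ P, w * y * w = y⁻¹ → y * b = b * y := fun y hy hyw =>
      comm_of_inverted hw2 hyw (hPo y hy) (hwB b hb)
        (hwB _ ((Subgroup.mem_normalizer_iff.1 (hPB hy) b).1 hb))
    have hle : P ≤ Subgroup.centralizer ({b} : Set G) := by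
      refine hPF.le_of_axes ?_ ?_ ?_ <;> intro y hy <;>
        rw [Subgroup.mem_centralizer_singleton_iff] <;>
        rcases hw with e | e | e
      · exact hfix y (ax_le _ _ hy) (e ▸ (mem_ax.1 hy).2.symm)
      · exact hinv y (ax_le _ _ hy) (e ▸ hPF.inverts hy)
      · exact hinv y (ax_le _ _ hy) (e ▸ hPF.inverts' hy)
      · exact hinv y (ax_le _ _ hy) (e ▸ hPF.swap.inverts hy)
      · exact hfix y (ax_le _ _ hy) (e ▸ (mem_ax.1 hy).2.symm)
      · exact hinv y (ax_le _ _ hy) (e ▸ hPF.swap.inverts' hy)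
      · exact hinv y (ax_le _ _ hy) (e ▸ hPF.rot.rot.inverts hy)
      · exact hinv y (ax_le _ _ hy) (e ▸ hPF.rot.rot.inverts' hy)
      · exact hfix y (ax_le _ _ hy) (e ▸ (mem_ax.1 hy).2.symm)
    exact (Subgroup.mem_centralizer_singleton_iff.1 (hle hxP)).symm
  push Not at haxis
  have hnle : ∀ w, (w = j ∨ w = v ∨ w = j * v) → ¬ B ≤ tPart q w := fun w hw hle => by
    obtain ⟨b', hb', hne⟩ := haxis w hw
    exact hne (tPart_comm (hle hb'))
  have hq2 : q ≠ 2 := by
    rintro rfl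
    obtain ⟨k, hk⟩ := IsPGroup.iff_card.1 hBq
    rcases k with _ | k
    · obtain ⟨b', hb', hne⟩ := haxis j (Or.inl rfl)
      rw [pow_zero, Subgroup.card_eq_one] at hk
      rw [hk, Subgroup.mem_bot] at hb'
      exact hne (by rw [hb', one_mul, mul_one])
    · exact Nat.not_even_iff_odd.2 hBo (hk ▸ even_iff_two_dvd.2 (dvd_pow_self 2 k.succ_ne_zero))
  obtain ⟨Pq, hPq⟩ := h.exists_closed hq2 hv hBq hBi (hnle j (Or.inl rfl)) (hnle v (Or.inr (Or.inl rfl)))
    (hnle _ (Or.inr (Or.inr rfl)))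
  have hBP : B ≤ Pq := hPq.2.2 B hBq hBi
  have hPq' : Closed q j v' Pq := h.canon IH hq2 hS hvS hv hPq
    (fun e => hnle j (Or.inl rfl) ((hBP.trans e.le).trans bot_le)) hv'S hv'
  set C : Subgroup G := ⨅ p : P, Pq.comap (MulAut.conj (p : G)).toMonoidHom with hC
  have memC : ∀ y, y ∈ C ↔ ∀ p ∈ P, p * y * p⁻¹ ∈ Pq := fun y => by
    rw [hC, Subgroup.mem_iInf]
    exact ⟨fun hh p hp => hh ⟨p, hp⟩, fun hh p => hh p p.2⟩
  have hCP : C ≤ Pq := fun y hy => by simpa using (memC y).1 hy 1 (one_mem P)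
  have hBC : B ≤ C := fun y hy => (memC y).2 fun p hp =>
    hBP ((Subgroup.mem_normalizer_iff.1 (hPB hp) y).1 hy)
  have hCi : Inv j v' C := by
    have key : ∀ i : G, i * i = 1 → (∀ y ∈ P, i * y * i ∈ P) → (∀ y ∈ Pq, i * y * i ∈ Pq) →
        ∀ y ∈ C, i * y * i ∈ C := by
      intro i hi hiP hiQ y hy
      refine (memC _).2 fun p hp => ?_
      have h1 := hiQ _ ((memC y).1 hy _ (hiP p hp))
      rwa [invol_conj_mul hi, invol_conj_mul hi, invol_conj_inv hi, invol_conj_conj hi] at h1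
    exact ⟨key j h.jj hP'.2.1.1 hPq'.2.1.1, key v' hF'.vv hP'.2.1.2 hPq'.2.1.2⟩
  refine hxB C ⟨q, hq, hqt, hPq.1.to_le hCP, odd_pgroup hq2 (hPq.1.to_le hCP), hCi,
    fun p hp => mem_normalizer_of_forall fun y hy => (memC _).2 fun p' hp' => ?_⟩ b (hBC hb)
  have := (memC y).1 hy (p' * p) (mul_mem hp' hp)
  rwa [show p' * p * y * (p' * p)⁻¹ = p' * (p * y * p⁻¹) * p'⁻¹ by group] at this

omit IH in
/-- Elements of the `t`-core on the axes off `j` lie in `zf`. -/
theorem axis_mem_zf (ht : t ≠ 2) {v : G} (hv : v * s ∈ A) {P : Subgroup G} (hP : Closed t j v P)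
    {M : Subgroup G} (hHM : h.hyp.H ≤ M) {c : G} (hc : c ∈ pCoreOf t (core2 M)) (hcP : c ∈ P)
    (hcu : v * c = c * v ∨ (j * v) * c = c * (j * v)) : c ∈ zf t j v P := by
  refine mem_zf.2 ⟨hcP, fun B hB b hb => ?_⟩
  obtain ⟨q, hq, hqt, hBq, hBo, hBi, hPB⟩ := hB
  haveI := Fact.mk hq
  have hF := h.toR1.four hv
  have hWo : Odd (Nat.card (P ⊔ B : Subgroup G)) := odd_sup hBo (odd_pgroup ht hP.1) hPB
  have hWF := h.fpf_four hv hWo (hF.inv_sup hP.2.1 hBi)
  have hcW : c ∈ P ⊔ B := Subgroup.mem_sup_left hcP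
  have hcn : ∀ x ∈ B, c * x * c⁻¹ ∈ B := fun x hx =>
    (Subgroup.mem_normalizer_iff.1 (hPB hcP) x).1 hx
  have hBco : (Nat.card (pCoreOf t (core2 M))).Coprime (Nat.card B) :=
    IsPGroup.coprime_card_of_ne t q hqt.symm _ _ (FitOf.isPGroup_pCoreOf _ _) hBq
  have hcj : ∀ x ∈ ax B j, c * x = x * c := by
    intro x hx
    obtain ⟨hxB, hxj⟩ := mem_ax.1 hx
    have hxM : x ∈ M := hHM (Or.inl (h.odd_mem_A hxj.symm
      (hBo.of_dvd_nat (Subgroup.orderOf_dvd_natCard B hxB))))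
    have hxn : x ∈ Subgroup.normalizer (pCoreOf t (core2 M) : Set G) :=
      normalizer_le_normalizer_core t _ (core2_normalised M hxM)
    have e1 : c * x * c⁻¹ * x⁻¹ ∈ B := mul_mem (hcn x hxB) (inv_mem hxB)
    have e2 : c * x * c⁻¹ * x⁻¹ ∈ pCoreOf t (core2 M) := by
      rw [mul_assoc c, mul_assoc c]
      exact mul_mem hc ((Subgroup.mem_normalizer_iff.1 hxn _).1 (inv_mem hc))
    have e3 : c * x * c⁻¹ * x⁻¹ = 1 := orderOf_eq_one_iff.1 (Nat.eq_one_of_dvd_coprimes hBco
      (Subgroup.orderOf_dvd_natCard _ e2) (Subgroup.orderOf_dvd_natCard _ e1))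
    rw [mul_inv_eq_one, mul_inv_eq_iff_eq_mul] at e3
    exact e3
  have hco : (orderOf c).Coprime (Nat.card B) :=
    hBco.coprime_dvd_left (Subgroup.orderOf_dvd_natCard _ hc)
  rcases hcu with e | e
  · exact (hWF.swap.centralises_of_axis le_sup_right hBi.2 hBi.1 (mem_ax.2 ⟨hcW, e⟩) hcn hcj hco b hb).symm
  · exact (hWF.rot.rot.centralises_of_axis le_sup_right (hF.inv_rot hBi).2 hBi.1
      (mem_ax.2 ⟨hcW, e⟩) hcn hcj hco b hb).symm

end Main

/-- A dihedral presentation of the Sylow subgroup with centre `⟨j⟩`. -/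
theorem R1.exists_dih [Finite G] {A : Subgroup G} {s j : G} (h : R1 A s j) {S : Sylow 2 G}
    (hS : (S : Subgroup G) ≤ h.hyp.H) {v : G} (hvS : v ∈ (S : Subgroup G)) (hv : v * s ∈ A) :
    ∃ d : TwoFus.Dih (S : Subgroup G), d.z = j ∧ d.y = v := by
  haveI := Fact.mk Nat.prime_two
  obtain ⟨c, hcS, hcA, hgen⟩ := h.exists_gen hS
  have hjc : j ∈ Subgroup.zpowers c := hgen j (h.jmem_sylow hS) h.jmem
  have h2 : 2 ∣ orderOf c := by
    have := Subgroup.orderOf_dvd_natCard (Subgroup.zpowers c) hjc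
    rwa [h.j_order, Nat.card_zpowers] at this
  have hSA : (S : Subgroup G) ⊓ A = Subgroup.zpowers c :=
    le_antisymm (fun x hx => hgen x hx.1 hx.2) (Subgroup.zpowers_le.2 ⟨hcS, hcA⟩)
  have hrel : ((S : Subgroup G) ⊓ A).relIndex (S : Subgroup G) = 2 := by
    rw [Subgroup.relIndex, Subgroup.index_eq_two_iff]
    refine ⟨⟨v, hvS⟩, fun b => ?_⟩
    rcases hS b.2 with hb | hb
    · refine Or.inr ⟨⟨b.2, hb⟩, fun hbv => h.hyp.not_mem_of_mul_s hv ?_⟩
      have := mul_mem (inv_mem hb) hbv.2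
      simpa using this
    · exact Or.inl ⟨⟨mul_mem b.2 hvS, h.hyp.mul_out hb hv⟩, fun hb' => h.hyp.not_mem_of_mul_s hb hb'.2⟩
  have hcard := Subgroup.card_mul_index (((S : Subgroup G) ⊓ A).subgroupOf (S : Subgroup G))
  rw [Subgroup.relIndex] at hrel
  rw [hrel, Nat.card_congr (Subgroup.subgroupOfEquivOfLe (inf_le_left : (S : Subgroup G) ⊓ A ≤ S)).toEquiv,
    hSA, Nat.card_zpowers] at hcard
  let d : TwoFus.Dih (S : Subgroup G) :=
    { m := orderOf c
      x := c
      y := v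
      even := h2
      two_le := Nat.le_of_dvd (orderOf_pos c) h2
      hm := rfl
      hx := hcS
      hy := hvS
      yy := h.hyp.out_sq hv
      inv := h.hyp.out_conj hv hcA
      ynot := fun hm => h.hyp.not_mem_of_mul_s hv (Subgroup.zpowers_le.2 hcA hm)
      card := by rw [← hcard]; ring
      cases := fun a ha => by
        rcases hS ha with hA | hA
        · obtain ⟨i, hi⟩ := hgen a ha hA
          exact Or.inl ⟨i, hi.symm⟩
        · obtain ⟨i, hi⟩ := hgen _ (mul_mem ha hvS) (h.hyp.mul_out hA hv)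
          refine Or.inr ⟨i, ?_⟩
          rw [show c ^ i = a * v from hi, mul_assoc, h.hyp.out_sq hv, mul_one] }
  exact ⟨d, h.uniq _ ⟨Subgroup.zpowers_le.2 hcA d.z_mem, d.zz, d.z_ne⟩, rfl⟩

namespace Main

variable [Finite G] {A : Subgroup G} {s j : G} (h : Main A s j) (IH : Below G)

include h

/-- A proper subgroup over `H` cannot have one class of involutions. -/
theorem no_one_class {S : Sylow 2 G} (hS : (S : Subgroup G) ≤ h.hyp.H) {K : Subgroup G}
    (hK : h.hyp.H ≤ K) (hKne : K ≠ ⊤) {a : G} (ha : a ∈ A) (hao : Odd (orderOf a)) (ha1 : a ≠ 1)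
    (hfus : ∀ v, v ∈ (S : Subgroup G) → v * s ∈ A → ∃ n ∈ K, n * j * n⁻¹ = v) : False := by
  haveI := Fact.mk Nat.prime_two
  obtain ⟨v, hvS, hv⟩ := h.toR1.exists_out hS
  obtain ⟨d, hdz, -⟩ := h.toR1.exists_dih hS hvS hv
  have hSK : (S : Subgroup G) ≤ K := hS.trans hK
  have hcl : ∀ x ∈ K, orderOf x = 2 → ∃ k ∈ K, k * j * k⁻¹ = x := by
    intro x hx hx2
    obtain ⟨k, hk⟩ := TwoFus.exists_conj_mem (S.subtype hSK) (a := (⟨x, hx⟩ : K)) (k := 1)
      (by rw [Subgroup.orderOf_mk, pow_one, hx2])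
    rw [Sylow.coe_subtype, Subgroup.mem_subgroupOf] at hk
    have hk' : (k : G) * x * (k : G)⁻¹ ∈ (S : Subgroup G) := hk
    have h2 : orderOf ((k : G) * x * (k : G)⁻¹) = 2 := by rw [Invol.order_conj, hx2]
    obtain ⟨n, hnK, hn⟩ : ∃ n ∈ K, n * j * n⁻¹ = (k : G) * x * (k : G)⁻¹ := by
      rcases hS hk' with hA | hA
      · refine ⟨1, one_mem K, ?_⟩
        rcases h.sq_cases hA (mul_self_of_orderOf h2) with e | e
        · rw [e, orderOf_one] at h2; omega
        · rw [e]; group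
      · exact hfus _ hk' hA
    refine ⟨(k : G)⁻¹ * n, mul_mem (inv_mem k.2) hnK, ?_⟩
    rw [show (k : G)⁻¹ * n * j * ((k : G)⁻¹ * n)⁻¹ = (k : G)⁻¹ * (n * j * n⁻¹) * k by group, hn]
    group
  have hCK : ∀ g : G, g * j = j * g → g ∈ K := fun g hg => hK (h.toR1.mem_of_comm hg)
  have h5 := index_le_five S d h.oneClass hSK (fun g hg => hCK g (by
      rw [hdz, Subgroup.mem_centralizer_singleton_iff] at hg; exact hg))
    (fun x hx y hy hx2 hy2 => by
      obtain ⟨k, hk, e⟩ := hcl x hx hx2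
      obtain ⟨k', hk', e'⟩ := hcl y hy hy2
      exact ⟨k' * k⁻¹, mul_mem hk' (inv_mem hk), by rw [← e, ← e']; group⟩)
  have hcore : K.normalCore = ⊥ := by
    refine h.noOdd _ inferInstance (Nat.not_even_iff_odd.1 fun he => hKne (eq_top_iff.2 fun g _ => ?_))
    obtain ⟨x, hx⟩ := exists_prime_orderOf_dvd_card' (G := K.normalCore) 2 (even_iff_two_dvd.1 he)
    rw [← Subgroup.orderOf_coe] at hx
    obtain ⟨r, hr⟩ := isConj_iff.1 (h.oneClass x (g * j * g⁻¹) hx (by rw [Invol.order_conj, h.j_order]))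
    have hm : g * j * g⁻¹ ∈ K.normalCore := hr ▸ K.normalCore_normal.conj_mem _ x.2 r
    obtain ⟨k, hk, e⟩ := hcl _ (K.normalCore_le hm) (by rw [Invol.order_conj, h.j_order])
    have h3 : (k⁻¹ * g) * j = j * (k⁻¹ * g) := by
      calc k⁻¹ * g * j = k⁻¹ * (g * j * g⁻¹) * g := by group
        _ = k⁻¹ * (k * j * k⁻¹) * g := by rw [e]
        _ = j * (k⁻¹ * g) := by group
    have := mul_mem hk (hCK _ h3)
    rwa [mul_inv_cancel_left] at this
  refine false_of_index_le_five h5 hcore h.jj h.j_ne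
    (h.oneClass j v h.j_order (orderOf_two (h.hyp.out_sq hv) (h.toR1.out_ne hv).1))
    (h.oneClass j (j * v) h.j_order (orderOf_two (h.hyp.out_sq (h.toR1.jv_out hv))
      (h.toR1.out_ne (h.toR1.jv_out hv)).1)) hao ha1 (h.hyp.comm j h.jmem a ha)

include IH

theorem cent_of_below : Cent A j := by
  classical
  intro a ha hao ha1 g hga
  by_contra hgj
  haveI := Fact.mk Nat.prime_two
  obtain ⟨S, hS⟩ := h.sylow
  obtain ⟨v, hvS, hv⟩ := h.toR1.exists_out hS
  have hF := h.toR1.four hv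
  obtain ⟨hHN, hNne⟩ := h.normalizer_inner ha hao ha1
  set N := Subgroup.normalizer (Subgroup.zpowers a : Set G) with hNdef
  have hgN : g ∈ N := mem_normalizer_of_forall fun x hx => by
    obtain ⟨i, rfl⟩ := hx
    show g * a ^ i * g⁻¹ ∈ Subgroup.zpowers a
    rw [((show Commute g a from hga).zpow_right i).eq, mul_inv_cancel_right]
    exact Subgroup.zpow_mem_zpowers a i
  have hNcore : core2 N ≠ ⊥ := fun e => ha1 (by
    have := le_core2 (M := N) Subgroup.le_normalizer le_rfl (by rwa [Nat.card_zpowers])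
      (Subgroup.mem_zpowers a)
    rwa [e, Subgroup.mem_bot] at this)
  obtain ⟨M₁, hNM, ⟨hHM, hMne, hMcore⟩, hmax⟩ := Finite.exists_le_maximal
    (p := fun Y : Subgroup G => h.hyp.H ≤ Y ∧ Y ≠ ⊤ ∧ core2 Y ≠ ⊥) ⟨hHN, hNne, hNcore⟩
  set X₁ := core2 M₁ with hX₁
  have hjM : j ∈ M₁ := hHM (Or.inl h.jmem)
  have hvM : v ∈ M₁ := hHM (Or.inr hv)
  have hX₁A : ∃ x ∈ X₁, ¬ x * j = j * x := by
    by_contra hcon
    push Not at hcon
    by_cases hiso : ∀ d ∈ M₁, d * j * d⁻¹ * j = j * (d * j * d⁻¹) → d * j * d⁻¹ = j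
    · obtain ⟨x, hx, e⟩ := conj_in_odd (core2_odd M₁) h.j_order (by rw [Invol.order_conj, h.j_order])
        (h.toR1.isolated_core hHM hiso g (hNM hgN))
      rw [hcon x hx, mul_inv_cancel_right] at e
      exact hgj (mul_inv_eq_iff_eq_mul.1 e.symm)
    · push Not at hiso
      obtain ⟨d, hdM, hdc, hdne⟩ := hiso
      obtain ⟨w, n, hw, -, hnM, hn1, -⟩ := h.toR1.fused_trans hHM hdM hdc hdne
      refine hMcore ((Subgroup.eq_bot_iff_forall _).2 fun x hx => ?_)
      have hxo : Odd (orderOf x) := (core2_odd M₁).of_dvd_nat (Subgroup.orderOf_dvd_natCard _ hx)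
      have h1 : n⁻¹ * x * n ∈ X₁ := by
        have := core2_conj (inv_mem hnM) hx
        rwa [inv_inv] at this
      have h2 := conj_comm (g := n) (hcon _ h1)
      rw [hn1, show n * (n⁻¹ * x * n) * n⁻¹ = x by group] at h2
      have h3 := h.hyp.out_conj hw (h.odd_mem_A (hcon x hx) hxo)
      rw [← h2, mul_inv_cancel_right] at h3
      exact Invol.eq_one_of_sq_of_odd hxo (by rw [pow_two]; exact mul_eq_one_iff_eq_inv.2 h3)
  have hXi : Inv j v X₁ :=
    ⟨fun x hx => invol_conj_mem h.jj (core2_normalised M₁ hjM) hx,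
      fun x hx => invol_conj_mem hF.vv (core2_normalised M₁ hvM) hx⟩
  have hXF := h.fpf_four hv (core2_odd M₁) hXi
  haveI : Group.IsSolvable X₁ := hXF.isSolvable
  obtain ⟨t, htp, y, hy, hyj⟩ : ∃ t : ℕ, t.Prime ∧ ∃ y ∈ pCoreOf t X₁, ¬ y * j = j * y := by
    by_contra hcon
    push Not at hcon
    obtain ⟨x, hx, hxj⟩ := hX₁A
    have hFj : fittingOf X₁ ≤ Subgroup.centralizer ({j} : Set G) :=
      FitOf.fittingOf_le_iff.2 fun t ht y hy =>
        Subgroup.mem_centralizer_singleton_iff.2 (hcon t ht y hy)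
    obtain ⟨c, hc, i, hi, hij, rfl⟩ := hXF.rot.exists_fixed_mul_inverted hx
    refine hxj ?_
    have hio : Odd (orderOf i) := (core2_odd M₁).of_dvd_nat (Subgroup.orderOf_dvd_natCard _ hi)
    have hiF : i ∈ fittingOf X₁ := by
      refine FitOf.inf_centralizer_fittingOf_le X₁ ⟨hi, Subgroup.mem_centralizer_iff.2 fun f hf => ?_⟩
      exact (comm_of_inverted h.jj hij hio (Subgroup.mem_centralizer_singleton_iff.1 (hFj hf))
        (Subgroup.mem_centralizer_singleton_iff.1
          (hFj ((Subgroup.mem_normalizer_iff.1 (FitOf.le_normalizer_fittingOf X₁ hi) f).1 hf)))).symm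
    have hi1 : i = 1 := by
      have e := Subgroup.mem_centralizer_singleton_iff.1 (hFj hiF)
      rw [← e, mul_assoc, h.jj, mul_one] at hij
      exact Invol.eq_one_of_sq_of_odd hio (by rw [pow_two]; exact mul_eq_one_iff_eq_inv.2 hij)
    rw [hi1, mul_one]
    exact (mem_ax.1 hc).2.symm
  haveI := Fact.mk htp
  set Q := pCoreOf t X₁ with hQ
  have hy1 : y ≠ 1 := fun e => hyj (by rw [e, one_mul, mul_one])
  have ht : t ≠ 2 := by
    rintro rfl
    obtain ⟨k, hk⟩ := isPGroup_orderOf (FitOf.isPGroup_pCoreOf 2 X₁) hy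
    have hd := Subgroup.orderOf_dvd_natCard X₁ (FitOf.pCoreOf_le 2 X₁ hy)
    rcases k with _ | k
    · exact hy1 (orderOf_eq_one_iff.1 hk)
    · exact Nat.not_even_iff_odd.2 (core2_odd M₁)
        (even_iff_two_dvd.2 ((hk ▸ dvd_pow_self 2 k.succ_ne_zero).trans hd))
  have hMQ : M₁ ≤ Subgroup.normalizer (Q : Set G) :=
    (core2_normalised M₁).trans (normalizer_le_normalizer_core t X₁)
  have hQne : Subgroup.normalizer (Q : Set G) ≠ ⊤ := fun e => hy1 (by
    haveI : Q.Normal := Subgroup.normalizer_eq_top_iff.1 e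
    exact Subgroup.mem_bot.1 (h.noOdd Q this (odd_pgroup ht (FitOf.isPGroup_pCoreOf t X₁)) ▸ hy))
  have hNQ : Subgroup.normalizer (Q : Set G) = M₁ := by
    refine le_antisymm (hmax ⟨hHM.trans hMQ, hQne, fun e => hy1 ?_⟩ hMQ) hMQ
    have := le_core2 (M := Subgroup.normalizer (Q : Set G)) Subgroup.le_normalizer le_rfl
      (odd_pgroup ht (FitOf.isPGroup_pCoreOf t X₁)) hy
    rwa [e, Subgroup.mem_bot] at this
  have hRn : tPart t j ≤ Subgroup.normalizer (Q : Set G) := fun r hr =>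
    hMQ (hHM (Or.inl (h.tPart_le ht hr)))
  have hYp : IsPGroup t (tPart t j ⊔ Q : Subgroup G) :=
    IsPGroup.to_sup_of_normal_right' (h.tPart_pgroup ht) (FitOf.isPGroup_pCoreOf t X₁) hRn
  have hyY : y ∈ tPart t j ⊔ Q := Subgroup.mem_sup_right hy
  have hoff : ∀ u, (u = v ∨ u = j * v) → ¬ (tPart t j ⊔ Q ≤ tPart t u) := by
    intro u hu hle
    have hcu : Nat.card (tPart t u) = Nat.card (tPart t j) := by
      rcases hu with e | e <;> rw [e]
      · exact (h.tPart_card hv).1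
      · exact (h.tPart_card hv).2
    have hbot : tPart t j = ⊥ := (Subgroup.eq_bot_iff_forall _).2 fun r hr => by
      have hrj : r * j = j * r := tPart_comm hr
      have hru : r * u = u * r := tPart_comm (hle (Subgroup.mem_sup_left hr))
      have hro : Odd (orderOf r) :=
        (odd_pgroup ht (h.tPart_pgroup ht)).of_dvd_nat (Subgroup.orderOf_dvd_natCard _ hr)
      have huA : u * s ∈ A := by
        rcases hu with e | e <;> rw [e]
        · exact hv
        · exact h.toR1.jv_out hv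
      have e := h.hyp.out_conj huA (h.tPart_le ht hr)
      rw [← hru, mul_inv_cancel_right] at e
      exact Invol.eq_one_of_sq_of_odd hro (by rw [pow_two]; exact mul_eq_one_iff_eq_inv.2 e)
    have := hle hyY
    rw [show tPart t u = ⊥ from Subgroup.card_eq_one.1 (by rw [hcu, hbot, Subgroup.card_bot]),
      Subgroup.mem_bot] at this
    exact hy1 this
  obtain ⟨P, hP⟩ := h.exists_closed ht hv hYp (hF.inv_sup (h.tPart_inv ht hv) (hF.inv_pCoreOf hXi t))
    (fun hle => hyj (tPart_comm (hle hyY))) (hoff v (Or.inl rfl)) (hoff _ (Or.inr rfl))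
  have hQP : Q ≤ P := hP.2.2 Q (FitOf.isPGroup_pCoreOf t X₁) (hF.inv_pCoreOf hXi t)
  have hPne : P ≠ ⊥ := fun e => hy1 (Subgroup.mem_bot.1 (e ▸ hQP hy))
  have hPF := h.fpf_four hv (odd_pgroup ht hP.1) hP.2.1
  -- a proper subgroup whose core has an element of its `t`-core off the first axis
  obtain ⟨M, hHM', hMne', hPX, c, hcQ, hcj⟩ : ∃ M, h.hyp.H ≤ M ∧ M ≠ ⊤ ∧ P ≤ core2 M ∧
      ∃ c ∈ pCoreOf t (core2 M), ¬ c * j = j * c := by
    by_cases hab : ∀ x ∈ P, ∀ z ∈ P, x * z = z * x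
    · refine ⟨M₁, hHM, hMne, h.closed_le_core IH ht hv hP hHM hMne ?_, y, hy, hyj⟩
      rw [← hNQ]
      exact fun x hx => mem_normalizer_of_forall fun z hz => by
        rwa [hab x hx z (hQP hz), mul_inv_cancel_right]
    · obtain ⟨M, hHM', hMne', hPM⟩ := h.exists_over ht hv hP hPne
      have hPX := h.closed_le_core IH ht hv hP hHM' hMne' hPM
      refine ⟨M, hHM', hMne', hPX, ?_⟩
      have hvM' : v ∈ M := hHM' (Or.inr hv)
      have hXi' : Inv j v (core2 M) :=
        ⟨fun x hx => invol_conj_mem h.jj (core2_normalised M (hHM' (Or.inl h.jmem))) hx,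
          fun x hx => invol_conj_mem hF.vv (core2_normalised M hvM') hx⟩
      have hMF := h.fpf_four hv (core2_odd M) hXi'
      haveI : Group.IsSolvable (core2 M) := hMF.isSolvable
      have hder : ⁅P, P⁆ ≤ pCoreOf t (core2 M) := by
        refine hMF.mem_pCoreOf_of_centralises ((commutator_self_le P).trans hPX)
          (hP.1.to_le (commutator_self_le P)) fun r hr hne => ?_
        haveI := Fact.mk hr
        haveI := FitOf.fittingOf_nilpotent (core2 M)
        exact SolvMinNN.le_centralizer_of_nilpotent (W := fittingOf (core2 M)) (A := ⁅P, P⁆)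
          (B := pCoreOf r (core2 M)) ((Subgroup.commutator_mono hPX hPX).trans hMF.derived_le_fitting)
          (FitOf.pCoreOf_le_fittingOf hr (core2 M)) htp hr hne.symm
          (hP.1.to_le (commutator_self_le P)) (FitOf.isPGroup_pCoreOf r (core2 M))
      by_contra hcon
      push Not at hcon
      apply hab
      intro x hx z hz
      rw [← commutatorElement_eq_one_iff_mul_comm]
      have hm : ⁅x, z⁆ ∈ ⁅P, P⁆ := Subgroup.commutator_mem_commutator hx hz
      obtain ⟨n, hn1, hn2⟩ := h.exists_global hv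
      have hn3 : n⁻¹ * v * n = j := by nth_rewrite 1 [← hn1]; group
      have hn4 : n⁻¹ * j * n = j * v := by
        have e : n * (j * v) * n⁻¹ = j := by
          rw [conj_pair hF.comm, hn1, hn2, ← mul_assoc, ← hF.comm, mul_assoc, hF.vv, mul_one]
        nth_rewrite 1 [← e]; group
      have hnP := hP.mem_normalizer hF (by rw [hn4]; exact hF.w_mem) (by rw [hn3]; exact hF.u_mem)
      have hm' : n⁻¹ * ⁅x, z⁆ * n ∈ ⁅P, P⁆ := by
        rw [show n⁻¹ * ⁅x, z⁆ * n = ⁅n⁻¹ * x * n, n⁻¹ * z * n⁆ by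
          simp only [commutatorElement_def]; group]
        exact Subgroup.commutator_mem_commutator ((Subgroup.mem_normalizer_iff''.1 hnP x).1 hx)
          ((Subgroup.mem_normalizer_iff''.1 hnP z).1 hz)
      have e1 := conj_comm (g := n) (hcon _ (hder hm'))
      rw [hn1, show n * (n⁻¹ * ⁅x, z⁆ * n) * n⁻¹ = ⁅x, z⁆ by group] at e1
      exact hPF.triv _ (commutator_self_le P hm) (hcon _ (hder hm)).symm e1.symm
  set X := core2 M with hX
  have hXi' : Inv j v X :=
    ⟨fun x hx => invol_conj_mem h.jj (core2_normalised M (hHM' (Or.inl h.jmem))) hx,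
      fun x hx => invol_conj_mem hF.vv (core2_normalised M (hHM' (Or.inr hv))) hx⟩
  have hMF := h.fpf_four hv (core2_odd M) hXi'
  haveI : Group.IsSolvable X := hMF.isSolvable
  set QM := pCoreOf t X with hQM
  have hQMP : QM ≤ P := hP.2.2 QM (FitOf.isPGroup_pCoreOf t X) (hF.inv_pCoreOf hXi' t)
  have hQF := hPF.mono' hQMP (hF.inv_pCoreOf hXi' t)
  set Z := zf t j v P with hZ
  have hinv_mem : ∀ i ∈ QM, j * i * j = i⁻¹ → i ∈ Z := by
    intro i hi hij
    obtain ⟨p, hp, r, hr, rfl⟩ := hQF.rot.exists_aba hi hij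
    have h1 : p ∈ Z := h.axis_mem_zf ht hv hP hHM' (ax_le _ _ hp) (hQMP (ax_le _ _ hp))
      (Or.inl (mem_ax.1 hp).2)
    exact mul_mem (mul_mem h1 (h.axis_mem_zf ht hv hP hHM' (ax_le _ _ hr) (hQMP (ax_le _ _ hr))
      (Or.inr (mem_ax.1 hr).2))) h1
  have hgroup : ∀ x ∈ hF.group, x ∈ Subgroup.normalizer (Z : Set G) := by
    intro x hx
    have hc : ∀ y ∈ hF.group, x * y * x⁻¹ ∈ hF.group := fun y hy =>
      mul_mem (mul_mem hx hy) (inv_mem hx)
    exact zf_normalizer hF (hF.inv_iff.1 hP.2.1 hx) (hc j hF.u_mem) (hc v hF.v_mem)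
  have hZi : Inv j v Z := hF.inv_iff.2 hgroup
  have hZQ : Z ≤ QM := by
    refine hMF.mem_pCoreOf_of_centralises (zf_le.trans hPX) (hP.1.to_le zf_le) fun r hr hne x hx =>
      Subgroup.mem_centralizer_iff.2 fun b hb => (mem_zf.1 hx).2 (pCoreOf r X) ?_ b hb
    exact ⟨r, hr, hne, FitOf.isPGroup_pCoreOf r X,
      (core2_odd M).of_dvd_nat (Subgroup.card_dvd_of_le (FitOf.pCoreOf_le r X)),
      hF.inv_pCoreOf hXi' r, hPX.trans (FitOf.le_normalizer_pCoreOf r X)⟩
  have hZne : Z ≠ ⊥ := by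
    obtain ⟨p, hp, i, hi, hij, rfl⟩ := hQF.rot.exists_fixed_mul_inverted hcQ
    intro e
    have := hinv_mem i hi hij
    rw [e, Subgroup.mem_bot] at this
    exact hcj (by rw [this, mul_one]; exact (mem_ax.1 hp).2.symm)
  have hZo : Odd (Nat.card Z) := odd_pgroup ht (hP.1.to_le zf_le)
  set K := Subgroup.normalizer (Z : Set G) with hKdef
  have hAK : A ≤ K := by
    intro r hr
    refine mem_normalizer_of_forall fun x hx => ?_
    obtain ⟨p, hp, i, hi, hij, rfl⟩ := (hPF.mono' zf_le hZi).rot.exists_fixed_mul_inverted hx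
    obtain ⟨hpZ, hpj⟩ := mem_ax.1 hp
    have hpA : p ∈ A := h.odd_mem_A hpj.symm (hZo.of_dvd_nat (Subgroup.orderOf_dvd_natCard _ hpZ))
    rw [show r * (p * i) * r⁻¹ = (r * p * r⁻¹) * (r * i * r⁻¹) by group, h.hyp.comm r hr p hpA,
      mul_inv_cancel_right]
    refine mul_mem hpZ (hinv_mem _ ((Subgroup.mem_normalizer_iff.1
      (normalizer_le_normalizer_core t X (core2_normalised M (hHM' (Or.inl hr)))) i).1 (hZQ hi)) ?_)
    rw [invol_conj_mul h.jj, invol_conj_mul h.jj, invol_conj_inv h.jj, hij,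
      show j * r * j = r by rw [h.hyp.comm j h.jmem r hr, mul_assoc, h.jj, mul_one]]
    group
  have hHK : h.hyp.H ≤ K := by
    rintro x (hx | hx)
    · exact hAK hx
    · have : x = x * v * v := by rw [mul_assoc, hF.vv, mul_one]
      rw [this]
      exact mul_mem (hAK (h.hyp.mul_out hx hv)) (hgroup v hF.v_mem)
  refine h.no_one_class hS hHK (fun e => hZne ?_) ha hao ha1 fun v' hv'S hv' => ?_
  · exact h.noOdd Z (Subgroup.normalizer_eq_top_iff.1 e) hZo
  · have hF' := h.toR1.four hv'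
    have hP' := h.canon IH ht hS hvS hv hP hPne hv'S hv'
    have hZeq : Z = zf t j v' P := le_antisymm
      (h.zf_le_centralizer IH ht hS hv'S hv' hvS hv hP' hP)
      (h.zf_le_centralizer IH ht hS hvS hv hv'S hv' hP hP')
    obtain ⟨n, hn1, hn2⟩ := h.exists_global hv'
    have hn3 : n * (j * v') * n⁻¹ = j := by
      rw [conj_pair hF'.comm, hn1, hn2, ← mul_assoc, ← hF'.comm, mul_assoc, hF'.vv, mul_one]
    refine ⟨n, ?_, hn1⟩
    rw [hKdef, hZeq]
    refine zf_normalizer hF' (hP'.mem_normalizer hF' ?_ ?_) (by rw [hn1]; exact hF'.v_mem)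
      (by rw [hn2]; exact hF'.w_mem)
    · rw [show n⁻¹ * j * n = j * v' by nth_rewrite 1 [← hn3]; group]; exact hF'.w_mem
    · rw [show n⁻¹ * v' * n = j by nth_rewrite 1 [← hn1]; group]; exact hF'.u_mem

end Main

/-- In a one-class configuration odd elements of `A` have centralisers inside `H`. -/
theorem cent (G : Type u) [Group G] [Finite G] {A : Subgroup G} {s j : G} (h : Main A s j) :
    Cent A j := by
  suffices key : ∀ n (L : Type u) [Group L] [Finite L], Nat.card L = n →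
      ∀ (A : Subgroup L) (s j : L), Main A s j → Cent A j from key _ G rfl A s j h
  intro n
  induction n using Nat.strong_induction_on with
  | _ n ih =>
    intro L _ _ hn A s j hA
    exact hA.cent_of_below fun L' _ _ hlt A' s' j' hA' =>
      ih _ (hn ▸ hlt) L' rfl A' s' j' hA'

end Cfsg.Agent.DGroup
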